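import Mathlib
import Cfsg.Agent.Lib.Grp.CoprimeAbelian

/-!
Finite groups all of whose element orders are at most five.
-/

set_option autoImplicit false
set_option linter.unusedSectionVars false
set_option linter.style.haveILetI false

namespace Cfsg.Agent.Block.Spec5

open Subgroup

universe u

variable {G : Type u} [Group G]

/-- All element orders are at most five. -/
def Ord5 (G : Type u) [Group G] : Prop := ∀ g : G, orderOf g ≤ 5

variable [Finite G]

theorem Ord5.subgroup (h : Ord5 G) (H : Subgroup G) : Ord5 H := fun g => by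
  rw [← Subgroup.orderOf_coe]; exact h g

theorem Ord5.quotient (h : Ord5 G) (N : Subgroup G) [N.Normal] : Ord5 (G ⧸ N) := fun g => by
  obtain ⟨x, rfl⟩ := QuotientGroup.mk'_surjective N g
  exact le_trans (Nat.le_of_dvd (orderOf_pos x) (orderOf_map_dvd _ x)) (h x)

theorem Ord5.of_equiv {K : Type u} [Group K] (h : Ord5 G) (e : G ≃* K) : Ord5 K := fun g => by
  rw [← e.symm.orderOf_eq]; exact h _

theorem Ord5.isPrimePow (h : Ord5 G) (g : G) (hg : g ≠ 1) : IsPrimePow (orderOf g) := by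
  have h1 := orderOf_pos g
  have h5 := h g
  have hne : orderOf g ≠ 1 := fun e => hg (orderOf_eq_one_iff.mp e)
  interval_cases hn : orderOf g
  · exact absurd rfl hne
  · exact Nat.prime_two.isPrimePow
  · exact Nat.prime_three.isPrimePow
  · exact (isPrimePow_nat_iff _).mpr ⟨2, 2, Nat.prime_two, two_pos, rfl⟩
  · exact Nat.prime_five.isPrimePow

theorem Ord5.pow_cases (h : Ord5 G) (g : G) : g ^ 4 = 1 ∨ g ^ 3 = 1 ∨ g ^ 5 = 1 := by
  have h1 := orderOf_pos g
  have h5 := h g
  simp only [← orderOf_dvd_iff_pow_eq_one]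
  interval_cases orderOf g <;> norm_num

theorem Ord5.commute_cases (h : Ord5 G) {a b : G} (hab : Commute a b)
    (hco : (orderOf a).Coprime (orderOf b)) : a = 1 ∨ b = 1 := by
  by_contra hc
  push Not at hc
  have e := hab.orderOf_mul_eq_mul_orderOf_of_coprime hco
  have h5 := h (a * b)
  rw [e] at h5
  have ha1 : 2 ≤ orderOf a := by
    have := orderOf_pos a
    have : orderOf a ≠ 1 := fun e => hc.1 (orderOf_eq_one_iff.mp e)
    omega
  have hb1 : 2 ≤ orderOf b := by
    have := orderOf_pos b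
    have : orderOf b ≠ 1 := fun e => hc.2 (orderOf_eq_one_iff.mp e)
    omega
  have h3 : orderOf a = 2 ∧ orderOf b = 2 := by
    constructor <;> nlinarith
  rw [h3.1, h3.2] at hco
  norm_num at hco

/-- An element of odd prime order centralises no element of exponent four. -/
theorem Ord5.fix_eq_one (h : Ord5 G) {p : ℕ} (hp : p.Prime) (hp2 : p ≠ 2) {k y : G} (hk : k ^ p = 1)
    (hk1 : k ≠ 1) (hy : y ^ 4 = 1) (hc : Commute k y) : y = 1 := by
  refine (h.commute_cases hc ?_).resolve_left hk1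
  have hd : orderOf y ∣ 4 := orderOf_dvd_of_pow_eq_one hy
  haveI := Fact.mk hp
  rw [orderOf_eq_prime hk hk1]
  refine Nat.Coprime.coprime_dvd_right hd ?_
  rw [show (4 : ℕ) = 2 ^ 2 by norm_num]
  exact ((Nat.coprime_primes hp Nat.prime_two).mpr hp2).pow_right 2

theorem Ord5.prime_cases (h : Ord5 G) {p : ℕ} (hp : p.Prime) (hd : p ∣ Nat.card G) :
    p = 2 ∨ p = 3 ∨ p = 5 := by
  haveI := Fact.mk hp
  obtain ⟨x, hx⟩ := exists_prime_orderOf_dvd_card' p hd
  have h5 := h x
  rw [hx] at h5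
  have := hp.two_le
  interval_cases p <;> first | omega | norm_num at hp

theorem Ord5.pow_four (h : Ord5 G) {H : Subgroup G} (hH : IsPGroup 2 H) {x : G} (hx : x ∈ H) :
    x ^ 4 = 1 := by
  obtain ⟨k, hk⟩ := IsPGroup.iff_orderOf.mp hH ⟨x, hx⟩
  rw [Subgroup.orderOf_mk] at hk
  have h5 := h x
  rw [hk] at h5
  have hk2 : k ≤ 2 := by
    by_contra hc
    have : 2 ^ 3 ≤ 2 ^ k := Nat.pow_le_pow_right two_pos (by omega)
    omega
  rw [← orderOf_dvd_iff_pow_eq_one, hk, show (4 : ℕ) = 2 ^ 2 by norm_num]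
  exact Nat.pow_dvd_pow 2 hk2

theorem Ord5.pow_prime (h : Ord5 G) {p : ℕ} [hp : Fact p.Prime] (hp2 : p ≠ 2) {H : Subgroup G}
    (hH : IsPGroup p H) {x : G} (hx : x ∈ H) : x ^ p = 1 := by
  obtain ⟨k, hk⟩ := IsPGroup.iff_orderOf.mp hH ⟨x, hx⟩
  rw [Subgroup.orderOf_mk] at hk
  have h5 := h x
  rw [hk] at h5
  have hp3 : 3 ≤ p := by
    have := hp.out.two_le
    omega
  have hk2 : k ≤ 1 := by
    by_contra hc
    have : 3 ^ 2 ≤ p ^ k := (Nat.pow_le_pow_left hp3 2).trans (Nat.pow_le_pow_right (by omega) (by omega))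
    omega
  rw [← orderOf_dvd_iff_pow_eq_one, hk]
  simpa using Nat.pow_dvd_pow p hk2

/-- The centraliser of a nontrivial element of exponent four is a `2`-group. -/
theorem Ord5.centralizer_two (h : Ord5 G) {y : G} (hy : y ^ 4 = 1) (hy1 : y ≠ 1) :
    IsPGroup 2 (centralizer ({y} : Set G)) := by
  intro ⟨c, hc⟩
  have hcy : Commute c y := Subgroup.mem_centralizer_singleton_iff.mp hc
  refine ⟨2, Subtype.ext ?_⟩
  show c ^ 4 = 1
  rcases h.pow_cases c with h4 | h3 | h5
  · exact h4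
  · by_contra hne
    have hc1 : c ≠ 1 := fun e => hne (by rw [e, one_pow])
    exact hy1 (h.fix_eq_one Nat.prime_three (by norm_num) h3 hc1 hy hcy)
  · by_contra hne
    have hc1 : c ≠ 1 := fun e => hne (by rw [e, one_pow])
    exact hy1 (h.fix_eq_one Nat.prime_five (by norm_num) h5 hc1 hy hcy)

theorem Ord5.centralizer_involution (h : Ord5 G) {t : G} (ht : orderOf t = 2) :
    IsPGroup 2 (centralizer ({t} : Set G)) := by
  refine h.centralizer_two ?_ ?_
  · rw [← orderOf_dvd_iff_pow_eq_one, ht]; norm_num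
  · intro e; rw [e, orderOf_one] at ht; omega

/-- The centraliser of an element of odd prime order `p` has exponent `p`. -/
theorem Ord5.centralizer_odd (h : Ord5 G) {p : ℕ} (hp : p.Prime) (hp2 : p ≠ 2) {k : G}
    (hk : k ^ p = 1) (hk1 : k ≠ 1) {c : G} (hc : Commute k c) : c ^ p = 1 := by
  haveI := Fact.mk hp
  have hok := orderOf_eq_prime hk hk1
  have hd : p ∣ Nat.card G := hok ▸ orderOf_dvd_natCard k
  have aux : ∀ q : ℕ, q.Prime → p ≠ q → c ^ q = 1 → c ^ p = 1 := fun q hq hpq hcq => by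
    rcases eq_or_ne c 1 with rfl | hc1
    · exact one_pow p
    haveI := Fact.mk hq
    refine absurd ((h.commute_cases hc ?_).resolve_left hk1) hc1
    rw [hok, orderOf_eq_prime hcq hc1]
    exact (Nat.coprime_primes hp hq).mpr hpq
  rcases h.pow_cases c with h4 | h3 | h5
  · rw [h.fix_eq_one hp hp2 hk hk1 h4 hc, one_pow]
  · by_cases e : p = 3
    · rw [e]; exact h3
    · exact aux 3 Nat.prime_three e h3
  · by_cases e : p = 5
    · rw [e]; exact h5
    · exact aux 5 Nat.prime_five e h5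

theorem Ord5.centralizer_isPGroup (h : Ord5 G) {p : ℕ} (hp : p.Prime) (hp2 : p ≠ 2) {k : G}
    (hk : k ^ p = 1) (hk1 : k ≠ 1) : IsPGroup p (centralizer ({k} : Set G)) := fun ⟨_, hc⟩ =>
  ⟨1, Subtype.ext (by
    rw [pow_one]; exact h.centralizer_odd hp hp2 hk hk1 (Subgroup.mem_centralizer_singleton_iff.mp hc).symm)⟩

/-- An abelian group acting on a nontrivial group of coprime prime-power order is cyclic. -/
theorem Ord5.cyclic_of_fpf (h : Ord5 G) {q : ℕ} [hq : Fact q.Prime] {A V : Subgroup G}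
    [IsMulCommutative A] (hV : IsPGroup q V) (hV1 : V ≠ ⊥) (hAV : A ≤ normalizer (V : Set G))
    (hco : (Nat.card A).Coprime q) : IsCyclic A := by
  haveI : Nontrivial V := (Subgroup.nontrivial_iff_ne_bot _).mpr hV1
  haveI := hV.center_nontrivial
  set Z := (center V).map V.subtype with hZdef
  have hZV : Z ≤ V := Subgroup.map_subtype_le _
  have hZ1 : Z ≠ ⊥ := fun e => (Subgroup.nontrivial_iff_ne_bot _).mp ‹Nontrivial (center V)›
    ((Subgroup.map_eq_bot_iff_of_injective _ V.subtype_injective).mp e)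
  haveI : IsMulCommutative Z := inferInstance
  have hAZ : A ≤ normalizer (Z : Set G) := by
    intro a ha
    rw [Subgroup.mem_normalizer_iff]
    have key : ∀ b ∈ A, ∀ z ∈ Z, b * z * b⁻¹ ∈ Z := by
      rintro b hb _ ⟨⟨z, hz⟩, hzc, rfl⟩
      have hzb : b * z * b⁻¹ ∈ V := (Subgroup.mem_normalizer_iff.mp (hAV hb) z).mp hz
      refine ⟨⟨_, hzb⟩, Subgroup.mem_center_iff.mpr fun w => Subtype.ext ?_, rfl⟩
      have hwb : b⁻¹ * (w : G) * b ∈ V :=
        (Subgroup.mem_normalizer_iff''.mp (hAV hb) (w : G)).mp w.2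
      have e := congrArg Subtype.val (Subgroup.mem_center_iff.mp hzc ⟨_, hwb⟩)
      simp only [Subgroup.coe_mul] at e
      show (w : G) * (b * z * b⁻¹) = b * z * b⁻¹ * w
      calc (w : G) * (b * z * b⁻¹) = b * ((b⁻¹ * w * b) * z) * b⁻¹ := by group
        _ = b * (z * (b⁻¹ * w * b)) * b⁻¹ := by rw [e]
        _ = _ := by group
    intro z
    refine ⟨key a ha z, fun hz => ?_⟩
    have := key a⁻¹ (inv_mem ha) _ hz
    simpa [mul_assoc] using this
  refine Cfsg.Agent.Grp.exists_centralizer_ne_bot_aux A Z hZ1 hAZ fun a ha ha1 => ?_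
  refine (Subgroup.eq_bot_iff_forall _).mpr fun v hv => ?_
  refine (h.commute_cases (Subgroup.mem_centralizer_singleton_iff.mp hv.2).symm ?_).resolve_left ha1
  obtain ⟨k, hk⟩ := IsPGroup.iff_orderOf.mp hV ⟨v, hZV hv.1⟩
  rw [Subgroup.orderOf_mk] at hk
  rw [hk]
  refine Nat.Coprime.pow_right k (hco.coprime_dvd_left ?_)
  simpa [Subgroup.orderOf_mk] using orderOf_dvd_natCard (⟨a, ha⟩ : A)

/-- An odd `p`-group normalising a nontrivial group of prime-power order for another prime has order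
at most `p`. -/
theorem Ord5.card_dvd_of_fpf (h : Ord5 G) {p q : ℕ} [hp : Fact p.Prime] [hq : Fact q.Prime] (hp2 : p ≠ 2)
    (hpq : p ≠ q) {P V : Subgroup G} (hP : IsPGroup p P) (hV : IsPGroup q V) (hV1 : V ≠ ⊥)
    (hPV : P ≤ normalizer (V : Set G)) : Nat.card P ∣ p := by
  rcases eq_or_ne P ⊥ with rfl | hPb
  · simp
  haveI : Nontrivial P := (Subgroup.nontrivial_iff_ne_bot _).mpr hPb
  haveI := hP.center_nontrivial
  obtain ⟨⟨z, hz⟩, hz1⟩ := exists_ne (1 : Subgroup.center P)
  have hzv1 : (z : G) ≠ 1 := fun e => hz1 (Subtype.ext (Subtype.ext e))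
  have hzp : (z : G) ^ p = 1 := h.pow_prime hp2 hP z.2
  suffices hs : P = zpowers (z : G) by
    rw [hs, Nat.card_zpowers, orderOf_eq_prime hzp hzv1]
  refine le_antisymm (fun y hy => ?_) (zpowers_le.mpr z.2)
  have hzy : Commute (z : G) y := congrArg Subtype.val (Subgroup.mem_center_iff.mp hz ⟨y, hy⟩).symm
  let A := closure ({(z : G), y} : Set G)
  have hAle : A ≤ P := by
    rw [closure_le]
    rintro a (rfl | rfl)
    · exact z.2
    · exact hy
  haveI : IsMulCommutative A := by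
    refine isMulCommutative_closure ?_
    rintro a (rfl | rfl) b (rfl | rfl)
    exacts [rfl, hzy.eq, hzy.eq.symm, rfl]
  have hco : (Nat.card A).Coprime q := by
    obtain ⟨k, hk⟩ := IsPGroup.iff_card.mp (hP.to_le hAle)
    rw [hk]
    exact ((Nat.coprime_primes hp.out hq.out).mpr hpq).pow_left k
  obtain ⟨⟨g, hg⟩, hgen⟩ := h.cyclic_of_fpf hV hV1 (hAle.trans hPV) hco
  have hmem : ∀ a : G, a ∈ A → a ∈ zpowers g := fun a ha => by
    obtain ⟨i, hi⟩ := Subgroup.mem_zpowers_iff.mp (hgen ⟨a, ha⟩)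
    exact ⟨i, congrArg Subtype.val hi⟩
  have hle : zpowers (z : G) ≤ zpowers g := zpowers_le.mpr (hmem _ (subset_closure (Or.inl rfl)))
  rw [Subgroup.eq_of_le_of_card_ge hle (by
    rw [Nat.card_zpowers, Nat.card_zpowers, orderOf_eq_prime hzp hzv1]
    exact orderOf_le_of_pow_eq_one hp.out.pos (h.pow_prime hp2 hP (hAle hg)))]
  exact hmem _ (subset_closure (Or.inr rfl))

end Cfsg.Agent.Block.Spec5
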