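import Mathlib
import Cfsg.Agent.Lib.Recog.FpfFour

/-!
A 2-group with a fixed-point-free automorphism `κ` of odd prime order inverted by an involutive
automorphism `τ` such that all `τ v * v` square to one is elementary abelian.
-/

set_option autoImplicit false
set_option linter.unusedSectionVars false
set_option linter.style.haveILetI false

namespace Cfsg.Agent.Block.Spec5.Fpf

universe u

variable {D : Type u} [Group D]

/-- The hypotheses. -/
structure Setup (κ τ : MulAut D) (p : ℕ) : Prop where
  prime : p.Prime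
  odd : p ≠ 2
  pow : κ ^ p = 1
  fix : ∀ x, κ x = x → x = 1
  invol : ∀ x, τ (τ x) = x
  anti : ∀ x, κ (τ (κ x)) = τ x
  sq : ∀ v, τ v * v * (τ v * v) = 1

/-- Restriction of automorphisms to a characteristic subgroup. -/
def resHom (N : Subgroup D) [hN : N.Characteristic] : MulAut D →* MulAut N where
  toFun e :=
    { toFun := fun x => ⟨e x, by
        have := hN.fixed e
        have hx : (x : D) ∈ N.comap e.toMonoidHom := this.symm ▸ x.2
        exact hx⟩
      invFun := fun x => ⟨e.symm x, by
        have := hN.fixed e.symm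
        have hx : (x : D) ∈ N.comap e.symm.toMonoidHom := this.symm ▸ x.2
        exact hx⟩
      left_inv := fun x => Subtype.ext (e.symm_apply_apply x)
      right_inv := fun x => Subtype.ext (e.apply_symm_apply x)
      map_mul' := fun x y => Subtype.ext (map_mul e (x : D) y) }
  map_one' := rfl
  map_mul' _ _ := rfl

theorem resHom_coe (N : Subgroup D) [N.Characteristic] (e : MulAut D) (x : N) :
    (resHom N e x : D) = e x := rfl

/-- Induced automorphisms of the quotient by a characteristic subgroup. -/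
def quotHom (N : Subgroup D) [N.Normal] [hN : N.Characteristic] : MulAut D →* MulAut (D ⧸ N) where
  toFun e := QuotientGroup.congr N N e (Subgroup.characteristic_iff_map_eq.mp hN e)
  map_one' := by
    ext x
    obtain ⟨y, rfl⟩ := QuotientGroup.mk'_surjective N x
    rfl
  map_mul' e f := by
    ext x
    obtain ⟨y, rfl⟩ := QuotientGroup.mk'_surjective N x
    rfl

theorem quotHom_mk (N : Subgroup D) [N.Normal] [N.Characteristic] (e : MulAut D) (x : D) :
    quotHom N e (x : D ⧸ N) = ((e x : D) : D ⧸ N) := rfl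

variable {κ τ : MulAut D} {p : ℕ}

theorem Setup.pow_apply (h : Setup κ τ p) (x : D) : (κ ^ p) x = x := by rw [h.pow]; rfl

theorem Setup.fix_pow (h : Setup κ τ p) {n : ℕ} (hn : ¬ p ∣ n) {x : D} (hx : (κ ^ n) x = x) : x = 1 := by
  refine h.fix x ?_
  have hco : n.Coprime (orderOf κ) :=
    Nat.Coprime.coprime_dvd_right (orderOf_dvd_of_pow_eq_one h.pow)
      ((h.prime.coprime_iff_not_dvd.mpr hn).symm)
  obtain ⟨m, hm⟩ := exists_pow_eq_self_of_coprime hco
  have key : ∀ j : ℕ, ((κ ^ n) ^ j) x = x := by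
    intro j
    induction j with
    | zero => rfl
    | succ j ih => rw [pow_succ', MulAut.mul_apply, ih, hx]
  conv_lhs => rw [← hm]
  exact key m

theorem Setup.fix_sq (h : Setup κ τ p) {x : D} (hx : κ (κ x) = x) : x = 1 := by
  refine h.fix_pow (n := 2) ?_ hx
  intro hd
  exact h.odd ((Nat.prime_dvd_prime_iff_eq h.prime Nat.prime_two).mp hd)

theorem Setup.anti_pow (h : Setup κ τ p) (n : ℕ) : ∀ x, (κ ^ n) (τ ((κ ^ n) x)) = τ x := by
  induction n with
  | zero => exact fun x => rfl
  | succ n ih =>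
    intro x
    have e : (κ ^ (n + 1)) (τ ((κ ^ (n + 1)) x)) = (κ ^ n) (κ (τ (κ ((κ ^ n) x)))) := by
      conv_lhs => enter [2, 2]; rw [pow_succ', MulAut.mul_apply]
      rw [pow_succ, MulAut.mul_apply]
    rw [e, h.anti, ih]

theorem Setup.res (h : Setup κ τ p) (N : Subgroup D) [N.Characteristic] :
    Setup (resHom N κ) (resHom N τ) p where
  prime := h.prime
  odd := h.odd
  pow := by rw [← map_pow, h.pow, map_one]
  fix x hx := Subtype.ext (h.fix _ (congrArg Subtype.val hx))
  invol x := Subtype.ext (h.invol _)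
  anti x := Subtype.ext (h.anti _)
  sq x := Subtype.ext (h.sq _)

theorem Setup.quot [Finite D] (h : Setup κ τ p) (N : Subgroup D) [N.Normal] [hN : N.Characteristic] :
    Setup (quotHom N κ) (quotHom N τ) p where
  prime := h.prime
  odd := h.odd
  pow := by rw [← map_pow, h.pow, map_one]
  fix x := by
    obtain ⟨y, rfl⟩ := QuotientGroup.mk_surjective x
    intro hx
    rw [quotHom_mk, eq_comm, QuotientGroup.eq] at hx
    refine (QuotientGroup.eq_one_iff y).mpr
      (Cfsg.Agent.FpfFour.fixed_point_quot κ h.fix N (fun z hz => ?_) y hx)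
    have hz' : z ∈ N.comap κ.toMonoidHom := (hN.fixed κ).symm ▸ hz
    exact hz'
  invol x := by
    obtain ⟨y, rfl⟩ := QuotientGroup.mk_surjective x
    rw [quotHom_mk, quotHom_mk, h.invol]
  anti x := by
    obtain ⟨y, rfl⟩ := QuotientGroup.mk_surjective x
    rw [quotHom_mk, quotHom_mk, quotHom_mk, quotHom_mk, h.anti]
  sq x := by
    obtain ⟨y, rfl⟩ := QuotientGroup.mk_surjective x
    rw [quotHom_mk, ← QuotientGroup.mk_mul, ← QuotientGroup.mk_mul, h.sq, QuotientGroup.mk_one]

theorem Setup.elem_of_comm (h : Setup κ τ p) (hc : ∀ a b : D, a * b = b * a) : ∀ x : D, x * x = 1 := by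
  intro v
  have inv_sq : ∀ w : D, τ (w * w) = (w * w)⁻¹ := fun w => by
    refine eq_inv_of_mul_eq_one_left ?_
    have := h.sq w
    rw [map_mul]
    calc τ w * τ w * (w * w) = τ w * (τ w * w) * w := by group
      _ = τ w * (w * τ w) * w := by rw [hc (τ w) w]
      _ = _ := by rw [← this]; group
  refine h.fix_sq ?_
  have e := h.anti (v * v)
  rw [show κ (v * v) = κ v * κ v from map_mul κ v v, inv_sq (κ v), ← map_mul κ v v, map_inv,
    inv_sq v, inv_inj] at e
  exact e

/-- The commutator. -/
def c (a b : D) : D := a * b * a⁻¹ * b⁻¹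

theorem c_eq_one {a b : D} : c a b = 1 ↔ a * b = b * a := by
  rw [c, mul_inv_eq_one, mul_inv_eq_iff_eq_mul]

theorem map_c (e : MulAut D) (a b : D) : e (c a b) = c (e a) (e b) := by
  simp only [c, map_mul, map_inv]

theorem c_inv (a b : D) : (c a b)⁻¹ = c b a := by simp only [c]; group

theorem Setup.comm_of_class_two [Finite D] (h : Setup κ τ p)
    (hcz : ∀ a b : D, c a b ∈ Subgroup.center D) (hz2 : ∀ z ∈ Subgroup.center D, z * z = 1)
    (hsq : ∀ x : D, x * x ∈ Subgroup.center D) : ∀ a b : D, a * b = b * a := by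
  set Z := Subgroup.center D with hZdef
  have hzc : ∀ z ∈ Z, ∀ g : D, g * z = z * g := fun z hz => Subgroup.mem_center_iff.mp hz
  have cmul : ∀ a b x : D, c (a * b) x = c a x * c b x := by
    intro a b x
    calc c (a * b) x = a * (c b x * x) * a⁻¹ * x⁻¹ := by simp only [c]; group
      _ = c b x * (a * x * a⁻¹ * x⁻¹) := by rw [← mul_assoc a, hzc _ (hcz b x) a]; group
      _ = c a x * c b x := (hzc _ (hcz b x) _).symm
  have csymm : ∀ a b : D, c a b = c b a := fun a b => by
    rw [← c_inv a b]; exact eq_inv_of_mul_eq_one_left (hz2 _ (hcz a b))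
  have cmul' : ∀ x a b : D, c x (a * b) = c x a * c x b := fun x a b => by
    rw [csymm x, cmul, csymm x a, csymm x b]
  have cz : ∀ a : D, ∀ z ∈ Z, c a z = 1 := fun a z hz => c_eq_one.mpr (hzc z hz a)
  let A : D → D := fun u => τ u * u
  have hA2 : ∀ u, A u * A u = 1 := h.sq
  have hAA : ∀ u w, c (A u) (A w) = 1 := by
    intro u w
    have e : A (u * w) = c (τ w) u * (A u * A w) := by
      show τ (u * w) * (u * w) = _
      rw [map_mul]
      calc τ u * τ w * (u * w) = τ u * (c (τ w) u * (u * τ w)) * w := by simp only [c]; group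
        _ = c (τ w) u * τ u * (u * τ w) * w := by rw [← mul_assoc (τ u), hzc _ (hcz _ _) (τ u)]
        _ = _ := by simp only [A]; group
    have h2 := hA2 (u * w)
    rw [e] at h2
    have hz := hzc _ (hcz (τ w) u) (A u * A w)
    have h3 : (A u * A w) * (A u * A w) = 1 := by
      calc (A u * A w) * (A u * A w) = c (τ w) u * c (τ w) u * ((A u * A w) * (A u * A w)) := by
            rw [hz2 _ (hcz _ _), one_mul]
        _ = c (τ w) u * (c (τ w) u * (A u * A w)) * (A u * A w) := by group
        _ = c (τ w) u * ((A u * A w) * c (τ w) u) * (A u * A w) := by rw [hz]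
        _ = _ := by rw [← h2]; group
    apply c_eq_one.mpr
    have i1 : (A u)⁻¹ = A u := inv_eq_of_mul_eq_one_left (hA2 u)
    have i2 : (A w)⁻¹ = A w := inv_eq_of_mul_eq_one_left (hA2 w)
    calc A u * A w = (A u * A w)⁻¹ := eq_inv_of_mul_eq_one_left h3
      _ = A w * A u := by rw [mul_inv_rev, i1, i2]
  have hmapZ : ∀ (e : MulAut D), ∀ z ∈ Z, e z ∈ Z := fun e z hz => by
    refine Subgroup.mem_center_iff.mpr fun g => ?_
    obtain ⟨g, rfl⟩ := e.surjective g
    rw [← map_mul, ← map_mul, hzc z hz g]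
  have key : ∀ (u w : D) (n : ℕ), c (A u) ((κ ^ n) (A w)) = 1 := by
    intro u w n
    set β := κ ^ n
    have anti : ∀ x, β (τ (β x)) = τ x := h.anti_pow n
    have hτA : ∀ w, τ (A w) = c w (τ w) * A w := fun w => by
      show τ (τ w * w) = _
      rw [map_mul, h.invol]
      simp only [c, A]; group
    have step : ∀ i w' : D, (∀ y, c i (A y) = 1) → c i (β (A w')) = c i (β.symm (A w')) := by
      intro i w' hi
      have h1 := hi (β.symm (A w'))
      have e1 : τ (β.symm (A w')) = β (τ (A w')) := by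
        rw [← anti (β.symm (A w')), β.apply_symm_apply]
      change c i (τ (β.symm (A w')) * β.symm (A w')) = 1 at h1
      rw [e1, hτA w', map_mul, mul_assoc, cmul', cz i _ (hmapZ β _ (hcz _ _)), one_mul, cmul'] at h1
      rw [eq_inv_of_mul_eq_one_left h1]
      exact inv_eq_of_mul_eq_one_left (hz2 _ (hcz _ _))
    have hstep : ∀ a b : D, c (A a) (β (A b)) = c (A a) (β.symm (A b)) :=
      fun a b => step (A a) b (hAA a)
    have hswap : ∀ a b : D, c (A b) (β (A a)) = β.symm (c (A a) (β (A b))) := fun a b => by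
      rw [hstep b a, map_c, β.symm_apply_apply, csymm]
    have h2 : β.symm (β.symm (c (A u) (β (A w)))) = c (A u) (β (A w)) := by
      rw [← hswap u w, ← hswap w u]
    have h3 : (κ ^ (n + n)) (c (A u) (β (A w))) = c (A u) (β (A w)) := by
      rw [pow_add, MulAut.mul_apply]
      conv_lhs => rw [← h2]
      change β (β (β.symm (β.symm (c (A u) (β (A w)))))) = _
      rw [β.apply_symm_apply, β.apply_symm_apply]
    by_cases hn : p ∣ n
    · have hb : ∀ x, β x = x := fun x => by
        obtain ⟨m, rfl⟩ := hn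
        show (κ ^ (p * m)) x = x
        rw [pow_mul, h.pow, one_pow]; rfl
      rw [hb]; exact hAA u w
    · refine h.fix_pow (fun hd => hn ?_) h3
      rw [← two_mul] at hd
      exact ((h.prime.dvd_mul).mp hd).resolve_left fun h2 =>
        h.odd ((Nat.prime_dvd_prime_iff_eq h.prime Nat.prime_two).mp h2)
  -- the generators
  set Gs : Set D := (Z : Set D) ∪ {x | ∃ (n : ℕ) (u : D), x = (κ ^ n) (A u)} with hGs
  set S := Subgroup.closure Gs with hS
  have hcomm : ∀ a ∈ Gs, ∀ b ∈ Gs, a * b = b * a := by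
    rintro a (ha | ⟨n, u, rfl⟩) b hb
    · exact (hzc a ha b).symm
    · rcases hb with hb | ⟨m, w, rfl⟩
      · exact hzc b hb _
      · apply c_eq_one.mp
        have e : (κ ^ m) (A w) = (κ ^ n) ((κ ^ (m + (p - 1) * n)) (A w)) := by
          rw [← MulAut.mul_apply, ← pow_add,
            show n + (m + (p - 1) * n) = m + p * n by
              obtain ⟨q, hq⟩ := Nat.exists_eq_succ_of_ne_zero h.prime.ne_zero
              subst hq; rw [Nat.succ_sub_one, Nat.succ_mul]; ring,
            pow_add, pow_mul, h.pow, one_pow, mul_one]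
        rw [e, ← map_c, key, map_one]
  haveI : IsMulCommutative S := Subgroup.isMulCommutative_closure hcomm
  have hZS : Z ≤ S := fun z hz => Subgroup.subset_closure (Or.inl hz)
  haveI : S.Normal := ⟨fun x hx g => by
    have e : g * x * g⁻¹ = c g x * x := by simp only [c]; group
    rw [e]
    exact mul_mem (hZS (hcz g x)) hx⟩
  have hκS : ∀ x ∈ S, κ x ∈ S := by
    intro x hx
    induction hx using Subgroup.closure_induction with
    | mem x hx =>
      rcases hx with hx | ⟨n, u, rfl⟩
      · exact hZS (hmapZ κ x hx)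
      · exact Subgroup.subset_closure (Or.inr ⟨n + 1, u, by rw [pow_succ', MulAut.mul_apply]⟩)
    | one => rw [map_one]; exact one_mem S
    | mul a b _ _ ha hb => rw [map_mul]; exact mul_mem ha hb
    | inv a _ ha => rw [map_inv]; exact inv_mem ha
  have hτmod : ∀ v : D, ((τ v : D) : D ⧸ S) = (v : D ⧸ S) := fun v => by
    have h1 : ((τ v * v : D) : D ⧸ S) = 1 :=
      (QuotientGroup.eq_one_iff _).mpr (Subgroup.subset_closure (Or.inr ⟨0, v, rfl⟩))
    have h2 : ((v * v : D) : D ⧸ S) = 1 := (QuotientGroup.eq_one_iff _).mpr (hZS (hsq v))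
    rw [QuotientGroup.mk_mul] at h1 h2
    exact mul_right_cancel (h1.trans h2.symm)
  have hκmod : ∀ a b : D, (a : D ⧸ S) = (b : D ⧸ S) → ((κ a : D) : D ⧸ S) = ((κ b : D) : D ⧸ S) := by
    intro a b hab
    rw [QuotientGroup.eq] at hab ⊢
    rw [← map_inv, ← map_mul]
    exact hκS _ hab
  have hall : ∀ v : D, v ∈ S := by
    intro v
    refine Cfsg.Agent.FpfFour.fixed_point_quot (κ * κ) (fun g hg => h.fix_sq hg) S
      (fun x hx => hκS _ (hκS _ hx)) v ?_
    rw [← QuotientGroup.eq]
    symm
    rw [MulAut.mul_apply, hκmod _ _ (hτmod (κ v)).symm, h.anti, hτmod]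
  intro a b
  exact congrArg Subtype.val (IsMulCommutative.is_comm.comm (⟨a, hall a⟩ : S) ⟨b, hall b⟩)

/-- The group is elementary abelian. -/
theorem Setup.elem : ∀ (D : Type u) [Group D] [Finite D] (κ τ : MulAut D) (p : ℕ), IsPGroup 2 D →
    Setup κ τ p → ∀ x : D, x * x = 1 := by
  suffices H : ∀ (n : ℕ) (D : Type u) [Group D] [Finite D] (κ τ : MulAut D) (p : ℕ), Nat.card D ≤ n →
      IsPGroup 2 D → Setup κ τ p → ∀ x : D, x * x = 1 from fun D _ _ κ τ p => H _ D κ τ p le_rfl
  intro n
  induction n with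
  | zero => intro D _ _ κ τ p h0; exact absurd h0 (Nat.not_le.mpr Nat.card_pos)
  | succ n ih =>
    intro D _ _ κ τ p hn hD h
    rcases subsingleton_or_nontrivial D with hs | hs
    · exact fun x => Subsingleton.elim _ _
    haveI : Fact (Nat.Prime 2) := ⟨Nat.prime_two⟩
    haveI := hD.center_nontrivial
    have hz2 : ∀ z ∈ Subgroup.center D, z * z = 1 := fun z hz =>
      congrArg Subtype.val ((h.res (Subgroup.center D)).elem_of_comm
        (fun a b => Subtype.ext (Subgroup.mem_center_iff.mp b.2 a)) ⟨z, hz⟩)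
    have hlt : Nat.card (D ⧸ Subgroup.center D) < Nat.card D := by
      have := Subgroup.card_eq_card_quotient_mul_card_subgroup (Subgroup.center D)
      have h2 : 1 < Nat.card (Subgroup.center D) := Finite.one_lt_card
      have := Nat.card_pos (α := D ⧸ Subgroup.center D)
      nlinarith
    have hq := ih (D ⧸ Subgroup.center D) (quotHom _ κ) (quotHom _ τ) p (by omega) (hD.to_quotient _)
      (h.quot (Subgroup.center D))
    have hsq : ∀ x : D, x * x ∈ Subgroup.center D := fun x => by
      rw [← QuotientGroup.eq_one_iff, QuotientGroup.mk_mul]; exact hq _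
    have hcz : ∀ a b : D, c a b ∈ Subgroup.center D := fun a b => by
      rw [← QuotientGroup.eq_one_iff, c, QuotientGroup.mk_mul, QuotientGroup.mk_mul, QuotientGroup.mk_mul,
        QuotientGroup.mk_inv, QuotientGroup.mk_inv, inv_eq_of_mul_eq_one_left (hq (a : D ⧸ _)),
        inv_eq_of_mul_eq_one_left (hq (b : D ⧸ _))]
      set x := (a : D ⧸ Subgroup.center D) * (b : D ⧸ Subgroup.center D) with hx
      rw [mul_assoc, ← hx]
      exact hq x
    exact h.elem_of_comm (h.comm_of_class_two hcz hz2 hsq)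

/-- The fixed points of `τ` are the elements `τ y * y`, and their number is the square root of the order. -/
theorem Setup.fixed [Finite D] (h : Setup κ τ p) (h2 : ∀ x : D, x * x = 1) :
    (∀ x, τ x = x → ∃ y, τ y * y = x) ∧ Nat.card {x : D // τ x = x} ^ 2 = Nat.card D ∧
      ∀ x : D, ∃ a b : D, τ a = a ∧ τ b = b ∧ x = a * κ b := by
  have hc : ∀ a b : D, a * b = b * a := fun a b => by
    have e := h2 (a * b)
    calc a * b = (a * b)⁻¹ := eq_inv_of_mul_eq_one_left e
      _ = b * a := by rw [mul_inv_rev, inv_eq_of_mul_eq_one_left (h2 a), inv_eq_of_mul_eq_one_left (h2 b)]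
  letI : CommGroup D := { (inferInstance : Group D) with mul_comm := hc }
  let f : D →* D :=
    { toFun := fun y => τ y * y
      map_one' := by rw [map_one, one_mul]
      map_mul' := fun a b => by rw [map_mul]; exact mul_mul_mul_comm _ _ _ _ }
  let C : Subgroup D :=
    { carrier := {x | τ x = x}
      one_mem' := map_one τ
      mul_mem' := fun {a b} ha hb => by
        show τ (a * b) = a * b
        rw [map_mul, ha, hb]
      inv_mem' := fun {a} ha => by
        show τ a⁻¹ = a⁻¹
        rw [map_inv, ha] }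
  have hker : f.ker = C := by
    ext x
    show τ x * x = 1 ↔ τ x = x
    rw [mul_eq_one_iff_eq_inv, inv_eq_of_mul_eq_one_left (h2 x)]
  have hran : f.range ≤ C := by
    rintro _ ⟨y, rfl⟩
    show τ (τ y * y) = τ y * y
    rw [map_mul, h.invol, mul_comm]
  have hcard : Nat.card D = Nat.card f.range * Nat.card C := by
    rw [← Nat.card_congr (QuotientGroup.quotientKerEquivRange f).toEquiv, ← hker]
    exact Subgroup.card_eq_card_quotient_mul_card_subgroup f.ker
  have hinj : Function.Injective fun q : C × C => (q.1 : D) * κ q.2 := by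
    rintro ⟨a, b⟩ ⟨a', b'⟩ e
    have e1 : (a : D) * (a' : D)⁻¹ = κ ((b' : D) * (b : D)⁻¹) := by
      rw [map_mul, map_inv, mul_inv_eq_iff_eq_mul]
      have e2 : (a : D) * κ b = a' * κ b' := e
      calc (a : D) = a * κ b * (κ b)⁻¹ := by rw [mul_inv_cancel_right]
        _ = _ := by rw [e2, mul_assoc, mul_comm (a' : D)]
    have hy : ((b' : D) * (b : D)⁻¹) = 1 := by
      refine h.fix_sq ?_
      have ha : τ ((a : D) * (a' : D)⁻¹) = (a : D) * (a' : D)⁻¹ := C.mul_mem a.2 (C.inv_mem a'.2)
      have hb : τ ((b' : D) * (b : D)⁻¹) = (b' : D) * (b : D)⁻¹ := C.mul_mem b'.2 (C.inv_mem b.2)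
      rw [e1] at ha
      have h3 := h.anti ((b' : D) * (b : D)⁻¹)
      rw [ha, hb] at h3
      exact h3
    rw [hy, map_one, mul_inv_eq_one] at e1
    rw [mul_inv_eq_one] at hy
    exact Prod.ext (Subtype.ext e1) (Subtype.ext hy.symm)
  have h3 := Nat.card_le_card_of_injective _ hinj
  have h4 : Nat.card f.range ≤ Nat.card C := Nat.card_le_card_of_injective _ (Subgroup.inclusion_injective hran)
  rw [Nat.card_prod, hcard] at h3
  have h5 : Nat.card C = Nat.card f.range := by
    have := Nat.card_pos (α := C)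
    refine le_antisymm ?_ h4
    exact Nat.le_of_mul_le_mul_right h3 this
  have hb : Function.Bijective fun q : C × C => (q.1 : D) * κ q.2 :=
    hinj.bijective_of_nat_card_le (by rw [Nat.card_prod, hcard, h5])
  refine ⟨fun x hx => ?_, ?_, fun x => ?_⟩
  · have e := Subgroup.eq_of_le_of_card_ge hran h5.le
    exact (e.symm ▸ (hx : x ∈ C) : x ∈ f.range)
  · show Nat.card C ^ 2 = _
    rw [hcard, ← h5, pow_two]
  · obtain ⟨⟨a, b⟩, e⟩ := hb.2 x
    exact ⟨a, b, a.2, b.2, e.symm⟩

end Cfsg.Agent.Block.Spec5.Fpf
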