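import Mathlib
import Cfsg.Agent.Lib.Grp.Cores
import Cfsg.Agent.Lib.Grp.Baer
import Cfsg.Agent.Lib.Invol.Sylow
import Cfsg.Agent.Lib.Block.Spec5.Basic
import Cfsg.Agent.Lib.Block.Spec5.Fpf

/-!
Inverted elements of odd order in groups with element orders at most five, and the 2-groups they
normalise.
-/

set_option autoImplicit false
set_option linter.unusedSectionVars false
set_option linter.style.haveILetI false

namespace Cfsg.Agent.Block.Spec5

open Subgroup

universe u

variable {G : Type u} [Group G] [Finite G]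

/-- An element `k` of odd prime order `p` inverted by an involution `t`. -/
structure InvPair (p : ℕ) (k t : G) : Prop where
  prime : p.Prime
  odd : p ≠ 2
  pow : k ^ p = 1
  ne : k ≠ 1
  sq : t * t = 1
  inv : t * k * t = k⁻¹

theorem InvPair.t_inv {p : ℕ} {k t : G} (h : InvPair p k t) : t⁻¹ = t := inv_eq_of_mul_eq_one_left h.sq

theorem InvPair.ktk {p : ℕ} {k t : G} (h : InvPair p k t) : k * t * k = t := by
  calc k * t * k = (t * t) * k * t * k := by rw [h.sq, one_mul]
    _ = t * (t * k * t) * k := by group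
    _ = t := by rw [h.inv]; group

theorem InvPair.t_ne {p : ℕ} {k t : G} (h : InvPair p k t) : t ≠ 1 := by
  intro e
  have h2 := h.inv
  rw [e, one_mul, mul_one] at h2
  have hk2 : k ^ 2 = 1 := by rw [pow_two]; exact mul_eq_one_iff_eq_inv.mpr h2
  have := Fact.mk h.prime
  have hd := orderOf_dvd_of_pow_eq_one hk2
  rw [orderOf_eq_prime h.pow h.ne] at hd
  exact h.odd ((Nat.prime_dvd_prime_iff_eq h.prime Nat.prime_two).mp hd)

theorem InvPair.map {K : Type u} [Group K] {p : ℕ} {k t : G} (h : InvPair p k t) (f : G →* K)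
    (hf : f k ≠ 1) : InvPair p (f k) (f t) where
  prime := h.prime
  odd := h.odd
  pow := by rw [← map_pow, h.pow, map_one]
  ne := hf
  sq := by rw [← map_mul, h.sq, map_one]
  inv := by rw [← map_mul, ← map_mul, h.inv, map_inv]

theorem pow_four_conj {t x : G} (ht : t * t = 1) : (t * x) ^ 4 = t * x * t * x * (t * x * t * x) := by
  simp only [pow_succ, pow_zero, one_mul]; group

/-- A 2-group normalised by an inverting pair is elementary abelian. -/
theorem elem_of_invPair (h : Ord5 G) {D : Subgroup G} (hD : IsPGroup 2 D) {p : ℕ} {k t : G}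
    (hp : InvPair p k t) (hkD : k ∈ normalizer (D : Set G)) (htD : t ∈ normalizer (D : Set G)) :
    (∀ x ∈ D, x * x = 1) ∧ (∀ x ∈ D, t * x = x * t → ∃ y ∈ D, t * y * t * y = x) ∧
      Nat.card (D ⊓ centralizer ({t} : Set G) : Subgroup G) ^ 2 = Nat.card D ∧
      ∀ x ∈ D, ∃ a b, a ∈ D ∧ t * a = a * t ∧ b ∈ D ∧ t * b = b * t ∧ x = a * (k * b * k⁻¹) := by
  haveI := Fact.mk hp.prime
  have hti := hp.t_inv
  let κ : MulAut D := D.normalizerMonoidHom ⟨k, hkD⟩
  let τ : MulAut D := D.normalizerMonoidHom ⟨t, htD⟩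
  have eκ : ∀ x : D, (κ x : G) = k * x * k⁻¹ := fun x => rfl
  have eτ : ∀ x : D, (τ x : G) = t * x * t := fun x => by
    show t * (x : G) * t⁻¹ = _
    rw [hti]
  haveI := Fact.mk Nat.prime_two
  have h2 : ∀ v : D, (t * (v : G)) ^ 4 = 1 := fun v => by
    have htp : IsPGroup 2 (zpowers t) := by
      refine IsPGroup.of_card (n := 1) ?_
      rw [Nat.card_zpowers, pow_one]
      exact orderOf_eq_prime (by rw [pow_two]; exact hp.sq) hp.t_ne
    exact h.pow_four (htp.to_sup_of_normal_right' hD (zpowers_le.mpr htD))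
      (mul_mem (mem_sup_left (mem_zpowers t)) (mem_sup_right v.2))
  have hs : Fpf.Setup κ τ p :=
    { prime := hp.prime
      odd := hp.odd
      pow := by
        have e : (⟨k, hkD⟩ : normalizer (D : Set G)) ^ p = 1 := Subtype.ext hp.pow
        show D.normalizerMonoidHom ⟨k, hkD⟩ ^ p = 1
        rw [← map_pow, e, map_one]
      fix := fun x hx => by
        have e : k * (x : G) * k⁻¹ = x := by rw [← eκ, hx]
        exact Subtype.ext (h.fix_eq_one hp.prime hp.odd hp.pow hp.ne (h.pow_four hD x.2)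
          (mul_inv_eq_iff_eq_mul.mp e))
      invol := fun x => Subtype.ext (by
        rw [eτ, eτ, show t * (t * (x : G) * t) * t = t * t * x * (t * t) by group, hp.sq, one_mul, mul_one])
      anti := fun x => Subtype.ext (by
        rw [eκ, eτ, eτ, eκ]
        have e2 : k⁻¹ * t * k⁻¹ = t := by
          conv_lhs => rw [← hp.ktk]
          group
        calc k * (t * (k * (x : G) * k⁻¹) * t) * k⁻¹ = (k * t * k) * x * (k⁻¹ * t * k⁻¹) := by group
          _ = _ := by rw [hp.ktk, e2])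
      sq := fun v => Subtype.ext (by
        simp only [Subgroup.coe_mul, Subgroup.coe_one, eτ]
        rw [← h2 v, pow_four_conj hp.sq]) }
  have hel := Fpf.Setup.elem D κ τ p hD hs
  obtain ⟨hsur, hcard, hgen⟩ := hs.fixed hel
  have hfix : ∀ x : D, τ x = x ↔ t * (x : G) = x * t := fun x => by
    rw [Subtype.ext_iff, eτ]
    refine ⟨fun e => ?_, fun e => by rw [e, mul_assoc, hp.sq, mul_one]⟩
    conv_rhs => rw [← e]
    rw [mul_assoc _ t t, hp.sq, mul_one]
  refine ⟨fun x hx => congrArg Subtype.val (hel ⟨x, hx⟩), fun x hx hxt => ?_, ?_, fun x hx => ?_⟩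
  · obtain ⟨y, hy⟩ := hsur ⟨x, hx⟩ ((hfix ⟨x, hx⟩).mpr hxt)
    exact ⟨y, y.2, by simpa [eτ] using congrArg Subtype.val hy⟩
  · rw [← hcard]
    congr 1
    refine Nat.card_congr
      { toFun := fun x => ⟨⟨x, x.2.1⟩, (hfix ⟨x, x.2.1⟩).mpr (mem_centralizer_singleton_iff.mp x.2.2).symm⟩
        invFun := fun x => ⟨(x.1 : G), x.1.2, mem_centralizer_singleton_iff.mpr ((hfix x.1).mp x.2).symm⟩
        left_inv := fun x => rfl
        right_inv := fun x => rfl }
  · obtain ⟨a, b, ha, hb, hab⟩ := hgen ⟨x, hx⟩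
    exact ⟨a, b, a.2, (hfix a).mp ha, b.2, (hfix b).mp hb, congrArg Subtype.val hab⟩

omit [Finite G] in
theorem comm_of_sq {D : Subgroup G} (h : ∀ x ∈ D, x * x = 1) : ∀ a ∈ D, ∀ b ∈ D, a * b = b * a := by
  intro a ha b hb
  calc a * b = (a * b)⁻¹ := eq_inv_of_mul_eq_one_left (h _ (mul_mem ha hb))
    _ = b * a := by
      rw [mul_inv_rev, inv_eq_of_mul_eq_one_left (h a ha), inv_eq_of_mul_eq_one_left (h b hb)]

theorem orderOf_eq_two {x : G} (h : x * x = 1) (h1 : x ≠ 1) : orderOf x = 2 :=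
  haveI := Fact.mk Nat.prime_two
  orderOf_eq_prime (by rw [pow_two]; exact h) h1

/-- Lift of an element of odd prime order. -/
theorem lift_odd (h : Ord5 G) (N : Subgroup G) [N.Normal] {p : ℕ} (hp : p.Prime) (hp2 : p ≠ 2)
    {k0 : G} (hk : (k0 : G ⧸ N) ^ p = 1) (hk1 : (k0 : G ⧸ N) ≠ 1) : k0 ^ p = 1 := by
  haveI := Fact.mk hp
  have hd : p ∣ orderOf k0 := by
    rw [← orderOf_eq_prime hk hk1]
    exact orderOf_map_dvd (QuotientGroup.mk' N) k0
  obtain ⟨m, hm⟩ := hd
  have h5 := h k0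
  have hpos := orderOf_pos k0
  rw [← orderOf_dvd_iff_pow_eq_one, hm]
  rw [hm] at h5 hpos
  have h3 : 3 ≤ p := by have := hp.two_le; omega
  have : m = 1 := by
    rcases m with _ | _ | m
    · omega
    · rfl
    · nlinarith
  rw [this, mul_one]

/-- Lift of an element of the quotient by a 2-group conjugating `k` to a power of itself. -/
theorem lift_conj (h : Ord5 G) (N : Subgroup G) [hNn : N.Normal] (hN : IsPGroup 2 N) {p : ℕ}
    (hp : p.Prime) (hp2 : p ≠ 2) {k x : G} (hk : k ^ p = 1) (hk1 : k ≠ 1) {n : ℕ} (hn : ¬ p ∣ n)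
    (hx : x * k * x⁻¹ * (k ^ n)⁻¹ ∈ N) :
    ∃ f : G, (f : G ⧸ N) = (x : G ⧸ N) ∧ f * k * f⁻¹ = k ^ n := by
  haveI := Fact.mk hp
  have hkn : k ^ n ≠ 1 := fun e => hn (by
    rw [← orderOf_eq_prime hk hk1]; exact orderOf_dvd_of_pow_eq_one e)
  have hinj : Function.Injective (fun m : N => (⟨(m : G) * k ^ n * (m : G)⁻¹ * (k ^ n)⁻¹, by
      have := mul_mem m.2 (hNn.conj_mem _ (inv_mem m.2) (k ^ n))
      rwa [← mul_assoc, ← mul_assoc] at this⟩ : N)) := by
    intro a b hab
    have e := mul_right_cancel (congrArg Subtype.val hab :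
      (a : G) * k ^ n * (a : G)⁻¹ * (k ^ n)⁻¹ = (b : G) * k ^ n * (b : G)⁻¹ * (k ^ n)⁻¹)
    have hcm : Commute (k ^ n) ((b : G)⁻¹ * a) := by
      show k ^ n * ((b : G)⁻¹ * a) = (b : G)⁻¹ * a * k ^ n
      calc k ^ n * ((b : G)⁻¹ * a) = (b : G)⁻¹ * ((b : G) * k ^ n * (b : G)⁻¹) * a := by group
        _ = _ := by rw [← e]; group
    have := h.fix_eq_one hp hp2 (k := k ^ n) (by rw [← pow_mul, mul_comm, pow_mul, hk, one_pow]) hkn
      (h.pow_four hN (mul_mem (inv_mem b.2) a.2)) hcm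
    exact Subtype.ext (inv_mul_eq_one.mp this).symm
  obtain ⟨⟨m, hm⟩, hme⟩ := Finite.surjective_of_injective hinj ⟨_, hx⟩
  have e := mul_right_cancel (congrArg Subtype.val hme :
    m * k ^ n * m⁻¹ * (k ^ n)⁻¹ = x * k * x⁻¹ * (k ^ n)⁻¹)
  refine ⟨m⁻¹ * x, ?_, ?_⟩
  · rw [QuotientGroup.mk_mul, QuotientGroup.mk_inv, (QuotientGroup.eq_one_iff m).mpr hm, inv_one, one_mul]
  · rw [show m⁻¹ * x * k * (m⁻¹ * x)⁻¹ = m⁻¹ * (x * k * x⁻¹) * m by group, ← e]
    group

/-- An inverting pair of the quotient by a 2-group lifts. -/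
theorem lift_invPair (h : Ord5 G) (N : Subgroup G) [N.Normal] (hN : IsPGroup 2 N) {p : ℕ}
    {kb tb : G ⧸ N} (hq : InvPair p kb tb) :
    ∃ k t : G, InvPair p k t ∧ (k : G ⧸ N) = kb ∧ (t : G ⧸ N) = tb := by
  haveI := Fact.mk hq.prime
  obtain ⟨k, rfl⟩ := QuotientGroup.mk_surjective kb
  obtain ⟨x, rfl⟩ := QuotientGroup.mk_surjective tb
  have hk := lift_odd h N hq.prime hq.odd hq.pow hq.ne
  have hk1 : k ≠ 1 := fun e => hq.ne (by rw [e, QuotientGroup.mk_one])
  have hx : x * k * x⁻¹ * (k ^ (p - 1))⁻¹ ∈ N := by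
    rw [← QuotientGroup.eq_one_iff, QuotientGroup.mk_mul, QuotientGroup.mk_mul, QuotientGroup.mk_mul,
      QuotientGroup.mk_inv, QuotientGroup.mk_inv, hq.t_inv, hq.inv, ← QuotientGroup.mk_inv,
      ← QuotientGroup.mk_inv, ← QuotientGroup.mk_mul, QuotientGroup.eq_one_iff]
    rw [← mul_inv_rev, ← pow_succ, Nat.sub_add_cancel hq.prime.one_le, hk, inv_one]
    exact one_mem N
  obtain ⟨t, htx, ht⟩ := lift_conj h N hN hq.prime hq.odd hk hk1
    (fun hd => by
      have := Nat.le_of_dvd (by have := hq.prime.two_le; omega) hd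
      have := hq.prime.two_le
      omega) hx
  have ht' : t * k * t⁻¹ = k⁻¹ := by
    rw [ht]
    exact eq_inv_of_mul_eq_one_left (by rw [← pow_succ, Nat.sub_add_cancel hq.prime.one_le, hk])
  have hcm : Commute k (t * t) := by
    show k * (t * t) = t * t * k
    have e : t * t * k * (t * t)⁻¹ = k := by
      rw [show t * t * k * (t * t)⁻¹ = t * (t * k * t⁻¹) * t⁻¹ by group, ht',
        show t * k⁻¹ * t⁻¹ = (t * k * t⁻¹)⁻¹ by group, ht', inv_inv]
    exact (mul_inv_eq_iff_eq_mul.mp e).symm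
  have htt : (t : G ⧸ N) * (t : G ⧸ N) = 1 := by rw [htx]; exact hq.sq
  have ht4 : t ^ 4 = 1 := by
    have hodd : ∀ o : ℕ, Odd o → t ^ o = 1 → False := fun o ⟨j, hj⟩ hto => hq.t_ne (by
      have e : (t : G ⧸ N) ^ o = 1 := by rw [← QuotientGroup.mk_pow, hto, QuotientGroup.mk_one]
      rw [hj, pow_succ, pow_mul, pow_two, htt, one_pow, one_mul] at e
      rw [← htx, e])
    rcases h.pow_cases t with e | e | e
    · exact e
    · exact (hodd 3 (by decide) e).elim
    · exact (hodd 5 (by decide) e).elim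
  have ht2 : t * t = 1 := h.fix_eq_one hq.prime hq.odd hk hk1
    (by rw [← pow_two, ← pow_mul, show 2 * 4 = 4 * 2 from rfl, pow_mul, ht4, one_pow]) hcm
  refine ⟨k, t, ⟨hq.prime, hq.odd, hk, hk1, ht2, ?_⟩, rfl, htx⟩
  rw [← ht', inv_eq_of_mul_eq_one_left ht2]

/-- An involution outside the 2-core inverts an element of odd prime order. -/
theorem exists_invPair (h : Ord5 G) {x : G} (hx : orderOf x = 2) (hxO : x ∉ Cfsg.pCore 2 G) :
    ∃ p k, InvPair p k x := by
  haveI := Fact.mk Nat.prime_two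
  obtain ⟨g, hg⟩ : ∃ g : G, ¬ IsPGroup 2 (closure ({x, g * x * g⁻¹} : Set G)) := by
    by_contra hc
    push Not at hc
    exact hxO (Cfsg.Agent.Grp.baer_suzuki x hc)
  set y := g * x * g⁻¹ with hy
  have hyo : orderOf y = 2 := by rw [hy, Invol.orderOf_conj_eq, hx]
  have hxx : x * x = 1 := Invol.mul_self_of_orderOf_two hx
  have hyy : y * y = 1 := Invol.mul_self_of_orderOf_two hyo
  have key : ∀ q : ℕ, q.Prime → q ≠ 2 → (x * y) ^ q = 1 → ∃ p k, InvPair p k x := by
    intro q hq hq2 hxy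
    refine ⟨q, x * y, ⟨hq, hq2, hxy, ?_, hxx, ?_⟩⟩
    · intro e
      refine hg (Invol.isPGroup_closure_pair hx hyo (a := 0) ?_)
      rw [e, orderOf_one, pow_zero]
    · calc x * (x * y) * x = (x * x) * y * x := by group
        _ = y⁻¹ * x⁻¹ := by
          rw [hxx, one_mul, inv_eq_of_mul_eq_one_left hxx, inv_eq_of_mul_eq_one_left hyy]
        _ = (x * y)⁻¹ := by group
  rcases h.pow_cases (x * y) with e | e | e
  · obtain ⟨a, -, ha⟩ := (Nat.dvd_prime_pow Nat.prime_two).mp
      (orderOf_dvd_of_pow_eq_one (show (x * y) ^ (2 ^ 2) = 1 from e))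
    exact absurd (Invol.isPGroup_closure_pair hx hyo ha) hg
  · exact key 3 Nat.prime_three (by norm_num) e
  · exact key 5 Nat.prime_five (by norm_num) e

/-- The quotient by the 2-core has trivial 2-core. -/
theorem pCore_quotient_eq_bot (N : Subgroup G) [N.Normal] (hN : Cfsg.pCore 2 G = N) :
    Cfsg.pCore 2 (G ⧸ N) = ⊥ := by
  haveI := Fact.mk Nat.prime_two
  haveI := Cfsg.Agent.Grp.pCore_isNormal (p := 2) (G := G ⧸ N)
  have hc : IsPGroup 2 ((Cfsg.pCore 2 (G ⧸ N)).comap (QuotientGroup.mk' N)) :=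
    (Cfsg.Agent.Grp.pCore_isPGroup (p := 2)).comap_of_ker_isPGroup _ (by
      rw [QuotientGroup.ker_mk', ← hN]; exact Cfsg.Agent.Grp.pCore_isPGroup)
  have hle := Subgroup.map_mono (f := QuotientGroup.mk' N)
    (Cfsg.Agent.Grp.le_pCore inferInstance hc)
  rw [Subgroup.map_comap_eq_self_of_surjective (QuotientGroup.mk'_surjective N), hN,
    QuotientGroup.map_mk'_self] at hle
  exact le_bot_iff.mp hle

/-- With the 2-core removed, every involution of the quotient is the image of an involution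
inverting an element of odd prime order. -/
theorem exists_lift_of_quot (h : Ord5 G) (N : Subgroup G) [N.Normal] (hN : Cfsg.pCore 2 G = N)
    {x : G ⧸ N} (hx : orderOf x = 2) : ∃ p k t, InvPair (G := G) p k t ∧ (t : G ⧸ N) = x := by
  have hx' : x ∉ Cfsg.pCore 2 (G ⧸ N) := by
    rw [pCore_quotient_eq_bot N hN, Subgroup.mem_bot]
    intro e
    rw [e, orderOf_one] at hx
    omega
  obtain ⟨p, k, hk⟩ := exists_invPair (h.quotient N) hx hx'
  obtain ⟨k', t', h', -, ht'⟩ := lift_invPair h N (hN ▸ Cfsg.Agent.Grp.pCore_isPGroup) hk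
  exact ⟨p, k', t', h', ht'⟩

/-- An element of order four does not act on a fixed-point-free element of order five over a 2-group. -/
theorem no_five_four (h : Ord5 G) {D : Subgroup G} (hD : IsPGroup 2 D) {k f : G} (hk : k ^ 5 = 1)
    (hk1 : k ≠ 1) (hf : f * k * f⁻¹ = k ^ 2) (hkD : k ∈ normalizer (D : Set G))
    (hfD : f ∈ normalizer (D : Set G)) : D = ⊥ := by
  haveI := Fact.mk Nat.prime_five
  have hok := orderOf_eq_prime hk hk1
  have conjpow : ∀ n : ℕ, f ^ n * k * (f ^ n)⁻¹ = k ^ (2 ^ n) := by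
    intro n
    induction n with
    | zero => simp
    | succ n ih =>
      rw [pow_succ', show f * f ^ n * k * (f * f ^ n)⁻¹ = f * (f ^ n * k * (f ^ n)⁻¹) * f⁻¹ by group, ih,
        ← conj_pow, hf, ← pow_mul]
      congr 1
      ring
  have hne : ∀ n : ℕ, f ^ n = 1 → (2 ^ n) % 5 = 1 := fun n hn => by
    have e := conjpow n
    rw [hn, one_mul, inv_one, mul_one] at e
    have e' : k ^ 1 = k ^ (2 ^ n) := by rw [pow_one]; exact e
    rw [pow_eq_pow_iff_modEq, hok] at e'
    exact e'.symm.trans (by rfl)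
  have hf4 : f ^ 4 = 1 := by
    rcases h.pow_cases f with e | e | e
    · exact e
    · exact absurd (hne 3 e) (by norm_num)
    · exact absurd (hne 5 e) (by norm_num)
  set t := f * f with ht
  have htt : t * t = 1 := by
    rw [ht, show f * f * (f * f) = f ^ 4 by simp only [pow_succ, pow_zero, one_mul]; group, hf4]
  have htk : t * k * t = k⁻¹ := by
    have e := conjpow 2
    rw [pow_two, ← ht, inv_eq_of_mul_eq_one_left htt] at e
    rw [e]
    exact eq_inv_of_mul_eq_one_left (by rw [← pow_succ]; exact hk)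
  have hp : InvPair 5 k t := ⟨Nat.prime_five, by norm_num, hk, hk1, htt, htk⟩
  obtain ⟨hsq, hsur, hcard, -⟩ := elem_of_invPair h hD hp hkD (mul_mem hfD hfD)
  have hcomm := comm_of_sq hsq
  let φ : G → G := fun x => f * x * f⁻¹
  have hφm : ∀ x ∈ D, φ x ∈ D := fun x hx => (mem_normalizer_iff.mp hfD x).mp hx
  -- `f` fixes every fixed point of `t`
  have hfix : ∀ i ∈ D, t * i = i * t → φ i = i := by
    intro i hi hit
    obtain ⟨y, hy, hyi⟩ := hsur i hi hit
    have h4 : (f * y) ^ 4 = 1 := by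
      haveI := Fact.mk Nat.prime_two
      refine h.pow_four (H := zpowers f ⊔ D) ?_ (mul_mem (mem_sup_left (mem_zpowers f)) (mem_sup_right hy))
      refine IsPGroup.to_sup_of_normal_right' ?_ hD (zpowers_le.mpr hfD)
      intro ⟨a, ha⟩
      obtain ⟨n, rfl⟩ := mem_zpowers_iff.mp ha
      refine ⟨2, Subtype.ext ?_⟩
      show (f ^ n) ^ 4 = 1
      rw [← zpow_natCast (f ^ n), ← zpow_mul, mul_comm, zpow_mul, zpow_natCast, hf4, one_zpow]
    have e1 : (f * y) ^ 4 = φ y * φ (φ y) * φ (φ (φ y)) * φ (φ (φ (φ y))) * f ^ 4 := by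
      simp only [φ, pow_succ, pow_zero, one_mul]; group
    have e4 : φ (φ (φ (φ y))) = y := by
      show f * (f * (f * (f * y * f⁻¹) * f⁻¹) * f⁻¹) * f⁻¹ = y
      rw [show f * (f * (f * (f * y * f⁻¹) * f⁻¹) * f⁻¹) * f⁻¹ = f ^ 4 * y * (f ^ 4)⁻¹ by
        simp only [pow_succ, pow_zero, one_mul]; group, hf4]
      group
    rw [h4, e4, hf4, mul_one] at e1
    have hφ2 : φ (φ y) = t * y * t := by
      show f * (f * y * f⁻¹) * f⁻¹ = _
      conv_rhs => rw [show t * y * t = t * y * t⁻¹ by rw [inv_eq_of_mul_eq_one_left htt]]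
      rw [ht]; group
    have hφmul : φ (φ (φ y) * y) = φ (φ (φ y)) * φ y := by simp only [φ]; group
    rw [← hyi, ← hφ2, hφmul]
    set a := φ y
    set b := φ a
    set c := φ b
    have ha : a ∈ D := hφm _ hy
    have hb : b ∈ D := hφm _ ha
    have hc : c ∈ D := hφm _ hb
    calc c * a = c * a * (b * y * (b * y)) := by rw [hsq _ (mul_mem hb hy), mul_one]
      _ = c * a * b * y * (b * y) := by group
      _ = a * c * b * y * (b * y) := by rw [hcomm c hc a ha]
      _ = a * (c * b) * y * (b * y) := by group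
      _ = a * b * c * y * (b * y) := by rw [hcomm c hc b hb]; group
      _ = b * y := by rw [← e1, one_mul]
  -- no fixed point of `t` is left
  let κ : G → G := fun x => k * x * k⁻¹
  have hκm : ∀ x ∈ D, κ x ∈ D := fun x hx => (mem_normalizer_iff.mp hkD x).mp hx
  have hbot : D ⊓ centralizer ({t} : Set G) = ⊥ := by
    refine (Subgroup.eq_bot_iff_forall _).mpr fun i hi => ?_
    have hit := (mem_centralizer_singleton_iff.mp hi.2).symm
    have hfi := hfix i hi.1 hit
    have hκmul : ∀ a b, κ (a * b) = κ a * κ b := fun a b => by simp only [κ]; group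
    set i1 := κ i
    set i2 := κ i1
    set i3 := κ i2
    set i4 := κ i3
    have m1 : i1 ∈ D := hκm _ hi.1
    have m2 : i2 ∈ D := hκm _ m1
    have m3 : i3 ∈ D := hκm _ m2
    have m4 : i4 ∈ D := hκm _ m3
    have e5 : κ i4 = i := by
      show k * (k * (k * (k * (k * i * k⁻¹) * k⁻¹) * k⁻¹) * k⁻¹) * k⁻¹ = i
      rw [show k * (k * (k * (k * (k * i * k⁻¹) * k⁻¹) * k⁻¹) * k⁻¹) * k⁻¹ = k ^ 5 * i * (k ^ 5)⁻¹ by
        simp only [pow_succ, pow_zero, one_mul]; group, hk]
      group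
    have hprod : i * (i1 * (i2 * (i3 * i4))) = 1 := by
      have hm : i * (i1 * (i2 * (i3 * i4))) ∈ D := mul_mem hi.1 (mul_mem m1 (mul_mem m2 (mul_mem m3 m4)))
      refine h.fix_eq_one Nat.prime_five (by norm_num) hk hk1 (h.pow_four hD hm) ?_
      have e : κ (i * (i1 * (i2 * (i3 * i4)))) = i * (i1 * (i2 * (i3 * i4))) := by
        rw [hκmul i, hκmul i1, hκmul i2, hκmul i3, e5]
        calc i1 * (i2 * (i3 * (i4 * i))) = (i1 * (i2 * (i3 * i4))) * i := by group
          _ = _ := hcomm _ (mul_mem m1 (mul_mem m2 (mul_mem m3 m4))) _ hi.1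
      exact mul_inv_eq_iff_eq_mul.mp e
    have hφκ : ∀ z, φ (κ z) = κ (κ (φ z)) := fun z => by
      show f * (k * z * k⁻¹) * f⁻¹ = k * (k * (f * z * f⁻¹) * k⁻¹) * k⁻¹
      rw [show f * (k * z * k⁻¹) * f⁻¹ = (f * k * f⁻¹) * (f * z * f⁻¹) * (f * k * f⁻¹)⁻¹ by group, hf,
        pow_two]
      group
    have f1 : φ i1 = i2 := by rw [show i1 = κ i from rfl, hφκ, hfi]
    have f2 : φ i2 = i4 := by rw [show i2 = κ i1 from rfl, hφκ, f1]
    have f3 : φ i3 = i1 := by rw [show i3 = κ i2 from rfl, hφκ, f2, e5]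
    have f4 : φ i4 = i3 := by rw [show i4 = κ i3 from rfl, hφκ, f3]
    have hv : φ (i1 * i4) = i1 * i4 := by
      refine hfix _ (mul_mem m1 m4) ?_
      have hτκ : ∀ z, t * κ z * t = k⁻¹ * (t * z * t) * k := fun z => by
        show t * (k * z * k⁻¹) * t = _
        calc t * (k * z * k⁻¹) * t = (t * k * t) * (t⁻¹ * z * t) * (t⁻¹ * k * t)⁻¹ := by group
          _ = _ := by rw [inv_eq_of_mul_eq_one_left htt, hp.inv, inv_inv]
      have ti : t * i * t = i := by rw [hit, mul_assoc, htt, mul_one]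
      have e14 : t * i1 * t = i4 := by
        rw [show i1 = κ i from rfl, hτκ, ti]
        conv_lhs => rw [← e5]
        simp only [κ]; group
      have e41 : t * i4 * t = i1 := by
        rw [← e14, show t * (t * i1 * t) * t = (t * t) * i1 * (t * t) by group, htt, one_mul, mul_one]
      calc t * (i1 * i4) = t * i1 * (t * t) * i4 * (t * t) := by rw [htt, mul_one, mul_one, ← mul_assoc]
        _ = (t * i1 * t) * (t * i4 * t) * t := by group
        _ = i4 * i1 * t := by rw [e14, e41]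
        _ = i1 * i4 * t := by rw [hcomm i4 m4 i1 m1]
    have hv' : φ (i1 * i4) = i2 * i3 := by
      rw [show φ (i1 * i4) = φ i1 * φ i4 by simp only [φ]; group, f1, f4]
    rw [hv] at hv'
    calc i = i * ((i1 * i4) * (i1 * i4)) := by rw [hsq _ (mul_mem m1 m4), mul_one]
      _ = i * ((i1 * i4) * (i2 * i3)) := by rw [← hv']
      _ = i * (i1 * (i4 * (i2 * i3))) := by group
      _ = i * (i1 * ((i2 * i3) * i4)) := by rw [hcomm i4 m4 _ (mul_mem m2 m3)]
      _ = 1 := by rw [← hprod]; group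
  rw [hbot, Subgroup.card_bot, one_pow] at hcard
  exact Subgroup.card_eq_one.mp hcard.symm

end Cfsg.Agent.Block.Spec5
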