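import Mathlib

/-!
The arithmetic of the involution count.
-/

set_option autoImplicit false
set_option maxHeartbeats 2000000

namespace Cfsg.Agent.Block.Spec5

/-- Possible contributions of a prime: the multiples of `q - 1`. -/
def Contrib (q u : ℕ) : Prop := u = 0 ∨ u = q - 1 ∨ u = 2 * (q - 1) ∨ u = 4 * (q - 1)

theorem count_4_3_five_5 {q3 u v : ℕ} (hd : 9 ∣ q3) (hu : Contrib q3 u) (hv : Contrib 5 v) :
    8 * (q3 * 5) ≠ 8 * 3 + 4 * (u + v) := by
  intro he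
  rcases hu with rfl | rfl | rfl | rfl <;> rcases hv with rfl | rfl | rfl | rfl <;> omega

theorem count_4_3_five_25 {q3 u v : ℕ} (hd : 9 ∣ q3) (hu : Contrib q3 u) (hv : Contrib 25 v) :
    8 * (q3 * 25) ≠ 8 * 3 + 4 * (u + v) := by
  intro he
  rcases hu with rfl | rfl | rfl | rfl <;> rcases hv with rfl | rfl | rfl | rfl <;> omega

theorem count_4_3_three_9 {q5 u v : ℕ} (hd : 125 ∣ q5) (hu : Contrib 9 u) (hv : Contrib q5 v) :
    8 * (9 * q5) ≠ 8 * 3 + 4 * (u + v) := by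
  intro he
  rcases hu with rfl | rfl | rfl | rfl <;> rcases hv with rfl | rfl | rfl | rfl <;> omega

theorem count_4_3_three_27 {q5 u v : ℕ} (hd : 125 ∣ q5) (hu : Contrib 27 u) (hv : Contrib q5 v) :
    8 * (27 * q5) ≠ 8 * 3 + 4 * (u + v) := by
  intro he
  rcases hu with rfl | rfl | rfl | rfl <;> rcases hv with rfl | rfl | rfl | rfl <;> omega

theorem count_16_3_five_5 {q3 u v : ℕ} (hd : 9 ∣ q3) (hu : Contrib q3 u) (hv : Contrib 5 v) :
    8 * (q3 * 5) ≠ 8 * 3 + 16 * (u + v) := by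
  intro he
  rcases hu with rfl | rfl | rfl | rfl <;> rcases hv with rfl | rfl | rfl | rfl <;> omega

theorem count_16_3_five_25 {q3 u v : ℕ} (hd : 9 ∣ q3) (hu : Contrib q3 u) (hv : Contrib 25 v) :
    8 * (q3 * 25) ≠ 8 * 3 + 16 * (u + v) := by
  intro he
  rcases hu with rfl | rfl | rfl | rfl <;> rcases hv with rfl | rfl | rfl | rfl <;> omega

theorem count_16_3_three_9 {q5 u v : ℕ} (hd : 125 ∣ q5) (hu : Contrib 9 u) (hv : Contrib q5 v) :
    8 * (9 * q5) ≠ 8 * 3 + 16 * (u + v) := by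
  intro he
  rcases hu with rfl | rfl | rfl | rfl <;> rcases hv with rfl | rfl | rfl | rfl <;> omega

theorem count_16_3_three_27 {q5 u v : ℕ} (hd : 125 ∣ q5) (hu : Contrib 27 u) (hv : Contrib q5 v) :
    8 * (27 * q5) ≠ 8 * 3 + 16 * (u + v) := by
  intro he
  rcases hu with rfl | rfl | rfl | rfl <;> rcases hv with rfl | rfl | rfl | rfl <;> omega

theorem count_64_3_five_5 {q3 u v : ℕ} (hd : 9 ∣ q3) (hu : Contrib q3 u) (hv : Contrib 5 v) :
    8 * (q3 * 5) ≠ 8 * 3 + 64 * (u + v) := by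
  intro he
  rcases hu with rfl | rfl | rfl | rfl <;> rcases hv with rfl | rfl | rfl | rfl <;> omega

theorem count_64_3_five_25 {q3 u v : ℕ} (hd : 9 ∣ q3) (hu : Contrib q3 u) (hv : Contrib 25 v) :
    8 * (q3 * 25) ≠ 8 * 3 + 64 * (u + v) := by
  intro he
  rcases hu with rfl | rfl | rfl | rfl <;> rcases hv with rfl | rfl | rfl | rfl <;> omega

theorem count_64_3_three_9 {q5 u v : ℕ} (hd : 125 ∣ q5) (hu : Contrib 9 u) (hv : Contrib q5 v) :
    8 * (9 * q5) ≠ 8 * 3 + 64 * (u + v) := by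
  intro he
  rcases hu with rfl | rfl | rfl | rfl <;> rcases hv with rfl | rfl | rfl | rfl <;> omega

theorem count_64_3_three_27 {q5 u v : ℕ} (hd : 125 ∣ q5) (hu : Contrib 27 u) (hv : Contrib q5 v) :
    8 * (27 * q5) ≠ 8 * 3 + 64 * (u + v) := by
  intro he
  rcases hu with rfl | rfl | rfl | rfl <;> rcases hv with rfl | rfl | rfl | rfl <;> omega

theorem count_64_123_five_5 {q3 u v : ℕ} (hd : 9 ∣ q3) (hu : Contrib q3 u) (hv : Contrib 5 v) :
    8 * (q3 * 5) ≠ 8 * 123 + 64 * (u + v) := by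
  intro he
  rcases hu with rfl | rfl | rfl | rfl <;> rcases hv with rfl | rfl | rfl | rfl <;> omega

theorem count_64_123_five_25 {q3 u v : ℕ} (hd : 9 ∣ q3) (hu : Contrib q3 u) (hv : Contrib 25 v) :
    8 * (q3 * 25) ≠ 8 * 123 + 64 * (u + v) := by
  intro he
  rcases hu with rfl | rfl | rfl | rfl <;> rcases hv with rfl | rfl | rfl | rfl <;> omega

theorem count_64_123_three_9 {q5 u v : ℕ} (hd : 125 ∣ q5) (hu : Contrib 9 u) (hv : Contrib q5 v) :
    8 * (9 * q5) ≠ 8 * 123 + 64 * (u + v) := by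
  intro he
  rcases hu with rfl | rfl | rfl | rfl <;> rcases hv with rfl | rfl | rfl | rfl <;> omega

theorem count_64_123_three_27 {q5 u v : ℕ} (hd : 125 ∣ q5) (hu : Contrib 27 u) (hv : Contrib q5 v) :
    8 * (27 * q5) ≠ 8 * 123 + 64 * (u + v) := by
  intro he
  rcases hu with rfl | rfl | rfl | rfl <;> rcases hv with rfl | rfl | rfl | rfl <;> omega

/-- No solutions of the counting equation. -/
theorem no_count {q3 q5 s k u v α β : ℕ} (h3 : q3 = 3 ^ α) (hα : 2 ≤ α) (h5 : q5 = 5 ^ β) (hβ : 1 ≤ β)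
    (hs : (s = 4 ∧ k = 3) ∨ (s = 16 ∧ k = 3) ∨ (s = 64 ∧ k = 3) ∨ (s = 64 ∧ k = 123))
    (hu : Contrib q3 u) (hv : Contrib q5 v) : 8 * (q3 * q5) ≠ 8 * k + s * (u + v) := by
  have hd3 : 9 ∣ q3 := by
    have := Nat.pow_dvd_pow 3 hα
    rw [h3]; norm_num at this ⊢; exact this
  rcases (show β = 1 ∨ β = 2 ∨ 3 ≤ β by omega) with rfl | rfl | hβ3
  · norm_num at h5
    subst h5
    rcases hs with ⟨rfl, rfl⟩ | ⟨rfl, rfl⟩ | ⟨rfl, rfl⟩ | ⟨rfl, rfl⟩
    · exact count_4_3_five_5 hd3 hu hv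
    · exact count_16_3_five_5 hd3 hu hv
    · exact count_64_3_five_5 hd3 hu hv
    · exact count_64_123_five_5 hd3 hu hv
  · norm_num at h5
    subst h5
    rcases hs with ⟨rfl, rfl⟩ | ⟨rfl, rfl⟩ | ⟨rfl, rfl⟩ | ⟨rfl, rfl⟩
    · exact count_4_3_five_25 hd3 hu hv
    · exact count_16_3_five_25 hd3 hu hv
    · exact count_64_3_five_25 hd3 hu hv
    · exact count_64_123_five_25 hd3 hu hv
  have hd5 : 125 ∣ q5 := by
    have := Nat.pow_dvd_pow 5 hβ3
    rw [h5]; norm_num at this ⊢; exact this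
  rcases (show α = 2 ∨ α = 3 ∨ 4 ≤ α by omega) with rfl | rfl | hα4
  · norm_num at h3
    subst h3
    rcases hs with ⟨rfl, rfl⟩ | ⟨rfl, rfl⟩ | ⟨rfl, rfl⟩ | ⟨rfl, rfl⟩
    · exact count_4_3_three_9 hd5 hu hv
    · exact count_16_3_three_9 hd5 hu hv
    · exact count_64_3_three_9 hd5 hu hv
    · exact count_64_123_three_9 hd5 hu hv
  · norm_num at h3
    subst h3
    rcases hs with ⟨rfl, rfl⟩ | ⟨rfl, rfl⟩ | ⟨rfl, rfl⟩ | ⟨rfl, rfl⟩
    · exact count_4_3_three_27 hd5 hu hv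
    · exact count_16_3_three_27 hd5 hu hv
    · exact count_64_3_three_27 hd5 hu hv
    · exact count_64_123_three_27 hd5 hu hv
  have h3' : 81 ≤ q3 := by
    have := Nat.pow_le_pow_right (show 0 < 3 by norm_num) hα4
    rw [h3]; norm_num at this ⊢; exact this
  have h5' : 125 ≤ q5 := Nat.le_of_dvd (by rw [h5]; exact Nat.pow_pos (by norm_num)) hd5
  have hu' : u ≤ 4 * q3 := by unfold Contrib at hu; omega
  have hv' : v ≤ 4 * q5 := by unfold Contrib at hv; omega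
  have hs' : s ≤ 64 := by omega
  have hk' : k ≤ 123 := by omega
  have hb : s * (u + v) ≤ 64 * (4 * q3 + 4 * q5) := Nat.mul_le_mul hs' (by omega)
  have h6 : 81 * q5 ≤ q3 * q5 := Nat.mul_le_mul_right _ h3'
  have h7 : q3 * 125 ≤ q3 * q5 := Nat.mul_le_mul_left _ h5'
  omega

end Cfsg.Agent.Block.Spec5
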