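import Mathlib
import Cfsg.Agent.Lib.Block.Spec5.Inverting
import Cfsg.Agent.Lib.Block.Spec5.Arith

/-!
Counting pairs of involutions when there is a single class of involutions.
-/

set_option autoImplicit false
set_option linter.unusedSectionVars false
set_option linter.style.haveILetI false

namespace Cfsg.Agent.Block.Spec5

open Subgroup

universe u

variable {G : Type u} [Group G] [Finite G]

/-- The involutions. -/
abbrev Inv2 (G : Type u) [Group G] := {i : G // orderOf i = 2}

/-- The ordered pairs of involutions with product of a given order. -/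
abbrev PairOrd (G : Type u) [Group G] (m : ℕ) :=
  {ij : Inv2 G × Inv2 G // orderOf ((ij.1 : G) * (ij.2 : G)) = m}

/-- Conjugation on involutions. -/
def conjInv (g : G) (i : Inv2 G) : Inv2 G :=
  ⟨g * i * g⁻¹, by rw [Invol.orderOf_conj_eq]; exact i.2⟩

theorem inv2_sq (i : Inv2 G) : (i : G) * i = 1 := Invol.mul_self_of_orderOf_two i.2

theorem inv2_inv (i : Inv2 G) : (i : G)⁻¹ = i := Invol.inv_of_orderOf_two i.2

/-- A finite group of exponent four with a unique involution, every element of square one or `z`. -/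
theorem card_le_eight_of_unique {H : Type u} [Group H] [Finite H] (h4 : ∀ x : H, x ^ 4 = 1) (z : H)
    (hu : ∀ x : H, x * x = 1 → x = 1 ∨ x = z) : Nat.card H ≤ 8 := by
  classical
  have hz : ∀ x : H, x ≠ 1 → x ≠ z → x * x = z := fun x h1 h2 => by
    rcases hu (x * x) (by rw [← h4 x]; simp only [pow_succ, pow_zero, one_mul, mul_assoc]) with e | e
    · rcases hu x e with e' | e'
      · exact absurd e' h1
      · exact absurd e' h2
    · exact e
  have hzc : ∀ x : H, z * x = x * z := fun x => by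
    by_cases h1 : x = 1
    · rw [h1, mul_one, one_mul]
    by_cases h2 : x = z
    · rw [h2]
    · rw [← hz x h1 h2, mul_assoc]
  by_cases hsmall : ∀ x : H, x = 1 ∨ x = z
  · have : Nat.card H ≤ 2 := by
      haveI := Fintype.ofFinite H
      rw [Nat.card_eq_fintype_card, ← Finset.card_univ]
      refine le_trans (Finset.card_le_card (t := {1, z}) fun x _ => by
        rcases hsmall x with e | e <;> simp [e]) (le_trans (Finset.card_insert_le _ _) (by simp))
    omega
  push Not at hsmall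
  obtain ⟨a, ha1, haz⟩ := hsmall
  have haa := hz a ha1 haz
  set C := Subgroup.centralizer ({a} : Set H)
  -- the centraliser has order at most four
  have hCmem : ∀ c ∈ C, c = 1 ∨ c = z ∨ c = a ∨ c = z * a := by
    intro c hc
    have hca : c * a = a * c := Subgroup.mem_centralizer_singleton_iff.mp hc
    by_cases h1 : c = 1
    · exact Or.inl h1
    by_cases h2 : c = z
    · exact Or.inr (Or.inl h2)
    have hcc := hz c h1 h2
    have hzz : z * z = 1 := by
      rw [← haa, ← h4 a]; simp only [pow_succ, pow_zero, one_mul, mul_assoc]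
    have hsq : (c * a) * (c * a) = 1 := by
      calc (c * a) * (c * a) = c * (a * c) * a := by group
        _ = (c * c) * (a * a) := by rw [← hca]; group
        _ = 1 := by rw [hcc, haa, hzz]
    have hainv : a⁻¹ = z * a := inv_eq_of_mul_eq_one_right (by rw [← mul_assoc, ← hzc, mul_assoc, haa, hzz])
    rcases hu _ hsq with e | e
    · refine Or.inr (Or.inr (Or.inr ?_))
      rw [← hainv]; exact eq_inv_of_mul_eq_one_left e
    · refine Or.inr (Or.inr (Or.inl ?_))
      calc c = c * a * a⁻¹ := (mul_inv_cancel_right _ _).symm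
        _ = a := by rw [e, hainv, ← mul_assoc, hzz, one_mul]
  have hC4 : Nat.card C ≤ 4 := by
    haveI := Fintype.ofFinite C
    rw [Nat.card_eq_fintype_card, ← Finset.card_univ,
      ← Finset.card_image_of_injective _ Subtype.val_injective]
    refine le_trans (Finset.card_le_card (t := {1, z, a, z * a}) fun x hx => ?_) ?_
    · obtain ⟨y, -, rfl⟩ := Finset.mem_image.mp hx
      rcases hCmem y y.2 with e | e | e | e <;> simp [e]
    · exact le_trans (Finset.card_insert_le _ _) (Nat.succ_le_succ (le_trans (Finset.card_insert_le _ _)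
        (Nat.succ_le_succ (le_trans (Finset.card_insert_le _ _) (by simp)))))
  -- elements outside conjugate `a` to `z * a`
  have hout : ∀ c : H, c ∉ C → c * a * c⁻¹ = z * a := by
    intro c hc
    have hca : c * a ≠ a * c := fun e => hc (Subgroup.mem_centralizer_singleton_iff.mpr e)
    have hc1 : c ≠ 1 := fun e => hca (by rw [e, one_mul, mul_one])
    have hcz : c ≠ z := fun e => hca (by rw [e, hzc])
    have hp1 : c * a ≠ 1 := fun e => hca (by
      rw [eq_inv_of_mul_eq_one_left e, mul_inv_cancel, inv_mul_cancel])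
    have hpz : c * a ≠ z := fun e => hca (by
      have hc' : c = z * a⁻¹ := eq_mul_inv_of_mul_eq e
      rw [hc', inv_mul_cancel_right, ← mul_assoc, ← hzc, mul_assoc, mul_inv_cancel, mul_one])
    have hcc := hz c hc1 hcz
    have hcaca := hz (c * a) hp1 hpz
    -- c a c a = z = c c
    have e : a * (c * a) = c := mul_left_cancel (a := c) (by rw [hcc, ← mul_assoc]; exact hcaca)
    calc c * a * c⁻¹ = a⁻¹ * (a * (c * a)) * c⁻¹ := by group
      _ = a⁻¹ := by rw [e, mul_inv_cancel_right]
      _ = z * a := inv_eq_of_mul_eq_one_right (by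
        rw [← mul_assoc, ← hzc, mul_assoc, haa, ← haa, ← h4 a]
        simp only [pow_succ, pow_zero, one_mul, mul_assoc])
  have hidx : C.index ≤ 2 := by
    by_cases hall : ∀ c : H, c ∈ C
    · rw [(Subgroup.eq_top_iff' C).mpr hall, Subgroup.index_top]; omega
    push Not at hall
    obtain ⟨c, hc⟩ := hall
    refine le_of_eq ((Subgroup.index_eq_two_iff).mpr ⟨c, fun b => ?_⟩)
    by_cases hb : b ∈ C
    · exact Or.inr ⟨hb, fun h => hc ((Subgroup.mul_mem_cancel_left C hb).mp h)⟩
    · refine Or.inl ⟨?_, hb⟩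
      refine Subgroup.mem_centralizer_singleton_iff.mpr (mul_inv_eq_iff_eq_mul.mp ?_)
      calc b * c * a * (b * c)⁻¹ = b * (c * a * c⁻¹) * b⁻¹ := by group
        _ = b * (z * a) * b⁻¹ := by rw [hout c hc]
        _ = z * (b * a * b⁻¹) := by rw [← mul_assoc b, ← hzc b]; group
        _ = a := by
          rw [hout b hb, ← mul_assoc, ← haa, show a * a * (a * a) = a ^ 4 by
            simp only [pow_succ, pow_zero, one_mul, mul_assoc], h4, one_mul]
  calc Nat.card H = Nat.card C * C.index := (Subgroup.card_mul_index C).symm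
    _ ≤ 4 * 2 := Nat.mul_le_mul hC4 hidx

/-- The pairs whose product has odd prime order `p`. -/
theorem pairs_odd (h : Ord5 G) {p : ℕ} [hp : Fact p.Prime] (hp2 : p ≠ 2) :
    Nat.card (PairOrd G p) = 0 ∨
      ∃ k : ℕ, (k = 2 ∨ k = 4 ∨ k = 8) ∧
        k * Nat.card (PairOrd G p) = Nat.card G * (p ^ (Nat.card G).factorization p - 1) := by
  classical
  rcases Nat.eq_zero_or_pos (Nat.card (PairOrd G p)) with e | e
  · exact Or.inl e
  right
  obtain ⟨⟨⟨i, j⟩, hij⟩⟩ := (Nat.card_pos_iff.mp e).1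
  set x := (i : G) * j with hxdef
  have hx1 : x ≠ 1 := fun e0 => by
    rw [e0, orderOf_one] at hij
    exact hp.out.ne_one hij.symm
  have hxp : x ^ p = 1 := by
    have := pow_orderOf_eq_one x
    rwa [show orderOf x = p from hij] at this
  have hix : (i : G) * x * i = x⁻¹ := by
    rw [hxdef, mul_inv_rev, inv2_inv, inv2_inv, show (i : G) * (i * j) * i = i * i * (j * i) by group,
      inv2_sq, one_mul]
  set P := centralizer ({x} : Set G) with hPdef
  have hPp : IsPGroup p P := h.centralizer_isPGroup hp.out hp2 hxp hx1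
  have hmemP : ∀ g : G, g ∈ P ↔ g * x = x * g := fun g => mem_centralizer_singleton_iff
  have hxP : x ∈ P := (hmemP x).mpr rfl
  have hiv : ((i : G))⁻¹ = i := inv2_inv i
  have hconjmul : ∀ a b : G, (i : G) * (a * b) * i = (i * a * i) * (i * b * i) := fun a b => by
    calc (i : G) * (a * b) * i = i * a * (1 * (b * i)) := by group
      _ = _ := by rw [← inv2_sq i]; group
  have hconjinv : ∀ a : G, (i : G) * a⁻¹ * i = (i * a * i)⁻¹ := fun a => by
    rw [mul_inv_rev, mul_inv_rev, hiv, mul_assoc]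
  have hinv2 : ∀ a : G, (i : G) * (i * a * i) * i = a := fun a => by
    rw [show (i : G) * (i * a * i) * i = (i * i) * a * (i * i) by group, inv2_sq, one_mul, mul_one]
  have hiP : ∀ g ∈ P, (i : G) * g * i ∈ P := fun g hg => by
    rw [hmemP] at hg ⊢
    have e1 : g * x⁻¹ = x⁻¹ * g := (Commute.inv_right hg)
    calc (i : G) * g * i * x = i * g * i * (i * x⁻¹ * i) := by rw [hconjinv, hix, inv_inv]
      _ = i * (g * x⁻¹) * i := (hconjmul _ _).symm
      _ = (i * x⁻¹ * i) * (i * g * i) := by rw [e1]; exact hconjmul _ _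
      _ = x * ((i : G) * g * i) := by rw [hconjinv, hix, inv_inv]
  -- `i` inverts `P`
  have hfpf : ∀ g ∈ P, (i : G) * g * i = g → g = 1 := by
    intro g hg e0
    by_contra hg1
    refine (Invol.ne_one_of_orderOf_two i.2) (h.fix_eq_one hp.out hp2 (h.pow_prime hp2 hPp hg) hg1
      (by rw [← orderOf_dvd_iff_pow_eq_one, i.2]; norm_num) ?_)
    show g * i = i * g
    conv_lhs => rw [← e0]
    rw [mul_assoc, inv2_sq, mul_one]
  have hinv : ∀ g ∈ P, (i : G) * g * i = g⁻¹ := by
    have hinj : Function.Injective fun g : P => (⟨(g : G)⁻¹ * ((i : G) * g * i),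
        mul_mem (inv_mem g.2) (hiP g g.2)⟩ : P) := by
      intro a b hab
      have e0 : (a : G)⁻¹ * ((i : G) * a * i) = (b : G)⁻¹ * ((i : G) * b * i) := congrArg Subtype.val hab
      refine Subtype.ext (mul_inv_eq_one.mp (hfpf _ (mul_mem a.2 (inv_mem b.2)) ?_))
      rw [hconjmul, hconjinv, show (i : G) * a * i = a * (b : G)⁻¹ * ((i : G) * b * i) by
        rw [mul_assoc (a : G), ← e0, ← mul_assoc, mul_inv_cancel, one_mul], mul_inv_cancel_right]
    intro g hg
    obtain ⟨⟨y, hy⟩, hyg⟩ := Finite.surjective_of_injective hinj ⟨g, hg⟩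
    have e0 : y⁻¹ * ((i : G) * y * i) = g := congrArg Subtype.val hyg
    rw [← e0, mul_inv_rev, inv_inv, hconjmul, hconjinv, hinv2]
  have hPc : ∀ a ∈ P, ∀ b ∈ P, a * b = b * a := fun a ha b hb => by
    have e0 := hconjmul a b
    rw [hinv _ (mul_mem ha hb), hinv a ha, hinv b hb] at e0
    have := congrArg (·⁻¹) e0
    simpa using this
  have hiNP : ∀ g ∈ P, g ≠ 1 → centralizer ({g} : Set G) = P := by
    intro g hg hg1
    refine le_antisymm (fun c hc => ?_) fun c hc => mem_centralizer_singleton_iff.mpr (hPc c hc g hg)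
    -- the centraliser of `g` is abelian too
    have hgp := h.pow_prime hp2 hPp hg
    have hCp := h.centralizer_isPGroup hp.out hp2 hgp hg1
    have hiC : ∀ d ∈ centralizer ({g} : Set G), (i : G) * d * i ∈ centralizer ({g} : Set G) := by
      intro d hd
      rw [mem_centralizer_singleton_iff] at hd ⊢
      have hd' : d * g⁻¹ = g⁻¹ * d := Commute.inv_right hd
      have hg' : (i : G) * g⁻¹ * i = g := by rw [hconjinv, hinv g hg, inv_inv]
      conv_lhs => rw [← hg']
      conv_rhs => rw [← hg']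
      rw [← hconjmul, ← hconjmul, hd']
    have hfpf' : ∀ d ∈ centralizer ({g} : Set G), (i : G) * d * i = d → d = 1 := by
      intro d hd e0
      by_contra hd1
      refine (Invol.ne_one_of_orderOf_two i.2) (h.fix_eq_one hp.out hp2 (h.pow_prime hp2 hCp hd) hd1
        (by rw [← orderOf_dvd_iff_pow_eq_one, i.2]; norm_num) ?_)
      show d * i = i * d
      conv_lhs => rw [← e0]
      rw [mul_assoc, inv2_sq, mul_one]
    have hinv' : ∀ d ∈ centralizer ({g} : Set G), (i : G) * d * i = d⁻¹ := by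
      have hinj : Function.Injective fun d : centralizer ({g} : Set G) => (⟨(d : G)⁻¹ * ((i : G) * d * i),
          mul_mem (inv_mem d.2) (hiC d d.2)⟩ : centralizer ({g} : Set G)) := by
        intro a b hab
        have e0 : (a : G)⁻¹ * ((i : G) * a * i) = (b : G)⁻¹ * ((i : G) * b * i) := congrArg Subtype.val hab
        refine Subtype.ext (mul_inv_eq_one.mp (hfpf' _ (mul_mem a.2 (inv_mem b.2)) ?_))
        rw [hconjmul, hconjinv, show (i : G) * a * i = a * (b : G)⁻¹ * ((i : G) * b * i) by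
          rw [mul_assoc (a : G), ← e0, ← mul_assoc, mul_inv_cancel, one_mul], mul_inv_cancel_right]
      intro d hd
      obtain ⟨⟨y, hy⟩, hyd⟩ := Finite.surjective_of_injective hinj ⟨d, hd⟩
      have e0 : y⁻¹ * ((i : G) * y * i) = d := congrArg Subtype.val hyd
      rw [← e0, mul_inv_rev, inv_inv, hconjmul, hconjinv, hinv2]
    have hxC : x ∈ centralizer ({g} : Set G) := mem_centralizer_singleton_iff.mpr (hPc x hxP g hg)
    have e0 := hconjmul c x
    rw [hinv' _ (mul_mem hc hxC), hinv' c hc, hinv' x hxC] at e0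
    have := congrArg (·⁻¹) e0
    exact (hmemP c).mpr (by simpa using this)
  -- `P` is a Sylow subgroup
  obtain ⟨R, hR⟩ := hPp.exists_le_sylow
  have hRP : (R : Subgroup G) = P := by
    refine le_antisymm ?_ hR
    haveI : Nontrivial R :=
      ⟨⟨⟨x, hR hxP⟩, 1, fun e0 => hx1 (congrArg Subtype.val e0)⟩⟩
    haveI := R.isPGroup'.center_nontrivial
    obtain ⟨⟨z, hz⟩, hz1⟩ := exists_ne (1 : Subgroup.center R)
    have hzP : (z : G) ∈ P := (hmemP _).mpr
      (congrArg Subtype.val (Subgroup.mem_center_iff.mp hz ⟨x, hR hxP⟩)).symm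
    intro c hc
    rw [← hiNP _ hzP fun e0 => hz1 (Subtype.ext (Subtype.ext e0)), mem_centralizer_singleton_iff]
    exact congrArg Subtype.val (Subgroup.mem_center_iff.mp hz ⟨c, hc⟩)
  set q := p ^ (Nat.card G).factorization p with hq
  have hqP : Nat.card P = q := by rw [← hRP, R.card_eq_multiplicity]
  -- every element of order `p` has `q` inverting pairs
  have hconjP : ∀ y : G, orderOf y = p → ∃ g : G, g * y * g⁻¹ ∈ P ∧ g * y * g⁻¹ ≠ 1 := by
    intro y hy
    obtain ⟨S, hS⟩ := (IsPGroup.of_card (n := 1) (by rw [Nat.card_zpowers, hy, pow_one]) :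
      IsPGroup p (zpowers y)).exists_le_sylow
    obtain ⟨g, hg⟩ := MulAction.exists_smul_eq G S R
    refine ⟨g, ?_, fun e0 => ?_⟩
    · rw [← hRP, ← hg, Sylow.coe_subgroup_smul]
      exact Subgroup.smul_mem_pointwise_smul y (MulAut.conj g) (S : Subgroup G) (hS (mem_zpowers y))
    · rw [mul_inv_eq_one, mul_eq_left] at e0
      rw [e0, orderOf_one] at hy
      exact hp.out.ne_one hy.symm
  have hfib : ∀ y : G, orderOf y = p →
      Nat.card {ij : PairOrd G p // ((ij.1.1 : G) * ij.1.2) = y} = q := by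
    intro y hy
    obtain ⟨g, hgP, hg1⟩ := hconjP y hy
    have hz := hinv _ hgP
    set z := g * y * g⁻¹ with hzdef
    have e1 : Nat.card {ij : PairOrd G p // ((ij.1.1 : G) * ij.1.2) = y} =
        Nat.card {a : G // a * a = 1 ∧ a ≠ 1 ∧ a * z * a = z⁻¹} := by
      refine Nat.card_congr
        { toFun := fun ij => ⟨g * ij.1.1.1 * g⁻¹, ?_, ?_, ?_⟩
          invFun := fun a => ⟨⟨⟨⟨g⁻¹ * a * g, ?_⟩, ⟨g⁻¹ * (a * z) * g, ?_⟩⟩, ?_⟩, ?_⟩
          left_inv := ?_
          right_inv := ?_ }
      · rw [show g * (ij.1.1.1 : G) * g⁻¹ * (g * ij.1.1.1 * g⁻¹) = g * (ij.1.1.1 * ij.1.1.1) * g⁻¹ by group,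
          inv2_sq]
        group
      · intro e0
        rw [mul_inv_eq_one, mul_eq_left] at e0
        exact Invol.ne_one_of_orderOf_two ij.1.1.1.2 e0
      · have hzy : z = g * ((ij.1.1.1 : G) * ij.1.1.2) * g⁻¹ :=
          hzdef.trans (congrArg (fun w => g * w * g⁻¹) ij.2.symm)
        rw [hzy, show g * (ij.1.1.1 : G) * g⁻¹ * (g * (ij.1.1.1 * ij.1.1.2) * g⁻¹) *
            (g * ij.1.1.1 * g⁻¹) = g * ((ij.1.1.1 * ij.1.1.1) * ij.1.1.2 * ij.1.1.1) * g⁻¹ by group,
          inv2_sq, one_mul]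
        calc g * ((ij.1.1.2 : G) * ij.1.1.1) * g⁻¹
            = g * ((ij.1.1.2 : G)⁻¹ * (ij.1.1.1 : G)⁻¹) * g⁻¹ := by rw [inv2_inv, inv2_inv]
          _ = _ := by group
      · refine orderOf_eq_two ?_ ?_
        · rw [show g⁻¹ * (a : G) * g * (g⁻¹ * a * g) = g⁻¹ * (a * a) * g by group, a.2.1]; group
        · intro e0
          apply a.2.2.1
          calc (a : G) = g * (g⁻¹ * a * g) * g⁻¹ := by group
            _ = 1 := by rw [e0]; group
      · have haz : (a : G) * z * (a * z) = 1 := by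
          rw [← mul_assoc, a.2.2.2, inv_mul_cancel]
        refine orderOf_eq_two ?_ ?_
        · rw [show g⁻¹ * ((a : G) * z) * g * (g⁻¹ * (a * z) * g) = g⁻¹ * (a * z * (a * z)) * g by group, haz]
          group
        · intro e0
          have e2 : (a : G) * z = 1 := by
            calc (a : G) * z = g * (g⁻¹ * (a * z) * g) * g⁻¹ := by group
              _ = 1 := by rw [e0]; group
          have hzp : z ^ p = 1 := h.pow_prime hp2 hPp hgP
          refine a.2.2.1 (by
            have hz2 : z = a :=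
              (inv_eq_of_mul_eq_one_right e2).symm.trans (inv_eq_of_mul_eq_one_left a.2.1)
            obtain ⟨k, hk⟩ := (Nat.Prime.odd_of_ne_two hp.out hp2)
            rw [hz2, hk, pow_succ, pow_mul, pow_two, a.2.1, one_pow, one_mul] at hzp
            exact hzp)
      · show orderOf (g⁻¹ * (a : G) * g * (g⁻¹ * (a * z) * g)) = p
        rw [show g⁻¹ * (a : G) * g * (g⁻¹ * (a * z) * g) = g⁻¹ * ((a * a) * z) * g by group, a.2.1,
          one_mul, hzdef, show g⁻¹ * (g * y * g⁻¹) * g = y by group]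
        exact hy
      · show g⁻¹ * (a : G) * g * (g⁻¹ * (a * z) * g) = y
        rw [show g⁻¹ * (a : G) * g * (g⁻¹ * (a * z) * g) = g⁻¹ * ((a * a) * z) * g by group, a.2.1,
          one_mul, hzdef]
        group
      · intro ij
        refine Subtype.ext (Subtype.ext (Prod.ext (Subtype.ext ?_) (Subtype.ext ?_)))
        · show g⁻¹ * (g * (ij.1.1.1 : G) * g⁻¹) * g = ij.1.1.1
          group
        · show g⁻¹ * (g * (ij.1.1.1 : G) * g⁻¹ * z) * g = ij.1.1.2
          rw [hzdef.trans (congrArg (fun w => g * w * g⁻¹) ij.2.symm), show g⁻¹ * (g * (ij.1.1.1 : G) * g⁻¹ * (g * (ij.1.1.1 * ij.1.1.2) * g⁻¹)) * g =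
            (ij.1.1.1 * ij.1.1.1) * ij.1.1.2 by group, inv2_sq, one_mul]
      · intro a
        refine Subtype.ext ?_
        show g * (g⁻¹ * (a : G) * g) * g⁻¹ = a
        group
    rw [e1, ← hqP]
    refine Nat.card_congr
      { toFun := fun a => ⟨(i : G) * a, ?_⟩
        invFun := fun u => ⟨(i : G) * u, ?_, ?_, ?_⟩
        left_inv := fun a => Subtype.ext (by
          show (i : G) * (i * a) = a
          rw [← mul_assoc, inv2_sq, one_mul])
        right_inv := fun u => Subtype.ext (by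
          show (i : G) * (i * u) = u
          rw [← mul_assoc, inv2_sq, one_mul]) }
    · rw [← hiNP z hgP hg1, mem_centralizer_singleton_iff]
      have e0 : (a : G) * z * (a : G)⁻¹ = z⁻¹ := by rw [inv_eq_of_mul_eq_one_left a.2.1]; exact a.2.2.2
      calc (i : G) * a * z = i * (a * z * (a : G)⁻¹) * a := by group
        _ = (i * z⁻¹ * i) * (i * a) := by
          rw [e0]
          conv_rhs => rw [show ((i : G) * z⁻¹ * i) * (i * a) = i * z⁻¹ * (i * i) * a by group, inv2_sq, mul_one]
        _ = z * (i * a) := by rw [hconjinv, hz, inv_inv]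
    · calc (i : G) * u * (i * u) = (i * u * i) * u := by group
        _ = 1 := by rw [hinv u u.2, inv_mul_cancel]
    · intro e0
      have hu : (u : G) = i := by rw [← inv2_inv i]; exact eq_inv_of_mul_eq_one_right e0
      refine Invol.ne_one_of_orderOf_two i.2 (hfpf _ (hu ▸ u.2) ?_)
      rw [inv2_sq, one_mul]
    · calc (i : G) * u * z * (i * u) = i * (u * z) * i * u := by group
        _ = z⁻¹ := by
          rw [hconjmul, hinv u u.2, hz, mul_assoc]
          calc (u : G)⁻¹ * (z⁻¹ * u) = (u : G)⁻¹ * (u * z⁻¹) := by rw [hPc _ (inv_mem hgP) _ u.2]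
            _ = _ := by group
  -- the normaliser
  set N := normalizer (P : Set G) with hN
  have hiN : (i : G) ∈ N := by
    refine mem_normalizer_iff.mpr fun g => ?_
    rw [inv2_inv]
    exact ⟨hiP g, fun hg => by simpa [hinv2] using hiP _ hg⟩
  set H := N ⊓ centralizer ({(i : G)} : Set G) with hH
  have hHP : H ⊓ P = ⊥ := (Subgroup.eq_bot_iff_forall _).mpr fun g hg => by
    refine hfpf g hg.2 ?_
    rw [← (mem_centralizer_singleton_iff.mp hg.1.2), mul_assoc, inv2_sq, mul_one]
  have hNdec : ∀ y ∈ N, ∃ u ∈ P, ∃ w ∈ H, y = u * w := by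
    intro y hy
    have hyP : ∀ g ∈ P, y⁻¹ * g * y ∈ P := fun g hg => (mem_normalizer_iff''.mp hy g).mp hg
    have hu : y * i * y⁻¹ * i ∈ P := by
      rw [← hiNP x hxP hx1, mem_centralizer_singleton_iff]
      have hgx : (i : G) * (y⁻¹ * x⁻¹ * y) * i = y⁻¹ * x * y := by
        rw [hinv _ (hyP _ (inv_mem hxP))]; group
      have eix : (i : G) * x = x⁻¹ * i := by rw [← hix, mul_assoc _ (i : G) i, inv2_sq, mul_one]
      calc y * i * y⁻¹ * i * x = y * i * y⁻¹ * ((i : G) * x) := by group
        _ = y * (i * (y⁻¹ * x⁻¹ * y) * i) * ((i : G)⁻¹ * y⁻¹ * i) := by rw [eix]; group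
        _ = y * (y⁻¹ * x * y) * (i * y⁻¹ * i) := by rw [hgx, inv2_inv]
        _ = x * (y * i * y⁻¹ * i) := by group
    obtain ⟨v, hv, hvu⟩ : ∃ v ∈ P, v * v = y * i * y⁻¹ * i := by
      obtain ⟨k, hk⟩ := (Nat.Prime.odd_of_ne_two hp.out hp2)
      refine ⟨(y * i * y⁻¹ * i) ^ (k + 1), pow_mem hu _, ?_⟩
      rw [← pow_add, show k + 1 + (k + 1) = p + 1 by omega, pow_succ, h.pow_prime hp2 hPp hu, one_mul]
    refine ⟨v, hv, v⁻¹ * y, ⟨N.mul_mem (N.inv_mem (Subgroup.le_normalizer (H := P) hv)) hy,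
      mem_centralizer_singleton_iff.mpr ?_⟩, by group⟩
    have e0 : y * i * y⁻¹ = v * v * i := by
      rw [hvu, mul_assoc _ (i : G) i, inv2_sq, mul_one]
    have e1 : v * (i : G) = i * v⁻¹ := by
      rw [← hinv v hv]; simp only [← mul_assoc, inv2_sq, one_mul]
    calc v⁻¹ * y * i = v⁻¹ * (y * i * y⁻¹) * y := by group
      _ = v * i * y := by rw [e0]; group
      _ = i * (v⁻¹ * y) := by rw [e1]; group
  have hcardN : Nat.card N = Nat.card H * q := by
    rw [← hqP]
    have e0 := Cfsg.Agent.Grp.card_sup_mul_card_inf (H := H) (N := P) inf_le_left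
    rw [hHP, Subgroup.card_bot, mul_one] at e0
    rw [← e0]
    congr 1
    refine congrArg (fun K : Subgroup G => (K : Type u)) (le_antisymm (fun y hy => ?_) (sup_le inf_le_left le_normalizer))
    obtain ⟨u, hu, w, hw, rfl⟩ := hNdec y hy
    exact mul_mem (mem_sup_right hu) (mem_sup_left hw)
  have hH2 : IsPGroup 2 H := (h.centralizer_involution i.2).to_le inf_le_right
  have hH8 : Nat.card H ≤ 8 := by
    refine card_le_eight_of_unique (fun w => Subtype.ext (h.pow_four hH2 w.2))
      ⟨(i : G), hiN, mem_centralizer_singleton_iff.mpr rfl⟩ fun w hw => ?_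
    by_cases hw1 : w = 1
    · exact Or.inl hw1
    right
    have hww : (w : G) * w = 1 := congrArg Subtype.val hw
    have hwiv : (w : G)⁻¹ = w := inv_eq_of_mul_eq_one_left hww
    have hwP : ∀ g ∈ P, (w : G) * g * w ∈ P := fun g hg => by
      have := (mem_normalizer_iff.mp w.2.1 g).mp hg
      rwa [hwiv] at this
    have hwm : ∀ a b : G, (w : G) * (a * b) * w = (w * a * w) * (w * b * w) := fun a b => by
      calc (w : G) * (a * b) * w = w * a * (1 * (b * w)) := by group
        _ = _ := by rw [← hww]; group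
    have hfpfw : ∀ g ∈ P, (w : G) * g * w = g → g = 1 := by
      intro g hg e0
      by_contra hg1
      refine hw1 (Subtype.ext (h.fix_eq_one hp.out hp2 (h.pow_prime hp2 hPp hg) hg1
        (h.pow_four hH2 w.2) ?_))
      show g * (w : G) = w * g
      conv_lhs => rw [← e0]
      rw [mul_assoc, hww, mul_one]
    have hwx : (w : G) * x * w = x⁻¹ := by
      have e0 : (w : G) * x * w * x = 1 := by
        refine hfpfw _ (mul_mem (hwP x hxP) hxP) ?_
        rw [hwm, show (w : G) * (w * x * w) * w = (w * w) * x * (w * w) by group, hww, one_mul, mul_one]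
        exact hPc _ hxP _ (hwP x hxP)
      exact eq_inv_of_mul_eq_one_left e0
    have hiw : (i : G) * w ∈ P := by
      rw [← hiNP x hxP hx1, mem_centralizer_singleton_iff]
      calc (i : G) * w * x = i * (w * x * w) * (w : G)⁻¹ := by group
        _ = (i * x⁻¹ * i) * (i * w) := by
          rw [hwx, hwiv]
          conv_rhs => rw [show ((i : G) * x⁻¹ * i) * (i * w) = i * x⁻¹ * (i * i) * w by group, inv2_sq, mul_one]
        _ = x * (i * w) := by rw [hconjinv, hix, inv_inv]
    have hm : (i : G) * w ∈ H ⊓ P :=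
      ⟨mul_mem ⟨hiN, mem_centralizer_singleton_iff.mpr rfl⟩ w.2, hiw⟩
    rw [hHP, Subgroup.mem_bot] at hm
    exact Subtype.ext ((eq_inv_of_mul_eq_one_right hm).trans (inv2_inv i))
  obtain ⟨a, ha⟩ := (IsPGroup.iff_card (p := 2)).mp hH2
  have hH1 : 1 < Nat.card H := by
    haveI : Nontrivial H := ⟨⟨⟨(i : G), hiN, mem_centralizer_singleton_iff.mpr rfl⟩, 1,
      fun e0 => Invol.ne_one_of_orderOf_two i.2 (congrArg Subtype.val e0)⟩⟩
    exact Finite.one_lt_card
  have hHv : Nat.card H = 2 ∨ Nat.card H = 4 ∨ Nat.card H = 8 := by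
    rw [ha] at hH8 hH1 ⊢
    rcases a with _ | _ | _ | _ | a
    · omega
    · norm_num
    · norm_num
    · norm_num
    · have : 2 ^ 4 ≤ 2 ^ (a + 1 + 1 + 1 + 1) := Nat.pow_le_pow_right (by norm_num) (by omega)
      omega
  -- count the elements of order `p`
  have hcnt : Nat.card {y : G // orderOf y = p} = N.index * (q - 1) := by
    haveI : Fintype (Sylow p G) := Fintype.ofFinite _
    have e0 : ∀ S : Sylow p G, Nat.card {y : (S : Subgroup G) // y ≠ 1} = q - 1 := by
      intro S
      haveI := Fintype.ofFinite (S : Subgroup G)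
      rw [Nat.card_eq_fintype_card, Fintype.card_subtype_compl, Fintype.card_subtype_eq,
        ← Nat.card_eq_fintype_card, S.card_eq_multiplicity]
    have hTI : ∀ S T : Sylow p G, ∀ y : G, y ∈ (S : Subgroup G) → y ∈ (T : Subgroup G) → y ≠ 1 → S = T := by
      intro S T y hyS hyT hy1
      have key : ∀ S : Sylow p G, y ∈ (S : Subgroup G) → (S : Subgroup G) ≤ centralizer ({y} : Set G) := by
        intro S hyS c hc
        obtain ⟨g, hg⟩ := MulAction.exists_smul_eq G S R
        have hm : ∀ d ∈ (S : Subgroup G), g * d * g⁻¹ ∈ P := fun d hd => by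
          rw [← hRP, ← hg, Sylow.coe_subgroup_smul]
          exact Subgroup.smul_mem_pointwise_smul d (MulAut.conj g) (S : Subgroup G) hd
        have e1 := hPc _ (hm c hc) _ (hm y hyS)
        rw [mem_centralizer_singleton_iff]
        calc c * y = g⁻¹ * ((g * c * g⁻¹) * (g * y * g⁻¹)) * g := by group
          _ = y * c := by rw [e1]; group
      have hyo : y ^ p = 1 := h.pow_prime hp2 S.isPGroup' hyS
      obtain ⟨U, hU⟩ := (h.centralizer_isPGroup hp.out hp2 hyo hy1).exists_le_sylow
      have eS : S = U := Sylow.ext (Subgroup.eq_of_le_of_card_ge ((key S hyS).trans hU)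
        (by rw [S.card_eq_multiplicity, U.card_eq_multiplicity]))
      have eT : T = U := Sylow.ext (Subgroup.eq_of_le_of_card_ge ((key T hyT).trans hU)
        (by rw [T.card_eq_multiplicity, U.card_eq_multiplicity]))
      exact eS.trans eT.symm
    have e2 : Nat.card (Σ S : Sylow p G, {y : (S : Subgroup G) // y ≠ 1}) = N.index * (q - 1) := by
      rw [Nat.card_sigma, Finset.sum_congr rfl fun S _ => e0 S, Finset.sum_const, smul_eq_mul,
        Finset.card_univ, ← Nat.card_eq_fintype_card, Sylow.card_eq_index_normalizer R]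
      exact congrArg (fun K : Subgroup G => (normalizer (K : Set G)).index * (q - 1)) hRP
    rw [← e2]
    refine (Nat.card_congr (Equiv.ofBijective
      (fun s : (Σ S : Sylow p G, {y : (S : Subgroup G) // y ≠ 1}) =>
        (⟨((s.2 : (s.1 : Subgroup G)) : G), orderOf_eq_prime (h.pow_prime hp2 s.1.isPGroup' (SetLike.coe_mem _))
          (fun e1 => s.2.2 (Subtype.ext e1))⟩ : {y : G // orderOf y = p})) ⟨?_, ?_⟩)).symm
    · rintro ⟨S, ⟨a, ha1⟩⟩ ⟨T, ⟨b, hb1⟩⟩ e1
      have e3 : (a : G) = b := congrArg Subtype.val e1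
      obtain rfl : S = T := hTI S T a a.2 (e3 ▸ b.2) fun e4 => ha1 (Subtype.ext e4)
      exact Sigma.ext rfl (heq_of_eq (Subtype.ext (Subtype.ext e3)))
    · rintro ⟨y, hy⟩
      obtain ⟨S, hS⟩ := (IsPGroup.of_card (n := 1) (by rw [Nat.card_zpowers, hy, pow_one]) :
        IsPGroup p (zpowers y)).exists_le_sylow
      exact ⟨⟨S, ⟨⟨y, hS (mem_zpowers y)⟩, fun e1 => by
        rw [show y = 1 from congrArg Subtype.val e1, orderOf_one] at hy
        exact hp.out.ne_one hy.symm⟩⟩, rfl⟩
  have htotal : Nat.card (PairOrd G p) = N.index * (q - 1) * q := by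
    rw [← hcnt]
    haveI : Fintype {y : G // orderOf y = p} := Fintype.ofFinite _
    rw [Nat.card_congr (Equiv.sigmaFiberEquiv
      (fun ij : PairOrd G p => (⟨(ij.1.1 : G) * ij.1.2, ij.2⟩ : {y : G // orderOf y = p}))).symm,
      Nat.card_sigma, Nat.card_eq_fintype_card (α := {y : G // orderOf y = p})]
    rw [Finset.sum_congr rfl fun y _ => ?_, Finset.sum_const, smul_eq_mul, Finset.card_univ]
    rw [← hfib y y.2]
    exact Nat.card_congr (Equiv.subtypeEquivRight fun ij => by rw [Subtype.ext_iff])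
  refine ⟨Nat.card H, hHv, ?_⟩
  rw [htotal, ← Subgroup.card_mul_index N, hcardN]
  ring

/-- The counting identity for pairs of involutions. -/
theorem pairs_count (h : Ord5 G) (z : G) (hz : orderOf z = 2)
    (hone : ∀ i : G, orderOf i = 2 → ∃ g : G, g * z * g⁻¹ = i) :
    Nat.card (Inv2 G) * Nat.card (centralizer ({z} : Set G)) = Nat.card G ∧
      Nat.card (Inv2 G) * Nat.card (Inv2 G) =
        Nat.card (Inv2 G) * Nat.card {i : Inv2 G // (i : G) * z = z * i} +
        Nat.card (Inv2 G) * Nat.card {ij : Inv2 G × Inv2 G // ((ij.1 : G) * ij.2) * (ij.1 * ij.2) = z} +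
        Nat.card (PairOrd G 3) + Nat.card (PairOrd G 5) := by
  classical
  haveI : Fintype (Inv2 G) := Fintype.ofFinite _
  constructor
  · have e : Nat.card (Inv2 G) = Nat.card (MulAction.orbit (ConjAct G) z) := by
      refine Nat.card_congr (Equiv.setCongr (s := {i : G | orderOf i = 2}) ?_)
      ext i
      simp only [Set.mem_setOf_eq, MulAction.mem_orbit_iff]
      constructor
      · intro hi
        obtain ⟨g, hg⟩ := hone i hi
        exact ⟨ConjAct.toConjAct g, by rw [ConjAct.toConjAct_smul]; exact hg⟩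
      · rintro ⟨g, rfl⟩
        rw [ConjAct.smul_def, Invol.orderOf_conj_eq, hz]
    have e2 : Nat.card (centralizer ({z} : Set G)) = Nat.card (MulAction.stabilizer (ConjAct G) z) := by
      refine Nat.card_congr
        { toFun := fun g => ⟨ConjAct.toConjAct (g : G), ?_⟩
          invFun := fun g => ⟨ConjAct.ofConjAct (g : ConjAct G), ?_⟩
          left_inv := fun g => rfl
          right_inv := fun g => rfl }
      · rw [MulAction.mem_stabilizer_iff, ConjAct.toConjAct_smul]
        exact mul_inv_eq_iff_eq_mul.mpr (mem_centralizer_singleton_iff.mp g.2)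
      · rw [mem_centralizer_singleton_iff]
        have := g.2
        rw [MulAction.mem_stabilizer_iff, ConjAct.smul_def] at this
        exact mul_inv_eq_iff_eq_mul.mp this
    rw [e, e2]
    rw [Nat.card_coe_set_eq, ← MulAction.index_stabilizer, mul_comm, Subgroup.card_mul_index]
    exact Nat.card_congr ConjAct.ofConjAct.toEquiv
  -- split the pairs
  let S : Finset (Inv2 G × Inv2 G) := Finset.univ
  have hsplit : ∀ ij : Inv2 G × Inv2 G,
      ((ij.1 : G) * ij.2 = ij.2 * ij.1 ∨ orderOf (((ij.1 : G) * ij.2) * (ij.1 * ij.2)) = 2) ∨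
        orderOf ((ij.1 : G) * ij.2) = 3 ∨ orderOf ((ij.1 : G) * ij.2) = 5 := by
    intro ij
    have hswap : ((ij.1 : G) * ij.2) * ((ij.1 : G) * ij.2) = 1 → (ij.1 : G) * ij.2 = ij.2 * ij.1 :=
      fun e => by rw [eq_inv_of_mul_eq_one_left e, mul_inv_rev, inv2_inv, inv2_inv]
    by_cases hc : (ij.1 : G) * ij.2 = ij.2 * ij.1
    · exact Or.inl (Or.inl hc)
    rcases h.pow_cases ((ij.1 : G) * ij.2) with e | e | e
    · exact Or.inl (Or.inr (orderOf_eq_two
        (by rw [← e]; simp only [pow_succ, pow_zero, one_mul, mul_assoc]) fun e1 => hc (hswap e1)))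
    all_goals
      right
      have hne : (ij.1 : G) * ij.2 ≠ 1 := fun e1 => hc (hswap (by rw [e1, one_mul]))
    · haveI := Fact.mk Nat.prime_three
      exact Or.inl (orderOf_eq_prime e hne)
    · haveI := Fact.mk Nat.prime_five
      exact Or.inr (orderOf_eq_prime e hne)
  let P1 : Inv2 G × Inv2 G → Prop := fun ij => (ij.1 : G) * ij.2 = ij.2 * ij.1
  let P2 : Inv2 G × Inv2 G → Prop := fun ij => orderOf (((ij.1 : G) * ij.2) * (ij.1 * ij.2)) = 2
  let P3 : Inv2 G × Inv2 G → Prop := fun ij => orderOf ((ij.1 : G) * ij.2) = 3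
  let P5 : Inv2 G × Inv2 G → Prop := fun ij => orderOf ((ij.1 : G) * ij.2) = 5
  have h12 : ∀ ij, P1 ij → ¬ P2 ij := fun ij h1 h2 => by
    simp only [P1, P2] at h1 h2
    rw [show ((ij.1 : G) * ij.2) * (ij.1 * ij.2) = 1 by
      conv_lhs => arg 1; rw [h1]
      rw [show (ij.2 : G) * ij.1 * (ij.1 * ij.2) = ij.2 * (ij.1 * ij.1) * ij.2 by group, inv2_sq, mul_one,
        inv2_sq], orderOf_one] at h2
    omega
  have hsq : ∀ ij m, orderOf ((ij : Inv2 G × Inv2 G).1 * (ij.2 : G) : G) = m → Odd m → 1 < m →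
      ¬ P1 ij ∧ ¬ P2 ij := by
    intro ij m hm hodd h1m
    have key : ¬ P1 ij := fun h1 => by
      simp only [P1] at h1
      have e1 : ((ij.1 : G) * ij.2) ^ 2 = 1 := by
        rw [pow_two]
        conv_lhs => arg 1; rw [h1]
        rw [show (ij.2 : G) * ij.1 * (ij.1 * ij.2) = ij.2 * (ij.1 * ij.1) * ij.2 by group, inv2_sq, mul_one,
          inv2_sq]
      have := Nat.le_of_dvd two_pos (orderOf_dvd_of_pow_eq_one e1)
      obtain ⟨k, rfl⟩ := hodd
      omega
    refine ⟨key, fun h2 => ?_⟩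
    simp only [P2] at h2
    rw [← pow_two, orderOf_pow, hm, Nat.Coprime.gcd_eq_one (Nat.coprime_two_right.mpr hodd), Nat.div_one] at h2
    obtain ⟨k, rfl⟩ := hodd
    omega
  have hcard : Nat.card (Inv2 G) * Nat.card (Inv2 G) =
      (Finset.univ.filter P1).card + (Finset.univ.filter P2).card + (Finset.univ.filter P3).card +
        (Finset.univ.filter P5).card := by
    rw [← Nat.card_prod, Nat.card_eq_fintype_card, ← Finset.card_univ, ← Finset.card_union_of_disjoint,
      ← Finset.card_union_of_disjoint, ← Finset.card_union_of_disjoint]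
    · congr 1
      ext ij
      simp only [Finset.mem_univ, Finset.mem_union, Finset.mem_filter, true_and, true_iff, P1, P2, P3, P5]
      rcases hsplit ij with (h | h) | h | h <;> simp [h]
    · rw [Finset.disjoint_left]
      intro ij h1 h2
      simp only [Finset.mem_union, Finset.mem_filter, Finset.mem_univ, true_and] at h1 h2
      have h5 := hsq ij 5 h2 (by decide) (by norm_num)
      rcases h1 with (h1 | h1) | h1
      · exact h5.1 h1
      · exact h5.2 h1
      · simp only [P3, P5] at h1 h2; omega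
    · rw [Finset.disjoint_left]
      intro ij h1 h2
      simp only [Finset.mem_union, Finset.mem_filter, Finset.mem_univ, true_and] at h1 h2
      have h3 := hsq ij 3 h2 (by decide) (by norm_num)
      rcases h1 with h1 | h1
      · exact h3.1 h1
      · exact h3.2 h1
    · rw [Finset.disjoint_left]
      intro ij h1 h2
      simp only [Finset.mem_filter, Finset.mem_univ, true_and] at h1 h2
      exact h12 ij h1 h2
  have hconv : ∀ (P : Inv2 G × Inv2 G → Prop) [DecidablePred P], (Finset.univ.filter P).card = Nat.card {ij // P ij} := fun P _ => by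
    rw [Nat.card_eq_fintype_card, Fintype.card_subtype]
  rw [hcard, hconv, hconv, hconv, hconv]
  congr 2
  congr 1
  · -- commuting pairs
    rw [Nat.card_congr (Equiv.sigmaFiberEquiv (fun ij : {ij // P1 ij} => ij.1.1)).symm, Nat.card_sigma]
    rw [Finset.sum_congr rfl fun i _ => ?_, Finset.sum_const, smul_eq_mul, Finset.card_univ,
      ← Nat.card_eq_fintype_card]
    obtain ⟨g, hg⟩ := hone i i.2
    refine Nat.card_congr
      { toFun := fun ij => ⟨conjInv g⁻¹ ij.1.1.2, ?_⟩
        invFun := fun j => ⟨⟨(i, conjInv g j), ?_⟩, rfl⟩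
        left_inv := ?_
        right_inv := fun j => Subtype.ext (Subtype.ext (by
          show g⁻¹ * (g * (j.1 : G) * g⁻¹) * g⁻¹⁻¹ = j.1
          group)) }
    · have e := ij.1.2
      have e2 := ij.2
      simp only [P1] at e
      rw [e2, ← hg] at e
      show g⁻¹ * (ij.1.1.2 : G) * g⁻¹⁻¹ * z = z * (g⁻¹ * (ij.1.1.2 : G) * g⁻¹⁻¹)
      calc g⁻¹ * (ij.1.1.2 : G) * g⁻¹⁻¹ * z = g⁻¹ * ((ij.1.1.2 : G) * (g * z * g⁻¹)) * g := by group
        _ = g⁻¹ * ((g * z * g⁻¹) * ij.1.1.2) * g := by rw [← e]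
        _ = _ := by group
    · show (i : G) * (g * (j.1 : G) * g⁻¹) = g * j.1 * g⁻¹ * i
      rw [← hg]
      calc g * z * g⁻¹ * (g * (j.1 : G) * g⁻¹) = g * (z * j.1) * g⁻¹ := by group
        _ = g * ((j.1 : G) * z) * g⁻¹ := by rw [j.2]
        _ = _ := by group
    · intro ij
      refine Subtype.ext (Subtype.ext (Prod.ext ij.2.symm (Subtype.ext ?_)))
      show g * (g⁻¹ * (ij.1.1.2 : G) * g⁻¹⁻¹) * g⁻¹ = ij.1.1.2
      group
  · -- pairs with product of order four
    rw [Nat.card_congr (Equiv.sigmaFiberEquiv (fun ij : {ij // P2 ij} =>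
      (⟨((ij.1.1 : G) * ij.1.2) * (ij.1.1 * ij.1.2), ij.2⟩ : Inv2 G))).symm, Nat.card_sigma]
    rw [Finset.sum_congr rfl fun w _ => ?_, Finset.sum_const, smul_eq_mul, Finset.card_univ,
      ← Nat.card_eq_fintype_card]
    obtain ⟨g, hg⟩ := hone w w.2
    refine Nat.card_congr
      { toFun := fun ij => ⟨(conjInv g⁻¹ ij.1.1.1, conjInv g⁻¹ ij.1.1.2), ?_⟩
        invFun := fun ij => ⟨⟨(conjInv g ij.1.1, conjInv g ij.1.2), ?_⟩, ?_⟩
        left_inv := fun ij => Subtype.ext (Subtype.ext (Prod.ext (Subtype.ext (by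
          show g * (g⁻¹ * (ij.1.1.1 : G) * g⁻¹⁻¹) * g⁻¹ = ij.1.1.1
          group)) (Subtype.ext (by
          show g * (g⁻¹ * (ij.1.1.2 : G) * g⁻¹⁻¹) * g⁻¹ = ij.1.1.2
          group))))
        right_inv := fun ij => Subtype.ext (Prod.ext (Subtype.ext (by
          show g⁻¹ * (g * (ij.1.1 : G) * g⁻¹) * g⁻¹⁻¹ = ij.1.1
          group)) (Subtype.ext (by
          show g⁻¹ * (g * (ij.1.2 : G) * g⁻¹) * g⁻¹⁻¹ = ij.1.2
          group))) }
    · have e : ((ij.1.1.1 : G) * ij.1.1.2) * (ij.1.1.1 * ij.1.1.2) = w := congrArg Subtype.val ij.2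
      show g⁻¹ * (ij.1.1.1 : G) * g⁻¹⁻¹ * (g⁻¹ * (ij.1.1.2 : G) * g⁻¹⁻¹) *
        (g⁻¹ * (ij.1.1.1 : G) * g⁻¹⁻¹ * (g⁻¹ * (ij.1.1.2 : G) * g⁻¹⁻¹)) = z
      calc _ = g⁻¹ * (((ij.1.1.1 : G) * ij.1.1.2) * (ij.1.1.1 * ij.1.1.2)) * g := by group
        _ = z := by rw [e, ← hg]; group
    · show orderOf (g * (ij.1.1 : G) * g⁻¹ * (g * ij.1.2 * g⁻¹) *
        (g * (ij.1.1 : G) * g⁻¹ * (g * ij.1.2 * g⁻¹))) = 2
      rw [show g * (ij.1.1 : G) * g⁻¹ * (g * ij.1.2 * g⁻¹) * (g * (ij.1.1 : G) * g⁻¹ * (g * ij.1.2 * g⁻¹))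
        = g * (((ij.1.1 : G) * ij.1.2) * (ij.1.1 * ij.1.2)) * g⁻¹ by group, ij.2, Invol.orderOf_conj_eq, hz]
    · refine Subtype.ext ?_
      show g * (ij.1.1 : G) * g⁻¹ * (g * ij.1.2 * g⁻¹) *
        (g * (ij.1.1 : G) * g⁻¹ * (g * ij.1.2 * g⁻¹)) = w
      rw [show g * (ij.1.1 : G) * g⁻¹ * (g * ij.1.2 * g⁻¹) * (g * (ij.1.1 : G) * g⁻¹ * (g * ij.1.2 * g⁻¹))
        = g * (((ij.1.1 : G) * ij.1.2) * (ij.1.1 * ij.1.2)) * g⁻¹ by group, ij.2, hg]

/-- The counting contradiction: one class of involutions with centraliser of order `s`. -/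
theorem count_false (h : Ord5 G) {z : G} (hz : orderOf z = 2)
    (hone : ∀ i : G, orderOf i = 2 → ∃ g : G, g * z * g⁻¹ = i) {s a c : ℕ}
    (hs : Nat.card (centralizer ({z} : Set G)) = s) (hodd : ¬ 2 * s ∣ Nat.card G)
    (ha : Nat.card {i : Inv2 G // (i : G) * z = z * i} = a)
    (hc : Nat.card {ij : Inv2 G × Inv2 G // ((ij.1 : G) * ij.2) * (ij.1 * ij.2) = z} = c)
    (hsk : (s = 4 ∧ a + c = 3) ∨ (s = 16 ∧ a + c = 3) ∨ (s = 64 ∧ a + c = 3) ∨ (s = 64 ∧ a + c = 123))
    (h9 : 9 ∣ Nat.card G) (h5 : 5 ∣ Nat.card G) : False := by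
  obtain ⟨hn, heq⟩ := pairs_count h z hz hone
  rw [hs] at hn
  rw [ha, hc] at heq
  haveI := Fact.mk Nat.prime_three
  haveI := Fact.mk Nat.prime_five
  set n := Nat.card (Inv2 G) with hndef
  set α := (Nat.card G).factorization 3 with hα
  set β := (Nat.card G).factorization 5 with hβ
  have hne := (Nat.card_pos (α := G)).ne'
  have hα2 : 2 ≤ α := (Nat.prime_three.pow_dvd_iff_le_factorization hne).mp (show 3 ^ 2 ∣ Nat.card G from h9)
  have hβ1 : 1 ≤ β := (Nat.prime_five.pow_dvd_iff_le_factorization hne).mp (show 5 ^ 1 ∣ Nat.card G from h5)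
  -- `n` is the product of the odd parts
  have hn35 : n = 3 ^ α * 5 ^ β := by
    have hn0 : n ≠ 0 := by intro e; rw [e, zero_mul] at hn; exact hne hn.symm
    have hn2 : ¬ 2 ∣ n := fun ⟨m, hm⟩ => hodd ⟨m, by rw [← hn, hm]; ring⟩
    have hco : ∀ p, p.Prime → p ∣ n → p = 3 ∨ p = 5 := fun p hp hd => by
      rcases h.prime_cases hp (hd.trans ⟨s, hn.symm⟩) with rfl | h35
      · exact absurd hd hn2
      · exact h35
    obtain ⟨b, hb⟩ : ∃ b, s = 2 ^ b := by
      rcases hsk with ⟨rfl, -⟩ | ⟨rfl, -⟩ | ⟨rfl, -⟩ | ⟨rfl, -⟩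
      exacts [⟨2, rfl⟩, ⟨4, rfl⟩, ⟨6, rfl⟩, ⟨6, rfl⟩]
    have hfac : ∀ p, p.Prime → p ≠ 2 → n.factorization p = (Nat.card G).factorization p := fun p hp hp2 => by
      rw [← hn, Nat.factorization_mul hn0 (by rw [hb]; positivity), Finsupp.add_apply, hb,
        Nat.Prime.factorization_pow Nat.prime_two, Finsupp.single_apply, if_neg (Ne.symm hp2), add_zero]
    refine Nat.eq_of_factorization_eq hn0 (by positivity) fun p => ?_
    rw [Nat.factorization_mul (by positivity) (by positivity), Finsupp.add_apply,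
      Nat.Prime.factorization_pow Nat.prime_three, Nat.Prime.factorization_pow Nat.prime_five,
      Finsupp.single_apply, Finsupp.single_apply]
    by_cases h3 : p = 3
    · subst h3; rw [hfac 3 Nat.prime_three (by norm_num)]; simp [α]
    by_cases h5' : p = 5
    · subst h5'; rw [hfac 5 Nat.prime_five (by norm_num)]; simp [β]
    rw [if_neg (Ne.symm h3), if_neg (Ne.symm h5'), add_zero]
    by_cases hp : p.Prime
    · exact Nat.factorization_eq_zero_of_not_dvd fun hd => by
        rcases hco p hp hd with e | e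
        · exact h3 e
        · exact h5' e
    · exact Nat.factorization_eq_zero_of_not_prime _ hp
  have contrib : ∀ (p : ℕ) [Fact p.Prime], p ≠ 2 →
      ∃ u, Contrib (p ^ (Nat.card G).factorization p) u ∧ 8 * Nat.card (PairOrd G p) = Nat.card G * u := by
    intro p _ hp2
    rcases pairs_odd h (p := p) hp2 with e | ⟨k, hk, e⟩
    · exact ⟨0, Or.inl rfl, by rw [e, mul_zero, mul_zero]⟩
    · rcases hk with rfl | rfl | rfl
      · exact ⟨4 * (p ^ (Nat.card G).factorization p - 1), Or.inr (Or.inr (Or.inr rfl)), by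
          rw [mul_left_comm, ← e]; ring⟩
      · exact ⟨2 * (p ^ (Nat.card G).factorization p - 1), Or.inr (Or.inr (Or.inl rfl)), by
          rw [mul_left_comm, ← e]; ring⟩
      · exact ⟨p ^ (Nat.card G).factorization p - 1, Or.inr (Or.inl rfl), e⟩
  obtain ⟨u, hu, eu⟩ := contrib 3 (by norm_num)
  obtain ⟨v, hv, ev⟩ := contrib 5 (by norm_num)
  refine no_count (q3 := 3 ^ α) (q5 := 5 ^ β) (k := a + c) (s := s) rfl hα2 rfl hβ1 hsk hu hv ?_
  rw [← hn35]
  have hnpos : 0 < n := by rw [hn35]; positivity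
  refine Nat.eq_of_mul_eq_mul_left hnpos ?_
  calc n * (8 * n) = 8 * (n * n) := by ring
    _ = 8 * (n * a + n * c + Nat.card (PairOrd G 3) + Nat.card (PairOrd G 5)) := by rw [heq]
    _ = n * (8 * (a + c)) + (8 * Nat.card (PairOrd G 3) + 8 * Nat.card (PairOrd G 5)) := by ring
    _ = n * (8 * (a + c)) + (Nat.card G * u + Nat.card G * v) := by rw [eu, ev]
    _ = n * (8 * (a + c) + s * (u + v)) := by rw [← hn]; ring

end Cfsg.Agent.Block.Spec5
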