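import Mathlib
import Cfsg.Agent.S0144
import Cfsg.Agent.S3331
import Cfsg.Agent.S0494
import Cfsg.Agent.Lib.Block.Spec5.Inverting

/-!
Generalities on simple groups with element orders at most five.
-/

set_option autoImplicit false
set_option linter.unusedSectionVars false
set_option linter.style.haveILetI false

namespace Cfsg.Agent.Block.Spec5

open Subgroup

universe u

variable {G : Type u} [Group G] [Finite G]

/-- A nonsolvable group with element orders at most five has order divisible by `2`, `3` and `5`. -/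
theorem Ord5.dvd_card (h : Ord5 G) (hns : ¬ Group.IsSolvable G) :
    2 ∣ Nat.card G ∧ 3 ∣ Nat.card G ∧ 5 ∣ Nat.card G := by
  have key : ∀ a b : ℕ, a.Prime → b.Prime → a ≠ b →
      (∀ r : ℕ, r.Prime → r ∣ Nat.card G → r = a ∨ r = b) → False := by
    intro a b ha hb hab hr
    refine hns (Cfsg.Agent.S0144.result a b ((Nat.card G).factorization a) ((Nat.card G).factorization b)
      ha hb ?_)
    refine Nat.eq_of_factorization_eq Nat.card_pos.ne'
      (mul_ne_zero (pow_ne_zero _ ha.ne_zero) (pow_ne_zero _ hb.ne_zero)) fun r => ?_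
    rw [Nat.factorization_mul (pow_ne_zero _ ha.ne_zero) (pow_ne_zero _ hb.ne_zero), Finsupp.add_apply,
      ha.factorization_pow, hb.factorization_pow, Finsupp.single_apply, Finsupp.single_apply]
    rcases eq_or_ne r a with e | e
    · subst e; rw [if_pos rfl, if_neg (Ne.symm hab), add_zero]
    rcases eq_or_ne r b with e' | e'
    · subst e'; rw [if_pos rfl, if_neg hab, zero_add]
    rw [if_neg (Ne.symm e), if_neg (Ne.symm e'), add_zero]
    by_cases hp : r.Prime
    · exact Nat.factorization_eq_zero_of_not_dvd fun hd => (hr r hp hd).elim e e'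
    · exact Nat.factorization_eq_zero_of_not_prime _ hp
  refine ⟨?_, ?_, ?_⟩ <;> by_contra hd
  · refine key 3 5 Nat.prime_three Nat.prime_five (by norm_num) fun r hr hrd => ?_
    rcases h.prime_cases hr hrd with rfl | h35
    · exact absurd hrd hd
    · exact h35
  · refine key 2 5 Nat.prime_two Nat.prime_five (by norm_num) fun r hr hrd => ?_
    rcases h.prime_cases hr hrd with h2 | rfl | h5
    · exact Or.inl h2
    · exact absurd hrd hd
    · exact Or.inr h5
  · refine key 2 3 Nat.prime_two Nat.prime_three (by norm_num) fun r hr hrd => ?_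
    rcases h.prime_cases hr hrd with h2 | h3 | rfl
    · exact Or.inl h2
    · exact Or.inr h3
    · exact absurd hrd hd

theorem not_solvable_of_simple [hG : IsSimpleGroup G] (hna : ¬ IsMulCommutative G) :
    ¬ Group.IsSolvable G := fun hs =>
  hna ⟨⟨fun a b => (IsSimpleGroup.comm_iff_isSolvable (G := G)).mpr hs a b⟩⟩

theorem Ord5.no_seven_group {K : Type*} [Group K] (h : Ord5 G) (e : Nonempty (G ≃* K)) (k : K) :
    orderOf k ≠ 7 := fun hk => by
  obtain ⟨e⟩ := e
  have := h (e.symm k)
  rw [e.symm.orderOf_eq, hk] at this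
  omega

theorem sl_seven : ∃ u w : Matrix.SpecialLinearGroup (Fin 2) (ZMod 7), u ^ 7 = 1 ∧ w * u ≠ u * w := by
  refine ⟨⟨!![1, 1; 0, 1], by decide⟩, ⟨!![1, 0; 1, 1], by decide⟩, ?_, ?_⟩ <;> decide +kernel

theorem psl_seven : ∃ k : Matrix.ProjectiveSpecialLinearGroup (Fin 2) (ZMod 7), orderOf k = 7 := by
  haveI := Fact.mk (show Nat.Prime 7 by norm_num)
  obtain ⟨u, w, hu, huw⟩ := sl_seven
  refine ⟨QuotientGroup.mk' (Subgroup.center (Matrix.SpecialLinearGroup (Fin 2) (ZMod 7))) u,
    orderOf_eq_prime (by rw [← map_pow, hu, map_one]) fun e0 => huw ?_⟩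
  exact Subgroup.mem_center_iff.mp ((QuotientGroup.eq_one_iff u).mp e0) w

/-- Either `9` divides the order or the group is alternating of degree five. -/
theorem nine_or_five (h : Ord5 G) [IsSimpleGroup G] (hna : ¬ IsMulCommutative G) :
    9 ∣ Nat.card G ∨ Nonempty (G ≃* alternatingGroup (Fin 5)) := by
  haveI := Fact.mk Nat.prime_three
  have hns := not_solvable_of_simple hna
  obtain ⟨h2, h3, h5⟩ := h.dvd_card hns
  by_cases h9 : 9 ∣ Nat.card G
  · exact Or.inl h9
  right
  obtain ⟨x, hx⟩ := exists_prime_orderOf_dvd_card' 3 h3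
  have hx1 : x ≠ 1 := fun e => by rw [e, orderOf_one] at hx; omega
  have hX : Nat.card (zpowers x) = 3 := by rw [Nat.card_zpowers, hx]
  have hC : centralizer ((zpowers x : Subgroup G) : Set G) = zpowers x := by
    rw [Subgroup.zpowers_eq_closure, Subgroup.centralizer_closure, ← Subgroup.zpowers_eq_closure]
    refine le_antisymm ?_ fun y hy => ?_
    · have hp := h.centralizer_isPGroup Nat.prime_three (by norm_num) (hx ▸ pow_orderOf_eq_one x) hx1
      obtain ⟨a, ha⟩ := IsPGroup.iff_card.mp hp
      have hd : 3 ^ a ∣ Nat.card G := ha ▸ Subgroup.card_subgroup_dvd_card _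
      have ha1 : a ≤ 1 := by
        by_contra hc
        exact h9 (dvd_trans (by
          have := Nat.pow_dvd_pow 3 (show 2 ≤ a by omega)
          norm_num at this ⊢
          exact this) hd)
      have hle : zpowers x ≤ centralizer ({x} : Set G) :=
        zpowers_le.mpr (mem_centralizer_singleton_iff.mpr rfl)
      refine le_of_eq (Subgroup.eq_of_le_of_card_ge hle ?_).symm
      rw [hX, ha]
      calc 3 ^ a ≤ 3 ^ 1 := Nat.pow_le_pow_right (by norm_num) ha1
        _ = 3 := by norm_num
    · obtain ⟨n, rfl⟩ := mem_zpowers_iff.mp hy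
      exact mem_centralizer_singleton_iff.mpr ((Commute.refl x).zpow_left n).eq
  rcases Cfsg.Agent.S3331.result (zpowers x) hX hC with ⟨N, hN, hnil, hco, hq⟩ | ⟨N, hN, hab, -, he⟩ | he
  · exfalso
    have hNb : N = ⊥ := by
      refine ((IsSimpleGroup.eq_bot_or_eq_top_of_normal N hN).resolve_right fun e => ?_)
      rw [e, Subgroup.card_top] at hco
      exact (Nat.Prime.coprime_iff_not_dvd Nat.prime_three).mp hco.symm h3
    subst hNb
    have hcard : Nat.card G = Nat.card (G ⧸ (⊥ : Subgroup G)) := (Nat.card_congr QuotientGroup.quotientBot.toEquiv).symm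
    rcases hq with hq | ⟨⟨e⟩⟩
    · rw [hcard, hq] at h2; omega
    · rw [hcard, Nat.card_congr e.toEquiv, Nat.card_perm, Nat.card_fin] at h5
      exact absurd h5 (by decide)
  · obtain ⟨e⟩ := he
    have hNb : N = ⊥ := by
      refine (IsSimpleGroup.eq_bot_or_eq_top_of_normal N hN).resolve_right fun e' => ?_
      subst e'
      exact hna ⟨⟨fun a b => congrArg Subtype.val
        (IsMulCommutative.is_comm.comm (⟨a, mem_top a⟩ : (⊤ : Subgroup G)) ⟨b, mem_top b⟩)⟩⟩
    subst hNb
    exact ⟨QuotientGroup.quotientBot.symm.trans e⟩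
  · exfalso
    obtain ⟨e⟩ := he
    have hc : 7 ∣ Nat.card (Matrix.ProjectiveSpecialLinearGroup (Fin 2) (ZMod 7)) := by
      rw [← Nat.card_congr e.toEquiv]
      exact seven_dvd e
    rw [← Nat.card_congr e.toEquiv] at hc
    haveI := Fact.mk (show Nat.Prime 7 by norm_num)
    obtain ⟨y, hy⟩ := exists_prime_orderOf_dvd_card' 7 hc
    have := h y
    omega
where
  seven_dvd (e : G ≃* Matrix.ProjectiveSpecialLinearGroup (Fin 2) (ZMod 7)) : 7 ∣ Nat.card G := by
    obtain ⟨k, hk⟩ := psl_seven
    exact hk ▸ (e.symm.orderOf_eq k) ▸ orderOf_dvd_natCard (e.symm k)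

/-- Two involutions are conjugate or commute with a common involution. -/
theorem conj_or_central (h : Ord5 G) {x y : G} (hx : x * x = 1) (hy : y * y = 1) :
    (∃ g : G, g * x * g⁻¹ = y) ∨ x * y = y * x ∨
      ∃ w : G, w * w = 1 ∧ w ≠ 1 ∧ x * w = w * x ∧ y * w = w * y := by
  have hxi := inv_eq_of_mul_eq_one_left hx
  have hyi := inv_eq_of_mul_eq_one_left hy
  have hswap : x * (x * y) * x = (x * y)⁻¹ := by
    rw [mul_inv_rev, hxi, hyi, show x * (x * y) * x = x * x * (y * x) by group, hx, one_mul]
  have hconj : ∀ k : ℕ, x * (x * y) ^ k * x = ((x * y) ^ k)⁻¹ := by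
    intro k
    induction k with
    | zero => rw [pow_zero, inv_one, mul_one, hx]
    | succ k ih =>
      calc x * (x * y) ^ (k + 1) * x = (x * (x * y) ^ k * x) * (x * (x * y) * x) := by
            rw [pow_succ]
            conv_rhs => rw [show (x * (x * y) ^ k * x) * (x * (x * y) * x) =
              x * (x * y) ^ k * (x * x) * (x * y) * x by group, hx, mul_one]
            group
        _ = ((x * y) ^ (k + 1))⁻¹ := by rw [ih, hswap, pow_succ', mul_inv_rev (x * y)]
  have odd : ∀ k : ℕ, (x * y) ^ (2 * k + 1) = 1 → ∃ g : G, g * x * g⁻¹ = y := by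
    intro k hk
    refine ⟨(x * y) ^ k, ?_⟩
    calc (x * y) ^ k * x * ((x * y) ^ k)⁻¹ = (x * y) ^ k * x * (x * (x * y) ^ k * x) := by rw [hconj]
      _ = (x * y) ^ k * (x * x) * (x * y) ^ k * x := by group
      _ = (x * y) ^ (2 * k) * x := by rw [hx, mul_one, ← pow_add, two_mul]
      _ = (x * y)⁻¹ * x := by
        rw [eq_inv_of_mul_eq_one_left (show (x * y) ^ (2 * k) * (x * y) = 1 by rw [← pow_succ]; exact hk)]
      _ = y := by rw [mul_inv_rev, hyi, hxi, mul_assoc, hx, mul_one]
  rcases h.pow_cases (x * y) with e | e | e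
  · right
    by_cases h2 : (x * y) * (x * y) = 1
    · left
      rw [eq_inv_of_mul_eq_one_left h2, mul_inv_rev, hxi, hyi]
    right
    refine ⟨(x * y) * (x * y), ?_, h2, ?_, ?_⟩
    · rw [← e]; simp only [pow_succ, pow_zero, one_mul, mul_assoc]
    · have hw : ((x * y) * (x * y))⁻¹ = (x * y) * (x * y) := inv_eq_of_mul_eq_one_left (by
        rw [← e]; simp only [pow_succ, pow_zero, one_mul, mul_assoc])
      have e2 := hconj 2
      rw [pow_two, hw] at e2
      calc x * (x * y * (x * y)) = x * (x * y * (x * y)) * (x * x) := by rw [hx, mul_one]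
        _ = x * (x * y * (x * y)) * x * x := by group
        _ = x * y * (x * y) * x := by rw [e2]
    · have hw : ((x * y) * (x * y))⁻¹ = (x * y) * (x * y) := inv_eq_of_mul_eq_one_left (by
        rw [← e]; simp only [pow_succ, pow_zero, one_mul, mul_assoc])
      have e3 : y * (x * y * (x * y)) * y = x * y * (x * y) := by
        conv_rhs => rw [← hw]
        rw [mul_inv_rev, mul_inv_rev, hxi, hyi,
          show y * (x * y * (x * y)) * y = y * x * (y * x) * (y * y) by group, hy, mul_one]
      calc y * (x * y * (x * y)) = y * (x * y * (x * y)) * (y * y) := by rw [hy, mul_one]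
        _ = y * (x * y * (x * y)) * y * y := by group
        _ = x * y * (x * y) * y := by rw [e3]
  · exact Or.inl (odd 1 e)
  · exact Or.inl (odd 2 e)

/-- A proper subgroup of a 2-subgroup is properly contained in its normaliser there. -/
theorem exists_normalizer_gt {p : ℕ} [Fact p.Prime] {P H : Subgroup G} (hP : IsPGroup p P) (hlt : H < P) :
    ∃ x ∈ P, x ∉ H ∧ x ∈ normalizer (H : Set G) := by
  haveI := hP.isNilpotent
  have hne : H.subgroupOf P < ⊤ := lt_top_iff_ne_top.mpr fun e => hlt.not_ge (Subgroup.subgroupOf_eq_top.mp e)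
  obtain ⟨x, hx, hxn⟩ := SetLike.exists_of_lt (Group.normalizerCondition_of_isNilpotent _ hne)
  refine ⟨x, x.2, hxn, mem_normalizer_iff.mpr fun y => ?_⟩
  constructor
  · intro hy
    exact (mem_normalizer_iff.mp hx ⟨y, hlt.le hy⟩).mp hy
  · intro hy
    have hyP : y ∈ P := by
      have := mul_mem (mul_mem (inv_mem x.2) (hlt.le hy)) x.2
      simpa [mul_assoc] using this
    exact (mem_normalizer_iff.mp hx ⟨y, hyP⟩).mpr hy

end Cfsg.Agent.Block.Spec5
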