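import Mathlib
import Cfsg.Agent.Lib.Block.Spec5.Inverting

/-!
The shape of a Sylow 2-subgroup over its elementary abelian 2-core.
-/

set_option autoImplicit false
set_option linter.unusedSectionVars false
set_option linter.style.haveILetI false

namespace Cfsg.Agent.Block.Spec5

open Subgroup

universe u

variable {G : Type u} [Group G] [Finite G]

/-- `U = DE` with elementary abelian `D`, `E` containing all involutions of `U`. -/
structure Shape (U D E : Subgroup G) : Prop where
  two : IsPGroup 2 U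
  dU : D ≤ U
  eU : E ≤ U
  dnorm : U ≤ normalizer (D : Set G)
  enorm : U ≤ normalizer (E : Set G)
  dsq : ∀ x ∈ D, x * x = 1
  esq : ∀ x ∈ E, x * x = 1
  gen : ∀ u ∈ U, ∃ d ∈ D, ∃ e ∈ E, u = d * e
  inv : ∀ u ∈ U, u * u = 1 → u ∈ D ∨ u ∈ E
  cent : ∀ d ∈ D, ∀ e ∈ E, d * e = e * d → d ∈ E ∨ e ∈ D
  card : Nat.card D = Nat.card (D ⊓ E : Subgroup G) ^ 2

variable {U D E : Subgroup G}

theorem Shape.sup_eq (hs : Shape U D E) : D ⊔ E = U :=
  le_antisymm (sup_le hs.dU hs.eU) fun u hu => by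
    obtain ⟨d, hd, e, he, rfl⟩ := hs.gen u hu
    exact mul_mem (mem_sup_left hd) (mem_sup_right he)

theorem Shape.card_U (hs : Shape U D E) :
    Nat.card U * Nat.card (D ⊓ E : Subgroup G) = Nat.card D * Nat.card E := by
  rw [← hs.sup_eq]
  exact Cfsg.Agent.Grp.card_sup_mul_card_inf (hs.dU.trans hs.enorm)

theorem Shape.le_or_le (hs : Shape U D E) {A : Subgroup G} (hAU : A ≤ U) (hA : ∀ a ∈ A, a * a = 1) :
    A ≤ D ∨ A ≤ E := by
  by_contra hc
  push Not at hc
  obtain ⟨a, haA, haD⟩ := SetLike.not_le_iff_exists.mp hc.1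
  obtain ⟨b, hbA, hbE⟩ := SetLike.not_le_iff_exists.mp hc.2
  have haE := (hs.inv a (hAU haA) (hA a haA)).resolve_left haD
  have hbD := (hs.inv b (hAU hbA) (hA b hbA)).resolve_right hbE
  rcases hs.cent b hbD a haE (comm_of_sq hA b hbA a haA) with h | h
  · exact hbE h
  · exact haD h

theorem Shape.cent_e (hs : Shape U D E) {e : G} (he : e ∈ E) (heD : e ∉ D) :
    U ⊓ centralizer ({e} : Set G) = E := by
  refine le_antisymm (fun u hu => ?_) fun x hx => ⟨hs.eU hx,
    mem_centralizer_singleton_iff.mpr (comm_of_sq hs.esq x hx e he)⟩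
  obtain ⟨d, hd, e', he', rfl⟩ := hs.gen u hu.1
  have hc : d * e' * e = e * (d * e') := mem_centralizer_singleton_iff.mp hu.2
  have hde : d * e = e * d := mul_right_cancel (b := e') (by
    calc d * e * e' = d * (e' * e) := by rw [mul_assoc, comm_of_sq hs.esq e he e' he']
      _ = e * d * e' := by rw [← mul_assoc, hc, mul_assoc])
  exact mul_mem ((hs.cent d hd e he hde).resolve_right heD) he'

theorem Shape.cent_d (hs : Shape U D E) {d : G} (hd : d ∈ D) (hdE : d ∉ E) :
    U ⊓ centralizer ({d} : Set G) = D := by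
  refine le_antisymm (fun u hu => ?_) fun x hx => ⟨hs.dU hx,
    mem_centralizer_singleton_iff.mpr (comm_of_sq hs.dsq x hx d hd)⟩
  obtain ⟨d', hd', e, he, rfl⟩ := hs.gen u hu.1
  have hc : d' * e * d = d * (d' * e) := mem_centralizer_singleton_iff.mp hu.2
  have hde : d * e = e * d := (mul_left_cancel (a := d') (by
    calc d' * (e * d) = d * (d' * e) := by rw [← mul_assoc]; exact hc
      _ = d' * (d * e) := by rw [← mul_assoc, comm_of_sq hs.dsq d hd d' hd', mul_assoc])).symm
  exact mul_mem hd' ((hs.cent d hd e he hde).resolve_left hdE)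

/-- A complement acting with common fixed points gives a shape. -/
theorem Shape.of_complement (D B : Subgroup G) [hDn : D.Normal] (hD2 : IsPGroup 2 D)
    (hD : ∀ x ∈ D, x * x = 1) (hB : ∀ b ∈ B, b * b = 1) (hdisj : D ⊓ B = ⊥)
    (hfix : ∀ b ∈ B, b ≠ 1 → ∀ d ∈ D, b * d = d * b → ∀ b' ∈ B, b' * d = d * b')
    (hcard : Nat.card (D ⊓ centralizer (B : Set G) : Subgroup G) ^ 2 = Nat.card D) :
    ∃ E : Subgroup G, Shape (D ⊔ B) D E ∧ D ⊓ E = D ⊓ centralizer (B : Set G) ∧
      Nat.card E = Nat.card B * Nat.card (D ⊓ centralizer (B : Set G) : Subgroup G) ∧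
      Nat.card (D ⊔ B : Subgroup G) = Nat.card D * Nat.card B := by
  haveI := Fact.mk Nat.prime_two
  have hDc := comm_of_sq hD
  have hBc := comm_of_sq hB
  set I := D ⊓ centralizer (B : Set G) with hI
  have hIB : ∀ i ∈ I, ∀ b ∈ B, b * i = i * b := fun i hi b hb =>
    mem_centralizer_iff.mp hi.2 b hb
  have hBnI : B ≤ normalizer (I : Set G) := fun b hb => by
    refine mem_normalizer_iff.mpr fun i => ⟨fun hi => ?_, fun hi => ?_⟩
    · rwa [hIB i hi b hb, mul_inv_cancel_right]
    · have e := hIB _ hi b hb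
      have : b * i * b⁻¹ = i := by
        have e2 : b * (b * i * b⁻¹) * b⁻¹ = b * i * b⁻¹ := by rw [e, mul_inv_cancel_right]
        calc b * i * b⁻¹ = b⁻¹ * (b * (b * i * b⁻¹) * b⁻¹) * b := by group
          _ = b⁻¹ * (b * i * b⁻¹) * b := by rw [e2]
          _ = i := by group
      rwa [this] at hi
  have hBnD : B ≤ normalizer (D : Set G) := by rw [Subgroup.normalizer_eq_top]; exact le_top
  have hmemE : ∀ x, x ∈ I ⊔ B ↔ ∃ i ∈ I, ∃ b ∈ B, x = i * b := fun x => by
    rw [← SetLike.mem_coe, Subgroup.coe_mul_of_right_le_normalizer_left I B hBnI, Set.mem_mul]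
    exact ⟨fun ⟨i, hi, b, hb, e⟩ => ⟨i, hi, b, hb, e.symm⟩, fun ⟨i, hi, b, hb, e⟩ => ⟨i, hi, b, hb, e.symm⟩⟩
  have hmemU : ∀ x, x ∈ D ⊔ B ↔ ∃ d ∈ D, ∃ b ∈ B, x = d * b := fun x => by
    rw [← SetLike.mem_coe, Subgroup.coe_mul_of_right_le_normalizer_left D B hBnD, Set.mem_mul]
    exact ⟨fun ⟨i, hi, b, hb, e⟩ => ⟨i, hi, b, hb, e.symm⟩, fun ⟨i, hi, b, hb, e⟩ => ⟨i, hi, b, hb, e.symm⟩⟩
  have hEsq : ∀ x ∈ I ⊔ B, x * x = 1 := fun x hx => by
    obtain ⟨i, hi, b, hb, rfl⟩ := (hmemE x).mp hx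
    calc i * b * (i * b) = i * (b * i) * b := by group
      _ = i * i * (b * b) := by rw [hIB i hi b hb]; group
      _ = 1 := by rw [hD i hi.1, hB b hb, one_mul]
  have hinfE : D ⊓ (I ⊔ B) = I := by
    refine le_antisymm (fun x hx => ?_) (le_inf inf_le_left le_sup_left)
    obtain ⟨i, hi, b, hb, rfl⟩ := (hmemE x).mp hx.2
    have hbD : b ∈ D ⊓ B := ⟨(Subgroup.mul_mem_cancel_left D hi.1).mp hx.1, hb⟩
    rw [hdisj, Subgroup.mem_bot] at hbD
    rw [hbD, mul_one]
    exact hi
  -- fixed elements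
  have hdbd : ∀ b ∈ B, ∀ d ∈ D, b * d * b * d ∈ I := by
    intro b hb d hd
    have hm : b * d * b * d ∈ D := by
      have := hDn.conj_mem d hd b
      rw [inv_eq_of_mul_eq_one_left (hB b hb)] at this
      exact mul_mem this hd
    refine ⟨hm, mem_centralizer_iff.mpr fun b' hb' => ?_⟩
    rcases eq_or_ne b 1 with rfl | hb1
    · rw [one_mul, mul_one, hD d hd, mul_one, one_mul]
    refine hfix b hb hb1 _ hm ?_ b' hb'
    have hbdb : b * d * b ∈ D := by
      have := hDn.conj_mem d hd b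
      rwa [inv_eq_of_mul_eq_one_left (hB b hb)] at this
    calc b * (b * d * b * d) = (b * b) * d * b * d := by group
      _ = d * (b * d * b) * (b * b) * b := by
        rw [hB b hb, one_mul, mul_one]
        calc d * b * d = d * b * d * (b * b) := by rw [hB b hb, mul_one]
          _ = _ := by group
      _ = (b * d * b) * d * b := by rw [hDc d hd _ hbdb, hB b hb, mul_one]
  refine ⟨I ⊔ B, ?_, hinfE, ?_, ?_⟩
  · refine
      { two := hD2.to_sup_of_normal_left (fun x => ⟨1, Subtype.ext (by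
          show (x : G) ^ 2 ^ 1 = 1
          rw [pow_one, pow_two]; exact hB x x.2)⟩)
        dU := le_sup_left
        eU := sup_le (inf_le_left.trans le_sup_left) le_sup_right
        dnorm := by rw [Subgroup.normalizer_eq_top]; exact le_top
        enorm := ?_
        dsq := hD
        esq := hEsq
        gen := fun u hu => by
          obtain ⟨d, hd, b, hb, rfl⟩ := (hmemU u).mp hu
          exact ⟨d, hd, b, mem_sup_right hb, rfl⟩
        inv := ?_
        cent := ?_
        card := by rw [hinfE]; exact hcard.symm }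
    · refine sup_le ?_ (le_sup_right.trans le_normalizer)
      intro d hd
      have key : ∀ d ∈ D, ∀ x ∈ I ⊔ B, d * x * d⁻¹ ∈ I ⊔ B := by
        intro d hd x hx
        obtain ⟨i, hi, b, hb, rfl⟩ := (hmemE x).mp hx
        refine (hmemE _).mpr ⟨i * (b * d * b * d), mul_mem hi (hdbd b hb d hd), b, hb, ?_⟩
        have hbdb : b * d * b ∈ D := by
          have := hDn.conj_mem d hd b
          rwa [inv_eq_of_mul_eq_one_left (hB b hb)] at this
        have hdd := inv_eq_of_mul_eq_one_left (hD d hd)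
        rw [hdd]
        calc d * (i * b) * d = (d * i) * (b * d * b) * (b⁻¹) := by group
          _ = i * d * (b * d * b) * b := by
            rw [hDc d hd i hi.1, inv_eq_of_mul_eq_one_left (hB b hb)]
          _ = i * ((b * d * b) * d) * b := by rw [mul_assoc i d, hDc d hd _ hbdb]
      refine mem_normalizer_iff.mpr fun x => ⟨key d hd x, fun hx => ?_⟩
      have := key d⁻¹ (inv_mem hd) _ hx
      simpa [mul_assoc] using this
    · intro u hu huu
      obtain ⟨d, hd, b, hb, rfl⟩ := (hmemU u).mp hu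
      rcases eq_or_ne b 1 with rfl | hb1
      · left; rwa [mul_one]
      right
      refine (hmemE _).mpr ⟨d, ⟨hd, mem_centralizer_iff.mpr fun b' hb' => hfix b hb hb1 d hd ?_ b' hb'⟩,
        b, hb, rfl⟩
      have hdd := inv_eq_of_mul_eq_one_left (hD d hd)
      calc b * d = d⁻¹ * (d * b * (d * b)) * b⁻¹ := by group
        _ = d * b := by rw [huu, mul_one, hdd, inv_eq_of_mul_eq_one_left (hB b hb)]
    · intro d hd x hx hc
      obtain ⟨i, hi, b, hb, rfl⟩ := (hmemE x).mp hx
      rcases eq_or_ne b 1 with rfl | hb1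
      · right; rw [mul_one]; exact hi.1
      left
      refine mem_sup_left ⟨hd, mem_centralizer_iff.mpr fun b' hb' => hfix b hb hb1 d hd ?_ b' hb'⟩
      refine mul_left_cancel (a := i) ?_
      calc i * (b * d) = i * b * d := (mul_assoc _ _ _).symm
        _ = d * (i * b) := hc.symm
        _ = i * (d * b) := by rw [← mul_assoc, hDc d hd i hi.1, mul_assoc]
  · have e := Cfsg.Agent.Grp.card_sup_mul_card_inf (H := B) (N := I) hBnI
    have h0 : B ⊓ I = ⊥ := by
      rw [eq_bot_iff]
      exact fun x hx => hdisj ▸ (⟨hx.2.1, hx.1⟩ : x ∈ D ⊓ B)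
    rw [h0, Subgroup.card_bot, mul_one, sup_comm] at e
    exact e
  · have e := Cfsg.Agent.Grp.card_sup_mul_card_inf (H := B) (N := D) hBnD
    rw [inf_comm, hdisj, Subgroup.card_bot, mul_one, sup_comm] at e
    rw [e, mul_comm]

end Cfsg.Agent.Block.Spec5
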