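import Mathlib
import Cfsg.Agent.Lib.Grp.Solvable
import Cfsg.Agent.Lib.Block.Spec5.Blocks

/-!
The local structure over a nontrivial 2-core with even index.
-/

set_option autoImplicit false
set_option linter.unusedSectionVars false
set_option linter.style.haveILetI false

namespace Cfsg.Agent.Block.Spec5

open Subgroup

universe u

variable {G : Type u} [Group G] [Finite G]

theorem a5_data : ∃ x w : alternatingGroup (Fin 5),
    x * x = 1 ∧ x ≠ 1 ∧ w ^ 3 = 1 ∧ w ≠ 1 ∧ (w * x) ^ 3 = 1 ∧ w * x ≠ 1 ∧ w * x * w⁻¹ ≠ x := by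
  refine ⟨⟨Equiv.swap 0 1 * Equiv.swap 2 3, Equiv.Perm.mem_alternatingGroup.mpr (by decide)⟩,
    ⟨Equiv.swap 0 1 * Equiv.swap 1 2, Equiv.Perm.mem_alternatingGroup.mpr (by decide)⟩,
    ?_, ?_, ?_, ?_, ?_, ?_, ?_⟩ <;> decide

/-- A solvable quotient with trivial 2-core and even order is dihedral of order six or ten. -/
theorem card_solvable_quot (h : Ord5 G) (D : Subgroup G) [hDn : D.Normal] (hD : IsPGroup 2 D)
    (hD1 : D ≠ ⊥) (hcore : Cfsg.pCore 2 G = D) (hev : 2 ∣ D.index) [hsol : Group.IsSolvable (G ⧸ D)] :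
    D.index = 6 ∨ D.index = 10 := by
  haveI := Fact.mk Nat.prime_two
  have hcq := pCore_quotient_eq_bot D hcore
  haveI : Nontrivial (G ⧸ D) := by
    refine Finite.one_lt_card_iff_nontrivial.mp ?_
    rcases Nat.eq_zero_or_pos (Nat.card (G ⧸ D)) with e | e
    · exact absurd e Nat.card_pos.ne'
    · have : 2 ∣ Nat.card (G ⧸ D) := hev
      have := Nat.le_of_dvd e this
      omega
  obtain ⟨M, ⟨hMn, hMb⟩, hmin⟩ := Set.exists_min_image {N : Subgroup (G ⧸ D) | N.Normal ∧ N ≠ ⊥}
    (fun N => Nat.card N) (Set.toFinite _) ⟨⊤, inferInstance, top_ne_bot⟩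
  haveI := hMn
  obtain ⟨r, hr, hMr⟩ := Cfsg.Agent.Grp.minimal_normal_solvable_isPGroup (N := M) inferInstance hMb
    fun M' hM hle => or_iff_not_imp_left.2 fun hb => Subgroup.eq_of_le_of_card_ge hle (hmin M' ⟨hM, hb⟩)
  haveI := Fact.mk hr
  set P := Cfsg.pCore r (G ⧸ D) with hP
  haveI hPn : P.Normal := Cfsg.Agent.Grp.pCore_isNormal
  have hPp : IsPGroup r P := Cfsg.Agent.Grp.pCore_isPGroup
  have hP1 : P ≠ ⊥ := fun e => hMb (le_bot_iff.mp (e ▸ Cfsg.Agent.Grp.le_pCore hMn hMr))
  have hr2 : r ≠ 2 := by rintro rfl; exact hP1 hcq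
  have hr35 : r = 3 ∨ r = 5 := by
    obtain ⟨x, hx⟩ : ∃ x : P, x ≠ 1 := exists_ne' hP1
    have hd : r ∣ Nat.card (G ⧸ D) := by
      obtain ⟨a, ha⟩ := IsPGroup.iff_card.mp hPp
      have : a ≠ 0 := fun e => hP1 (Subgroup.card_eq_one.mp (by rw [ha, e, pow_zero]))
      exact (dvd_pow_self r this).trans (ha ▸ Subgroup.card_subgroup_dvd_card P)
    exact ((h.quotient D).prime_cases hr hd).resolve_left hr2
  -- `P` has order `r`
  obtain ⟨a, ha⟩ := IsPGroup.iff_card.mp hPp
  have ha0 : a ≠ 0 := fun e => hP1 (Subgroup.card_eq_one.mp (by rw [ha, e, pow_zero]))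
  have hPcard : Nat.card P = r := by
    have hd : r ^ a ∣ Nat.card (P.comap (QuotientGroup.mk' D)) := by
      have e := Subgroup.card_eq_card_quotient_mul_card_subgroup
        (((QuotientGroup.mk' D).subgroupComap P).ker)
      have e2 : Nat.card P = Nat.card ((P.comap (QuotientGroup.mk' D)) ⧸
          ((QuotientGroup.mk' D).subgroupComap P).ker) :=
        (Nat.card_congr (QuotientGroup.quotientKerEquivOfSurjective _
          ((QuotientGroup.mk' D).subgroupComap_surjective_of_surjective P
            (QuotientGroup.mk'_surjective D))).toEquiv).symm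
      rw [← ha, e2, e]
      exact dvd_mul_right _ _
    obtain ⟨R, hR⟩ := Sylow.exists_subgroup_card_pow_prime r hd
    have hR' : IsPGroup r (R.map (P.comap (QuotientGroup.mk' D)).subtype) := (IsPGroup.of_card hR).map _
    have hle := h.card_dvd_of_fpf hr2 hr2 hR' hD hD1 (by rw [Subgroup.normalizer_eq_top]; exact le_top)
    rw [Subgroup.card_map_of_injective (Subgroup.subtype_injective _), hR] at hle
    have : a ≤ 1 := (Nat.pow_dvd_pow_iff_le_right hr.one_lt).mp (by rw [pow_one]; exact hle)
    rw [ha, show a = 1 by omega, pow_one]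
  haveI : IsCyclic P := isCyclic_of_prime_card hPcard
  haveI : IsMulCommutative P := IsCyclic.isMulCommutative
  -- the centraliser of `P` is `P`
  let φ : G ⧸ D →* MulAut P := MulAut.conjNormal
  obtain ⟨c, hcP, hco⟩ : ∃ c ∈ P, orderOf c = r := by
    obtain ⟨c, hc⟩ := exists_prime_orderOf_dvd_card' (G := P) r hPcard.symm.dvd
    exact ⟨c, c.2, by rwa [Subgroup.orderOf_coe]⟩
  have hc1 : c ≠ 1 := fun e => by rw [e, orderOf_one] at hco; exact hr.ne_one hco.symm
  have hker : φ.ker = P := by
    refine le_antisymm ?_ fun y hy => ?_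
    · refine Cfsg.Agent.Grp.le_pCore inferInstance fun ⟨y, hy⟩ => ⟨1, Subtype.ext ?_⟩
      have e : φ y ⟨c, hcP⟩ = ⟨c, hcP⟩ := by rw [MonoidHom.mem_ker.mp hy]; rfl
      have e' : y * c * y⁻¹ = c := (MulAut.conjNormal_apply y ⟨c, hcP⟩).symm.trans (congrArg Subtype.val e)
      show y ^ r ^ 1 = 1
      rw [pow_one]
      exact (h.quotient D).centralizer_odd hr hr2 (hco ▸ pow_orderOf_eq_one c) hc1
        (show c * y = y * c from (mul_inv_eq_iff_eq_mul.mp e').symm)
    · refine MonoidHom.mem_ker.mpr (MulEquiv.ext fun x => Subtype.ext ?_)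
      rw [MulAut.conjNormal_apply]
      show y * x * y⁻¹ = x
      rw [show y * (x : G ⧸ D) = x * y from
        congrArg Subtype.val (IsMulCommutative.is_comm.comm (⟨y, hy⟩ : P) x), mul_inv_cancel_right]
  have hcardX : Nat.card (G ⧸ D) = Nat.card φ.range * r := by
    rw [Subgroup.card_eq_card_quotient_mul_card_subgroup φ.ker,
      Nat.card_congr (QuotientGroup.quotientKerEquivRange φ).toEquiv, hker, hPcard]
  have hAut : Nat.card (MulAut P) = r - 1 := by
    rw [IsCyclic.card_mulAut, hPcard, Nat.totient_prime hr]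
  have hdvd : Nat.card φ.range ∣ r - 1 := hAut ▸ Subgroup.card_subgroup_dvd_card _
  have hev' : 2 ∣ Nat.card φ.range := by
    have : 2 ∣ Nat.card φ.range * r := hcardX ▸ hev
    exact (Nat.Prime.dvd_mul Nat.prime_two).mp this |>.resolve_right fun h2 =>
      hr2 ((Nat.prime_dvd_prime_iff_eq Nat.prime_two hr).mp h2).symm
  have hne4 : ¬ (r = 5 ∧ Nat.card φ.range = 4) := by
    rintro ⟨rfl, h4⟩
    have hsur : φ.range = ⊤ := Subgroup.eq_top_of_card_eq _ (by rw [h4, hAut])
    have hpow5 : ∀ z : P, z ^ 5 = 1 := fun z => by rw [← hPcard]; exact pow_card_eq_one'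
    let sq : MulAut P :=
      { toFun := fun z => z ^ 2
        invFun := fun z => z ^ 3
        left_inv := fun z => by
          show (z ^ 2) ^ 3 = z
          rw [← pow_mul, show 2 * 3 = 5 + 1 from rfl, pow_succ, hpow5, one_mul]
        right_inv := fun z => by
          show (z ^ 3) ^ 2 = z
          rw [← pow_mul, show 3 * 2 = 5 + 1 from rfl, pow_succ, hpow5, one_mul]
        map_mul' := fun x y => (show Commute x y from IsMulCommutative.is_comm.comm x y).mul_pow 2 }
    obtain ⟨xb, hxb⟩ : sq ∈ φ.range := hsur ▸ Subgroup.mem_top sq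
    have e : xb * c * xb⁻¹ = c ^ 2 := by
      rw [← MulAut.conjNormal_apply xb ⟨c, hcP⟩, show MulAut.conjNormal xb = sq from hxb]
      rfl
    obtain ⟨k, rfl⟩ := QuotientGroup.mk_surjective c
    obtain ⟨x, rfl⟩ := QuotientGroup.mk_surjective xb
    have hk := lift_odd h D hr hr2 (hco ▸ pow_orderOf_eq_one _) hc1
    have hk1 : k ≠ 1 := fun e' => hc1 (by rw [e', QuotientGroup.mk_one])
    have hmem : x * k * x⁻¹ * (k ^ 2)⁻¹ ∈ D := by
      rw [← QuotientGroup.eq_one_iff, QuotientGroup.mk_mul, QuotientGroup.mk_mul, QuotientGroup.mk_mul,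
        QuotientGroup.mk_inv, QuotientGroup.mk_inv, QuotientGroup.mk_pow, e, mul_inv_cancel]
    obtain ⟨f, -, hf⟩ := lift_conj h D hD hr hr2 hk hk1 (n := 2) (by decide) hmem
    exact hD1 (no_five_four h hD hk hk1 hf (by rw [Subgroup.normalizer_eq_top]; exact Subgroup.mem_top _)
      (by rw [Subgroup.normalizer_eq_top]; exact Subgroup.mem_top _))
  have hidx : D.index = Nat.card φ.range * r := hcardX
  have hle := Nat.le_of_dvd (by have := hr.two_le; omega) hdvd
  have hpos : 0 < Nat.card φ.range := Nat.card_pos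
  rcases hr35 with rfl | rfl
  · left
    have : Nat.card φ.range = 2 := by omega
    rw [hidx, this]
  · right
    have : Nat.card φ.range = 2 := by
      by_contra hne
      exact hne4 ⟨rfl, by omega⟩
    rw [hidx, this]
where
  exists_ne' {H : Subgroup (G ⧸ D)} (hH : H ≠ ⊥) : ∃ x : H, x ≠ 1 :=
    haveI := (Subgroup.nontrivial_iff_ne_bot H).mpr hH
    exists_ne (1 : H)

/-- The quotient options. -/
theorem invPair_of_outer (h : Ord5 G) (D : Subgroup G) [hDn : D.Normal] (hD : IsPGroup 2 D)
    (hcore : Cfsg.pCore 2 G = D) {e : G} (he : e * e = 1) (heD : e ∉ D) :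
    (∀ x ∈ D, x * x = 1) ∧ Nat.card (D ⊓ centralizer ({e} : Set G) : Subgroup G) ^ 2 = Nat.card D := by
  haveI := Fact.mk Nat.prime_two
  have heq : orderOf (e : G ⧸ D) = 2 := by
    refine orderOf_eq_two ?_ fun h1 => heD ((QuotientGroup.eq_one_iff e).mp h1)
    rw [← QuotientGroup.mk_mul, he, QuotientGroup.mk_one]
  obtain ⟨p, k, t, hp, ht⟩ := exists_lift_of_quot h D hcore heq
  have hnn : ∀ g : G, g ∈ normalizer (D : Set G) := fun g => by
    rw [Subgroup.normalizer_eq_top]; exact Subgroup.mem_top g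
  obtain ⟨hsq, -, hcard, -⟩ := elem_of_invPair h hD hp (hnn k) (hnn t)
  refine ⟨hsq, ?_⟩
  have hd : t⁻¹ * e ∈ D := QuotientGroup.eq.mp ht
  have hcomm := comm_of_sq hsq
  suffices hI : D ⊓ centralizer ({e} : Set G) = D ⊓ centralizer ({t} : Set G) by rw [hI]; exact hcard
  have key : ∀ x ∈ D, ∀ a b : G, a⁻¹ * b ∈ D → a * x = x * a → b * x = x * b := by
    intro x hx a b hab hax
    calc b * x = a * ((a⁻¹ * b) * x) := by group
      _ = a * (x * (a⁻¹ * b)) := by rw [hcomm _ hab x hx]
      _ = (a * x) * (a⁻¹ * b) := by group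
      _ = x * b := by rw [hax]; group
  ext x
  simp only [Subgroup.mem_inf, Subgroup.mem_centralizer_singleton_iff]
  refine ⟨fun hx => ⟨hx.1, (key x hx.1 e t ?_ hx.2.symm).symm⟩, fun hx => ⟨hx.1, (key x hx.1 t e hd hx.2.symm).symm⟩⟩
  have := inv_mem hd
  rwa [mul_inv_rev, inv_inv] at this

/-- The Sylow 2-subgroup over the 2-core. -/
theorem exists_shape (h : Ord5 G) (D : Subgroup G) [hDn : D.Normal] (hD : IsPGroup 2 D)
    (hD1 : D ≠ ⊥) (hcore : Cfsg.pCore 2 G = D) (hev : 2 ∣ D.index)
    (hA5 : ¬ Group.IsSolvable (G ⧸ D) → Nonempty (G ⧸ D ≃* alternatingGroup (Fin 5))) :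
    ∃ U E : Subgroup G, Shape U D E ∧ ¬ 2 ∣ U.index ∧ 2 ≤ Nat.card (D ⊓ E : Subgroup G) ∧
      ((Nat.card E = 2 * Nat.card (D ⊓ E : Subgroup G) ∧ D.index ≤ 10) ∨
        (Nat.card E = 4 * Nat.card (D ⊓ E : Subgroup G) ∧ D.index = 60)) := by
  haveI := Fact.mk Nat.prime_two
  have hge2 : ∀ n : ℕ, n ^ 2 = Nat.card D → 2 ≤ n := fun n hn => by
    have h1 := (Subgroup.one_lt_card_iff_ne_bot D).mpr hD1
    rcases n with _ | _ | n
    · simp only [ne_eq, OfNat.ofNat_ne_zero, not_false_eq_true, zero_pow] at hn; omega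
    · rw [zero_add, one_pow] at hn; omega
    · omega
  have hidx : ∀ U : Subgroup G, ∀ b c : ℕ, Nat.card U = Nat.card D * b → D.index = b * c → ¬ 2 ∣ c →
      ¬ 2 ∣ U.index := by
    intro U b c hU hDc hc
    have e : Nat.card D * D.index = Nat.card U * U.index := by
      rw [Subgroup.card_mul_index, Subgroup.card_mul_index]
    rw [hU, hDc, mul_assoc] at e
    have e' := Nat.eq_of_mul_eq_mul_left Nat.card_pos e
    have hb : 0 < b := by
      rcases Nat.eq_zero_or_pos b with rfl | hb
      · rw [mul_zero] at hU; exact absurd hU Nat.card_pos.ne'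
      · exact hb
    rw [← Nat.eq_of_mul_eq_mul_left hb e']
    exact hc
  by_cases hsol : Group.IsSolvable (G ⧸ D)
  · -- dihedral quotient
    have hi := card_solvable_quot h D hD hD1 hcore hev
    obtain ⟨xb, hxb⟩ := exists_prime_orderOf_dvd_card' (G := G ⧸ D) 2 hev
    obtain ⟨p, k, t, hp, ht⟩ := exists_lift_of_quot h D hcore hxb
    have htD : t ∉ D := fun hm => by
      rw [(QuotientGroup.eq_one_iff t).mpr hm] at ht
      rw [← ht, orderOf_one] at hxb
      omega
    obtain ⟨hsq, hcard⟩ := invPair_of_outer h D hD hcore hp.sq htD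
    have hB : ∀ b ∈ zpowers t, b = 1 ∨ b = t := by
      intro b hb
      obtain ⟨n, rfl⟩ := mem_zpowers_iff.mp hb
      rcases Int.even_or_odd n with ⟨j, rfl⟩ | ⟨j, rfl⟩
      · left
        rw [← two_mul, zpow_mul, zpow_two, hp.sq, one_zpow]
      · right
        rw [zpow_add, zpow_mul, zpow_two, hp.sq, one_zpow, one_mul, zpow_one]
    have hcB : centralizer ((zpowers t : Subgroup G) : Set G) = centralizer ({t} : Set G) := by
      rw [Subgroup.zpowers_eq_closure, Subgroup.centralizer_closure]
    obtain ⟨E, hs, hDE, hEc, hUc⟩ := Shape.of_complement D (zpowers t) hD hsq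
      (fun b hb => by rcases hB b hb with rfl | rfl; exacts [one_mul 1, hp.sq])
      ((Subgroup.eq_bot_iff_forall _).mpr fun x hx =>
        (hB x hx.2).resolve_right fun e => htD (e ▸ hx.1))
      (fun b hb hb1 d _ hc b' hb' => by
        rcases hB b' hb' with rfl | rfl
        · rw [one_mul, mul_one]
        · rwa [(hB b hb).resolve_left hb1] at hc)
      (by rw [hcB]; exact hcard)
    have h2 : Nat.card (zpowers t) = 2 := by
      rw [Nat.card_zpowers]; exact orderOf_eq_two hp.sq hp.t_ne
    rw [h2] at hEc hUc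
    refine ⟨_, E, hs, ?_, hge2 _ hs.card.symm, Or.inl ⟨by rw [hEc, hDE], by omega⟩⟩
    rcases hi with hi | hi
    · exact hidx _ 2 3 hUc hi (by norm_num)
    · exact hidx _ 2 5 hUc hi (by norm_num)
  · -- alternating quotient
    obtain ⟨e⟩ := hA5 hsol
    obtain ⟨x0, w0, hx2, hx1, hw3, hw1, hwx, hwx1, hne⟩ := a5_data
    set xb := e.symm x0 with hxb
    set wb := e.symm w0 with hwb
    have hxo : orderOf xb = 2 := orderOf_eq_two (by rw [hxb, ← map_mul, hx2, map_one])
      (fun e0 => hx1 (e.symm.injective (by rw [map_one]; exact e0)))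
    obtain ⟨p, k, x, hp, hx⟩ := exists_lift_of_quot h D hcore hxo
    obtain ⟨w, hw⟩ := QuotientGroup.mk_surjective wb
    have hwb1 : (w : G ⧸ D) ≠ 1 := fun e0 => hw1 (e.symm.injective (by rw [map_one, ← hwb, ← hw]; exact e0))
    have hw3' : w ^ 3 = 1 := lift_odd h D Nat.prime_three (by norm_num)
      (by rw [hw, hwb, ← map_pow, hw3, map_one]) hwb1
    have hwxe : ((w * x : G) : G ⧸ D) = e.symm (w0 * x0) := by rw [QuotientGroup.mk_mul, hw, hx, map_mul]
    have hwx3 : (w * x) ^ 3 = 1 := lift_odd h D Nat.prime_three (by norm_num)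
      (by rw [hwxe, ← map_pow, hwx, map_one])
      (by rw [hwxe]; exact fun e0 => hwx1 (e.symm.injective (by rw [map_one]; exact e0)))
    have hwn1 : w ≠ 1 := fun e0 => hwb1 (by rw [e0, QuotientGroup.mk_one])
    have hwxn1 : w * x ≠ 1 := fun e0 => hwx1 (e.symm.injective (by
      rw [map_one, ← hwxe, e0, QuotientGroup.mk_one]))
    set x' := w * x * w⁻¹ with hx'
    set x'' := w * x' * w⁻¹ with hx''
    have hxx : x * x = 1 := hp.sq
    have hx'2 : x' * x' = 1 := by
      rw [hx', show w * x * w⁻¹ * (w * x * w⁻¹) = w * (x * x) * w⁻¹ by group, hxx]; group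
    have hx''2 : x'' * x'' = 1 := by
      rw [hx'', show w * x' * w⁻¹ * (w * x' * w⁻¹) = w * (x' * x') * w⁻¹ by group, hx'2]; group
    have hprod : x' * x'' * x = 1 := by
      rw [← hwx3]
      have : w⁻¹ * w⁻¹ = w := by
        calc w⁻¹ * w⁻¹ = w ^ 3 * (w⁻¹ * w⁻¹) := by rw [hw3', one_mul]
          _ = w := by group
      calc x' * x'' * x = w * x * w * x * (w⁻¹ * w⁻¹) * x := by rw [hx'', hx']; group
        _ = _ := by rw [this]; simp only [pow_succ, pow_zero, one_mul]; group
    have hxinv : x⁻¹ = x := inv_eq_of_mul_eq_one_left hxx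
    have hp1 : x' * x'' = x := by rw [← hxinv]; exact eq_inv_of_mul_eq_one_left hprod
    have hp2 : x'' * x = x' := by
      rw [← inv_eq_of_mul_eq_one_left hx'2]
      exact eq_inv_of_mul_eq_one_right (by rw [← mul_assoc]; exact hprod)
    have hcom' : x' * x = x * x' := by
      have e1 : x' * x = x'' := by
        rw [← hp1, ← mul_assoc, hx'2, one_mul]
      have e2 : x * x' = x'' := by
        calc x * x' = x * (x'' * x) := by rw [hp2]
          _ = (x' * x'') * x'' * x := by rw [hp1]; group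
          _ = x'' := by rw [mul_assoc x', hx''2, mul_one, e1]
      rw [e1, e2]
    set B := closure ({x, x'} : Set G) with hBdef
    have hBmem : ∀ b ∈ B, b = 1 ∨ b = x ∨ b = x' ∨ b = x * x' := by
      intro b hb
      induction hb using Subgroup.closure_induction with
      | mem y hy => rcases hy with rfl | rfl <;> simp
      | one => exact Or.inl rfl
      | mul a c _ _ ha hc =>
        have r1 : x * (x * x') = x' := by rw [← mul_assoc, hxx, one_mul]
        have r2 : x' * (x * x') = x := by rw [← mul_assoc, hcom', mul_assoc, hx'2, mul_one]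
        have r3 : x * x' * x = x' := by rw [mul_assoc, hcom', r1]
        have r4 : x * x' * x' = x := by rw [mul_assoc, hx'2, mul_one]
        have r5 : x * x' * (x * x') = 1 := by rw [← mul_assoc, r3, hx'2]
        rcases ha with ha | ha | ha | ha <;> rcases hc with hc | hc | hc | hc <;> subst ha <;> subst hc
        all_goals simp only [one_mul, mul_one, hxx, hx'2, hcom', r1, r2, r3, r4, r5, true_or, or_true]
      | inv a _ ha =>
        rcases ha with ha | ha | ha | ha <;> subst ha
        · exact Or.inl inv_one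
        · exact Or.inr (Or.inl hxinv)
        · exact Or.inr (Or.inr (Or.inl (inv_eq_of_mul_eq_one_left hx'2)))
        · refine Or.inr (Or.inr (Or.inr ?_))
          rw [mul_inv_rev, hxinv, inv_eq_of_mul_eq_one_left hx'2, hcom']
    have hxbne : (x' : G ⧸ D) ≠ (x : G ⧸ D) := by
      intro e0
      refine hne (e.symm.injective ?_)
      rw [map_mul, map_mul, map_inv]
      rw [hx', QuotientGroup.mk_mul, QuotientGroup.mk_mul, QuotientGroup.mk_inv, hw, hx] at e0
      exact e0
    have hx1' : (x : G ⧸ D) ≠ 1 := fun e0 => by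
      rw [← hx, e0, orderOf_one] at hxo; omega
    have hx'1 : (x' : G ⧸ D) ≠ 1 := fun e0 => hx1' (by
      rw [hx', QuotientGroup.mk_mul, QuotientGroup.mk_mul, QuotientGroup.mk_inv] at e0
      exact (mul_inv_eq_one.mp e0) |> fun e1 => mul_left_cancel (e1.trans (mul_one _).symm))
    have hxx'1 : ((x * x' : G) : G ⧸ D) ≠ 1 := fun e0 => hxbne (by
      rw [QuotientGroup.mk_mul] at e0
      rw [← inv_eq_of_mul_eq_one_right e0]
      exact inv_eq_of_mul_eq_one_left (by rw [← QuotientGroup.mk_mul, hxx, QuotientGroup.mk_one]))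
    have hxD : x ∉ D := fun hm => hx1' ((QuotientGroup.eq_one_iff x).mpr hm)
    have hdisj : D ⊓ B = ⊥ := (Subgroup.eq_bot_iff_forall _).mpr fun b hb => by
      rcases hBmem b hb.2 with rfl | rfl | rfl | rfl
      · rfl
      · exact absurd hb.1 hxD
      · exact absurd ((QuotientGroup.eq_one_iff _).mpr hb.1) hx'1
      · exact absurd ((QuotientGroup.eq_one_iff _).mpr hb.1) hxx'1
    obtain ⟨hsq, hcard⟩ := invPair_of_outer h D hD hcore hxx hxD
    have hDc := comm_of_sq hsq
    -- fixed points of `x` are fixed by `x'`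
    have hmove : ∀ d ∈ D, x * d = d * x → x' * d = d * x' := by
      intro d hd hxd
      set κ : G → G := fun z => w * z * w⁻¹ with hκ
      have hκD : ∀ z ∈ D, κ z ∈ D := fun z hz => hDn.conj_mem z hz w
      have hxD' : ∀ z ∈ D, x * z * x ∈ D := fun z hz => by
        have := hDn.conj_mem z hz x
        rwa [hxinv] at this
      -- products over the orbits vanish
      have orb : ∀ g : G, g ^ 3 = 1 → g ≠ 1 → ∀ z ∈ D,
          z * (g * z * g⁻¹) * (g * (g * z * g⁻¹) * g⁻¹) = 1 := by
        intro g hg hg1 z hz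
        have hm1 := hDn.conj_mem z hz g
        have hm2 := hDn.conj_mem _ hm1 g
        refine h.fix_eq_one Nat.prime_three (by norm_num) hg hg1
          (h.pow_four hD (mul_mem (mul_mem hz hm1) hm2)) ?_
        show g * _ = _ * g
        refine mul_inv_eq_iff_eq_mul.mp ?_
        calc g * (z * (g * z * g⁻¹) * (g * (g * z * g⁻¹) * g⁻¹)) * g⁻¹
            = (g * z * g⁻¹) * (g * (g * z * g⁻¹) * g⁻¹) * (g ^ 3 * z * (g ^ 3)⁻¹) := by
              simp only [pow_succ, pow_zero, one_mul]; group
          _ = z * ((g * z * g⁻¹) * (g * (g * z * g⁻¹) * g⁻¹)) := by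
              rw [hg, one_mul, inv_one, mul_one]; exact hDc _ (mul_mem hm1 hm2) _ hz
          _ = _ := (mul_assoc _ _ _).symm
      -- `y = κ² d`, so `κ y = d`
      set y := κ (κ d) with hy
      have hyD : y ∈ D := hκD _ (hκD _ hd)
      have hκy : κ y = d := by
        show w * (w * (w * d * w⁻¹) * w⁻¹) * w⁻¹ = d
        rw [show w * (w * (w * d * w⁻¹) * w⁻¹) * w⁻¹ = w ^ 3 * d * (w ^ 3)⁻¹ by
          simp only [pow_succ, pow_zero, one_mul]; group, hw3']
        group
      have o1 := orb (w * x) hwx3 hwxn1 (x * y * x) (hxD' _ hyD)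
      have o2 := orb w hw3' hwn1 y hyD
      have f1 : (w * x) * (x * y * x) * (w * x)⁻¹ = d := by
        rw [← hκy]
        calc (w * x) * (x * y * x) * (w * x)⁻¹ = w * ((x * x) * y) * w⁻¹ := by group
          _ = _ := by rw [hxx, one_mul]
      have f2 : (w * x) * d * (w * x)⁻¹ = κ d := by
        calc (w * x) * d * (w * x)⁻¹ = w * (x * d * x⁻¹) * w⁻¹ := by group
          _ = _ := by rw [hxd, mul_inv_cancel_right]
      rw [f1, f2] at o1
      have o2' : y * d * κ d = 1 := by
        have : w * y * w⁻¹ = d := hκy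
        rw [this] at o2
        exact o2
      have hyfix : x * y * x = y := mul_right_cancel (mul_right_cancel (o1.trans o2'.symm))
      have e1 : x' * d = d * x' := by
        calc x' * d = w * (x * y) * w⁻¹ := by rw [← hκy, hx', hκ]; group
          _ = w * (y * x) * w⁻¹ := by
            rw [show x * y = y * x by
              conv_rhs => rw [← hyfix]
              rw [mul_assoc, hxx, mul_one]]
          _ = d * x' := by rw [← hκy, hx', hκ]; group
      exact e1
    have hI : D ⊓ centralizer (B : Set G) = D ⊓ centralizer ({x} : Set G) := by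
      refine le_antisymm (inf_le_inf_left _ (centralizer_le (Set.singleton_subset_iff.mpr (Subgroup.subset_closure (Or.inl rfl))))) ?_
      intro d hd
      refine ⟨hd.1, ?_⟩
      show d ∈ centralizer (B : Set G)
      rw [hBdef, centralizer_closure, mem_centralizer_iff]
      rintro b (rfl | rfl)
      · exact (mem_centralizer_singleton_iff.mp hd.2).symm
      · exact hmove d hd.1 (mem_centralizer_singleton_iff.mp hd.2).symm
    have hcardI : Nat.card (D ⊓ centralizer (B : Set G) : Subgroup G) ^ 2 = Nat.card D := hI ▸ hcard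
    have hq2 : x * x' * (x * x') = 1 := by
      calc x * x' * (x * x') = x * (x' * x) * x' := by simp only [mul_assoc]
        _ = (x * x) * (x' * x') := by rw [hcom']; simp only [mul_assoc]
        _ = 1 := by rw [hxx, hx'2, one_mul]
    have hfix : ∀ b ∈ B, b ≠ 1 → ∀ d ∈ D, b * d = d * b → ∀ b' ∈ B, b' * d = d * b' := by
      intro b hb hb1 d hd hc
      have hbD : b ∉ D := fun hm => hb1 (by
        have : b ∈ D ⊓ B := ⟨hm, hb⟩
        rwa [hdisj, Subgroup.mem_bot] at this)
      have hb2 : b * b = 1 := by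
        rcases hBmem b hb with rfl | rfl | rfl | rfl
        · exact one_mul 1
        · exact hxx
        · exact hx'2
        · exact hq2
      have hle : D ⊓ centralizer (B : Set G) ≤ D ⊓ centralizer ({b} : Set G) :=
        inf_le_inf_left _ (centralizer_le (Set.singleton_subset_iff.mpr hb))
      have hcb := (invPair_of_outer h D hD hcore hb2 hbD).2
      have heq := Subgroup.eq_of_le_of_card_ge hle (le_of_eq (Nat.pow_left_injective two_ne_zero
        (hcb.trans hcardI.symm)))
      have hdm : d ∈ D ⊓ centralizer ({b} : Set G) := ⟨hd, mem_centralizer_singleton_iff.mpr hc.symm⟩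
      rw [← heq] at hdm
      exact fun b' hb' => mem_centralizer_iff.mp hdm.2 b' hb'
    obtain ⟨E, hs, hDE, hEc, hUc⟩ := Shape.of_complement D B hD hsq
      (fun b hb => by
        rcases hBmem b hb with rfl | rfl | rfl | rfl
        · exact one_mul 1
        · exact hxx
        · exact hx'2
        · exact hq2)
      hdisj hfix hcardI
    have hB4 : Nat.card B = 4 := by
      classical
      have hset : (B : Set G) = ↑({1, x, x', x * x'} : Finset G) := by
        ext b
        simp only [SetLike.mem_coe, Finset.coe_insert, Finset.coe_singleton, Set.mem_insert_iff,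
          Set.mem_singleton_iff]
        refine ⟨hBmem b, ?_⟩
        rintro (rfl | rfl | rfl | rfl)
        · exact one_mem B
        · exact subset_closure (Or.inl rfl)
        · exact subset_closure (Or.inr rfl)
        · exact mul_mem (subset_closure (Or.inl rfl)) (subset_closure (Or.inr rfl))
      have n1 : x ≠ 1 := fun e0 => hx1' (by rw [e0, QuotientGroup.mk_one])
      have n2 : x' ≠ 1 := fun e0 => hx'1 (by rw [e0, QuotientGroup.mk_one])
      have n3 : x * x' ≠ 1 := fun e0 => hxx'1 (by rw [e0, QuotientGroup.mk_one])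
      have n4 : x ≠ x' := fun e0 => hxbne (by rw [← e0])
      rw [← SetLike.coe_sort_coe, Nat.card_coe_set_eq, hset, Set.ncard_coe_finset]
      simp [n1.symm, n2.symm, n3.symm, n4, n1, n2]
    rw [hB4] at hEc hUc
    have h60 : D.index = 60 := by
      rw [Subgroup.index, Nat.card_congr e.toEquiv, nat_card_alternatingGroup, Nat.card_fin]
      rfl
    exact ⟨_, E, hs, hidx _ 4 15 hUc h60 (by norm_num), hge2 _ hs.card.symm,
      Or.inr ⟨by rw [hEc, hDE], h60⟩⟩

end Cfsg.Agent.Block.Spec5
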