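import Mathlib
import Cfsg.Agent.Lib.Block.Spec5.Local
import Cfsg.Agent.Lib.Block.Spec5.Common

/-!
The normaliser of a maximal Sylow intersection in a simple group.
-/

set_option autoImplicit false
set_option linter.unusedSectionVars false
set_option linter.style.haveILetI false

namespace Cfsg.Agent.Block.Spec5

open Subgroup

universe u

variable {G : Type u} [Group G] [Finite G]

/-- The inductive hypothesis on smaller groups. -/
def Small (G : Type u) [Group G] : Prop :=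
  ∀ (K : Type u) [Group K] [Finite K], Nat.card K < Nat.card G → Ord5 K → ¬ Group.IsSolvable K →
    Cfsg.pCore 2 K = ⊥ →
      Nonempty (K ≃* alternatingGroup (Fin 5)) ∨ Nonempty (K ≃* alternatingGroup (Fin 6))

/-- `U` is maximal among the 2-subgroups of `M`. -/
def MaxIn (U M : Subgroup G) : Prop :=
  U ≤ M ∧ IsPGroup 2 U ∧ ∀ P : Subgroup G, IsPGroup 2 P → U ≤ P → P ≤ M → P = U

theorem MaxIn.exists_sylow {U M : Subgroup G} (hU : MaxIn U M) :
    ∃ P : Sylow 2 M, (P : Subgroup M).map M.subtype = U := by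
  haveI := Fact.mk Nat.prime_two
  obtain ⟨P, hP⟩ := (hU.2.1.comap_subtype (K := M) : IsPGroup 2 (U.subgroupOf M)).exists_le_sylow
  refine ⟨P, hU.2.2 _ (P.isPGroup'.map _) (fun x hx => ?_) (Subgroup.map_subtype_le _)⟩
  exact ⟨⟨x, hU.1 hx⟩, hP (Subgroup.mem_subgroupOf.mpr hx), rfl⟩

theorem MaxIn.card_eq {U V M : Subgroup G} (hU : MaxIn U M) (hV : MaxIn V M) : Nat.card U = Nat.card V := by
  haveI := Fact.mk Nat.prime_two
  obtain ⟨P, rfl⟩ := hU.exists_sylow
  obtain ⟨Q, rfl⟩ := hV.exists_sylow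
  rw [Subgroup.card_map_of_injective M.subtype_injective, Subgroup.card_map_of_injective M.subtype_injective,
    P.card_eq_multiplicity, Q.card_eq_multiplicity]

/-- Every 2-element of `M` is conjugate in `M` into `U`. -/
theorem MaxIn.exists_conj {U M : Subgroup G} (hU : MaxIn U M) {x : G} (hxM : x ∈ M) (hx : x * x = 1) :
    ∃ m ∈ M, m * x * m⁻¹ ∈ U := by
  haveI := Fact.mk Nat.prime_two
  obtain ⟨P, hP⟩ := hU.exists_sylow
  have hx2 : IsPGroup 2 (zpowers (⟨x, hxM⟩ : M)) := fun ⟨a, ha⟩ => by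
    obtain ⟨n, rfl⟩ := mem_zpowers_iff.mp ha
    refine ⟨1, Subtype.ext (Subtype.ext ?_)⟩
    show ((x : G) ^ n) ^ (2 ^ 1) = 1
    rw [pow_one, pow_two, ← (Commute.refl x).mul_zpow, hx, one_zpow]
  obtain ⟨Q, hQ⟩ := hx2.exists_le_sylow
  obtain ⟨m, hm⟩ := MulAction.exists_smul_eq M Q P
  refine ⟨m, m.2, ?_⟩
  rw [← hP]
  refine ⟨m * ⟨x, hxM⟩ * m⁻¹, ?_, rfl⟩
  rw [← hm, Sylow.coe_subgroup_smul]
  exact Subgroup.smul_mem_pointwise_smul _ (MulAut.conj m) (Q : Subgroup M) (hQ (mem_zpowers _))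

/-- Orbit bound: the conjugates of `z` under `M` inside `X`. -/
theorem orbit_bound (h : Ord5 G) {X M U : Subgroup G} (hXM : ∀ m ∈ M, ∀ x ∈ X, m * x * m⁻¹ ∈ X)
    (hU : MaxIn U M) {z : G} (hz : orderOf z = 2) (hzX : z ∈ X)
    (hUz : ∀ u ∈ U, u * z = z * u) :
    Nat.card M ≤ Nat.card U * (Nat.card X - 1) ∧
      (Nat.card U * (Nat.card X - 1) ≤ Nat.card M → ∀ x ∈ X, x ≠ 1 → ∃ m ∈ M, m * z * m⁻¹ = x) := by
  classical
  haveI := Fact.mk Nat.prime_two
  have hUle : U ≤ M := hU.1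
  have hC : ∀ c ∈ M, c * z = z * c → c ∈ U := by
    intro c hc hcz
    have hle : U ≤ M ⊓ centralizer ({z} : Set G) := fun u hu =>
      ⟨hUle hu, mem_centralizer_singleton_iff.mpr (hUz u hu)⟩
    rw [← hU.2.2 _ ((h.centralizer_involution hz).to_le inf_le_right) hle inf_le_left]
    exact ⟨hc, mem_centralizer_singleton_iff.mpr hcz⟩
  have hz1 : z ≠ 1 := Invol.ne_one_of_orderOf_two hz
  have hfun : ∀ q : M ⧸ U.subgroupOf M, ∃ s : {s : X // s ≠ 1}, ∀ n : M, (n : M ⧸ U.subgroupOf M) = q →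
      ((s.1 : X) : G) = n * z * (n : G)⁻¹ := by
    intro q
    obtain ⟨n, rfl⟩ := QuotientGroup.mk_surjective q
    refine ⟨⟨⟨_, hXM n n.2 z hzX⟩, fun e => hz1 ?_⟩, fun n' hn' => ?_⟩
    · have e' : (n : G) * z * (n : G)⁻¹ = 1 := congrArg Subtype.val e
      rwa [mul_inv_eq_one, mul_eq_left] at e'
    · have hd : ((n' : G))⁻¹ * n ∈ U := by
        have := QuotientGroup.eq.mp hn'
        rwa [Subgroup.mem_subgroupOf] at this
      show (n : G) * z * (n : G)⁻¹ = n' * z * (n' : G)⁻¹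
      calc (n : G) * z * (n : G)⁻¹ = n' * (((n' : G))⁻¹ * n * z) * (((n' : G))⁻¹ * n)⁻¹ * (n' : G)⁻¹ := by group
        _ = _ := by rw [hUz _ hd]; group
  choose f hf using hfun
  have hinj : Function.Injective f := by
    intro a b hab
    obtain ⟨n, rfl⟩ := QuotientGroup.mk_surjective a
    obtain ⟨n', rfl⟩ := QuotientGroup.mk_surjective b
    have e1 := hf _ n rfl
    have e2 := hf _ n' rfl
    rw [hab] at e1
    have e : (n : G) * z * (n : G)⁻¹ = n' * z * (n' : G)⁻¹ := e1.symm.trans e2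
    refine QuotientGroup.eq.mpr (Subgroup.mem_subgroupOf.mpr (hC _ (mul_mem (inv_mem n.2) n'.2) ?_))
    show (n : G)⁻¹ * n' * z = z * ((n : G)⁻¹ * n')
    calc (n : G)⁻¹ * n' * z = (n : G)⁻¹ * (n' * z * (n' : G)⁻¹) * n' := by group
      _ = _ := by rw [← e]; group
  have hX : Nat.card {s : X // s ≠ 1} = Nat.card X - 1 := by
    haveI := Fintype.ofFinite X
    rw [Nat.card_eq_fintype_card, Fintype.card_subtype_compl, Fintype.card_subtype_eq,
      ← Nat.card_eq_fintype_card]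
  have hM : Nat.card M = Nat.card U * Nat.card (M ⧸ U.subgroupOf M) := by
    rw [← Subgroup.card_mul_index (U.subgroupOf M),
      Nat.card_congr (Subgroup.subgroupOfEquivOfLe hUle).toEquiv]
    rfl
  have hle := Nat.card_le_card_of_injective f hinj
  rw [hX] at hle
  refine ⟨hM ▸ Nat.mul_le_mul_left _ hle, fun hge x hx hx1 => ?_⟩
  have hb : Function.Bijective f := hinj.bijective_of_nat_card_le (by
    rw [hX]
    exact Nat.le_of_mul_le_mul_left (hM ▸ hge) Nat.card_pos)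
  obtain ⟨q, hq⟩ := hb.2 ⟨⟨x, hx⟩, fun e => hx1 (congrArg Subtype.val e)⟩
  obtain ⟨n, rfl⟩ := QuotientGroup.mk_surjective q
  refine ⟨n, n.2, ?_⟩
  rw [← hf _ n rfl, hq]

/-- Shapes are preserved by injective homomorphisms. -/
theorem Shape.map {K : Type u} [Group K] [Finite K] {U D E : Subgroup K} (hs : Shape U D E) (f : K →* G)
    (hf : Function.Injective f) : Shape (U.map f) (D.map f) (E.map f) where
  two := hs.two.map f
  dU := Subgroup.map_mono hs.dU
  eU := Subgroup.map_mono hs.eU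
  dnorm := by
    rintro _ ⟨u, hu, rfl⟩
    refine mem_normalizer_iff.mpr fun x => ?_
    have key : ∀ d, f u * f d * (f u)⁻¹ = f (u * d * u⁻¹) := fun d => by simp only [map_mul, map_inv]
    constructor
    · rintro ⟨d, hd, rfl⟩
      exact ⟨u * d * u⁻¹, (mem_normalizer_iff.mp (hs.dnorm hu) d).mp hd, (key d).symm⟩
    · rintro ⟨d, hd, hde⟩
      refine ⟨u⁻¹ * d * u, (mem_normalizer_iff''.mp (hs.dnorm hu) d).mp hd, ?_⟩
      rw [map_mul, map_mul, map_inv, hde]; group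
  enorm := by
    rintro _ ⟨u, hu, rfl⟩
    refine mem_normalizer_iff.mpr fun x => ?_
    have key : ∀ d, f u * f d * (f u)⁻¹ = f (u * d * u⁻¹) := fun d => by simp only [map_mul, map_inv]
    constructor
    · rintro ⟨d, hd, rfl⟩
      exact ⟨u * d * u⁻¹, (mem_normalizer_iff.mp (hs.enorm hu) d).mp hd, (key d).symm⟩
    · rintro ⟨d, hd, hde⟩
      refine ⟨u⁻¹ * d * u, (mem_normalizer_iff''.mp (hs.enorm hu) d).mp hd, ?_⟩
      rw [map_mul, map_mul, map_inv, hde]; group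
  dsq := by rintro _ ⟨x, hx, rfl⟩; rw [← map_mul, hs.dsq x hx, map_one]
  esq := by rintro _ ⟨x, hx, rfl⟩; rw [← map_mul, hs.esq x hx, map_one]
  gen := by
    rintro _ ⟨u, hu, rfl⟩
    obtain ⟨d, hd, e, he, rfl⟩ := hs.gen u hu
    exact ⟨f d, ⟨d, hd, rfl⟩, f e, ⟨e, he, rfl⟩, map_mul f d e⟩
  inv := by
    rintro _ ⟨u, hu, rfl⟩ huu
    rw [← map_mul] at huu
    rcases hs.inv u hu (hf (huu.trans (map_one f).symm)) with h | h
    · exact Or.inl ⟨u, h, rfl⟩
    · exact Or.inr ⟨u, h, rfl⟩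
  cent := by
    rintro _ ⟨d, hd, rfl⟩ _ ⟨e, he, rfl⟩ hc
    rw [← map_mul, ← map_mul] at hc
    rcases hs.cent d hd e he (hf hc) with h | h
    · exact Or.inl ⟨d, h, rfl⟩
    · exact Or.inr ⟨e, h, rfl⟩
  card := by
    rw [← Subgroup.map_inf _ _ f hf, Subgroup.card_map_of_injective hf, Subgroup.card_map_of_injective hf]
    exact hs.card

/-- The data around a 2-subgroup which is the 2-core of its normaliser. -/
theorem local_data (h : Ord5 G) (hsmall : Small G) {D : Subgroup G} (hD2 : IsPGroup 2 D) (hD1 : D ≠ ⊥)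
    (hproper : normalizer (D : Set G) ≠ ⊤)
    (hcore : Cfsg.pCore 2 (normalizer (D : Set G)) = D.subgroupOf (normalizer (D : Set G)))
    {x : G} (hxN : x ∈ normalizer (D : Set G)) (hx4 : x ^ 4 = 1) (hxD : x ∉ D) :
    ∃ U E : Subgroup G, Shape U D E ∧ MaxIn U (normalizer (D : Set G)) ∧
      2 ≤ Nat.card (D ⊓ E : Subgroup G) ∧
      ((Nat.card E = 2 * Nat.card (D ⊓ E : Subgroup G) ∧
          Nat.card (normalizer (D : Set G)) ≤ 10 * Nat.card D) ∨
        (Nat.card E = 4 * Nat.card (D ⊓ E : Subgroup G) ∧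
          Nat.card (normalizer (D : Set G)) = 60 * Nat.card D)) ∧
      ∀ y ∈ normalizer (D : Set G), (∀ d ∈ D, y * d = d * y) → y ∈ D := by
  haveI := Fact.mk Nat.prime_two
  set N := normalizer (D : Set G) with hNdef
  have hDN : D ≤ N := le_normalizer
  set D' := D.subgroupOf N with hD'
  haveI hD'n : D'.Normal := Subgroup.normal_in_normalizer
  have hD'2 : IsPGroup 2 D' := hD2.comap_subtype
  have hD'c : Nat.card D' = Nat.card D := Nat.card_congr (Subgroup.subgroupOfEquivOfLe hDN).toEquiv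
  have hD'1 : D' ≠ ⊥ := fun e => hD1 (Subgroup.card_eq_one.mp (by rw [← hD'c, e, Subgroup.card_bot]))
  have hidx : Nat.card N = D'.index * Nat.card D := by
    rw [← hD'c, mul_comm, Subgroup.card_mul_index]
  have hev : 2 ∣ D'.index := by
    have hx' : ((⟨x, hxN⟩ : N) : N ⧸ D') ≠ 1 := fun e => hxD
      (Subgroup.mem_subgroupOf.mp ((QuotientGroup.eq_one_iff _).mp e))
    have hd : orderOf ((⟨x, hxN⟩ : N) : N ⧸ D') ∣ 2 ^ 2 := orderOf_dvd_of_pow_eq_one (by
      rw [← QuotientGroup.mk_pow, show (⟨x, hxN⟩ : N) ^ (2 ^ 2) = 1 from Subtype.ext hx4, QuotientGroup.mk_one])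
    obtain ⟨a, -, ha⟩ := (Nat.dvd_prime_pow Nat.prime_two).mp hd
    have ha0 : a ≠ 0 := fun e => hx' (orderOf_eq_one_iff.mp (by rw [ha, e, pow_zero]))
    exact ((dvd_pow_self 2 ha0).trans (ha ▸ orderOf_dvd_natCard _))
  have hA5 : ¬ Group.IsSolvable (N ⧸ D') → Nonempty (N ⧸ D' ≃* alternatingGroup (Fin 5)) := by
    intro hns
    have hlt : Nat.card (N ⧸ D') < Nat.card G := by
      refine lt_of_le_of_lt ?_ (Cfsg.Agent.Grp.card_lt_of_ne_top hproper)
      exact Nat.le_of_dvd Nat.card_pos (Subgroup.card_quotient_dvd_card D')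
    rcases hsmall (N ⧸ D') hlt ((h.subgroup N).quotient D') hns (pCore_quotient_eq_bot D' hcore) with e | e
    · exact e
    exfalso
    obtain ⟨e⟩ := e
    haveI := Fact.mk Nat.prime_three
    have h9 : 3 ^ 2 ∣ Nat.card N := by
      refine dvd_trans ?_ (Subgroup.card_quotient_dvd_card D')
      rw [Nat.card_congr e.toEquiv, nat_card_alternatingGroup, Nat.card_fin]
      decide
    obtain ⟨R, hR⟩ := Sylow.exists_subgroup_card_pow_prime 3 h9
    have := h.card_dvd_of_fpf (by norm_num) (by norm_num : (3 : ℕ) ≠ 2)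
      ((IsPGroup.of_card hR).map N.subtype) hD2 hD1 (Subgroup.map_subtype_le R)
    rw [Subgroup.card_map_of_injective N.subtype_injective, hR] at this
    norm_num at this
  obtain ⟨U', E', hs, hUi, hI, hopt⟩ := exists_shape (h.subgroup N) D' hD'2 hD'1 hcore hev hA5
  have hDm : D'.map N.subtype = D := by
    rw [hD', Subgroup.subgroupOf_map_subtype, inf_of_le_left hDN]
  have hinf : (D ⊓ E'.map N.subtype : Subgroup G) = (D' ⊓ E').map N.subtype := by
    rw [Subgroup.map_inf _ _ _ N.subtype_injective, hDm]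
  have hIc : Nat.card (D ⊓ E'.map N.subtype : Subgroup G) = Nat.card (D' ⊓ E' : Subgroup N) := by
    rw [hinf, Subgroup.card_map_of_injective N.subtype_injective]
  have hs' := hs.map N.subtype N.subtype_injective
  rw [hDm] at hs'
  refine ⟨U'.map N.subtype, E'.map N.subtype, hs', ?_, hIc ▸ hI, ?_, ?_⟩
  · refine ⟨Subgroup.map_subtype_le _, hs.two.map _, fun P hP hUP hPN => ?_⟩
    have hle : U' ≤ P.subgroupOf N := fun u hu => Subgroup.mem_subgroupOf.mpr (hUP ⟨u, hu, rfl⟩)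
    have heq : P.subgroupOf N = U' := by
      refine le_antisymm ?_ hle
      refine le_of_eq (Subgroup.eq_of_le_of_card_ge hle ?_).symm
      obtain ⟨a, ha⟩ := IsPGroup.iff_card.mp (hP.comap_subtype (K := N))
      change Nat.card (P.subgroupOf N) = 2 ^ a at ha
      obtain ⟨b, hb⟩ := IsPGroup.iff_card.mp hs.two
      rw [ha, hb]
      refine Nat.pow_le_pow_right two_pos ?_
      by_contra hc
      refine hUi ((Nat.dvd_of_pow_dvd (k := a - b) (by omega) ?_))
      refine Nat.dvd_of_mul_dvd_mul_left (Nat.card_pos (α := U')) ?_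
      rw [Subgroup.card_mul_index, hb, ← pow_add, show b + (a - b) = a by omega, ← ha]
      exact Subgroup.card_subgroup_dvd_card _
    rw [← heq, Subgroup.subgroupOf_map_subtype, inf_of_le_left hPN]
  · rw [hIc, Subgroup.card_map_of_injective N.subtype_injective, hidx]
    rcases hopt with ⟨h1, h2⟩ | ⟨h1, h2⟩
    · exact Or.inl ⟨h1, Nat.mul_le_mul_right _ h2⟩
    · exact Or.inr ⟨h1, by rw [h2]⟩
  · intro y hy hyc
    obtain ⟨d, hd, hd1⟩ : ∃ d ∈ D, d ≠ 1 := by
      by_contra hc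
      push Not at hc
      exact hD1 ((Subgroup.eq_bot_iff_forall _).mpr hc)
    set C := (centralizer (D : Set G)).subgroupOf N with hC
    haveI hCn : C.Normal := by
      refine ⟨fun c hc n => Subgroup.mem_subgroupOf.mpr (mem_centralizer_iff.mpr fun a ha => ?_)⟩
      have ha' : (n : G)⁻¹ * a * n ∈ D := (mem_normalizer_iff''.mp n.2 a).mp ha
      have e := mem_centralizer_iff.mp (Subgroup.mem_subgroupOf.mp hc) _ ha'
      simp only [Subgroup.coe_mul, Subgroup.coe_inv]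
      calc a * ((n : G) * c * (n : G)⁻¹) = n * (((n : G)⁻¹ * a * n) * c) * (n : G)⁻¹ := by group
        _ = n * ((c : G) * ((n : G)⁻¹ * a * n)) * (n : G)⁻¹ := by rw [e]
        _ = _ := by group
    have hC2 : IsPGroup 2 C := IsPGroup.comap_subtype ((h.centralizer_two (y := d)
      (h.pow_four hD2 hd) hd1).to_le (centralizer_le (Set.singleton_subset_iff.mpr hd)))
    have hCle := Cfsg.Agent.Grp.le_pCore hCn hC2
    rw [hcore] at hCle
    exact Subgroup.mem_subgroupOf.mp (hCle (show (⟨y, hy⟩ : N) ∈ C from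
      Subgroup.mem_subgroupOf.mpr (mem_centralizer_iff.mpr fun a ha => (hyc a ha).symm)))

/-- A maximal intersection of two Sylow 2-subgroups is the 2-core of its normaliser. -/
theorem pCore_of_max_inter (h : Ord5 G) {S T : Sylow 2 G} (hne : S ≠ T)
    (hmax : ∀ S' T' : Sylow 2 G, S' ≠ T' →
      Nat.card ((S' : Subgroup G) ⊓ T' : Subgroup G) ≤ Nat.card ((S : Subgroup G) ⊓ T : Subgroup G)) :
    Cfsg.pCore 2 (normalizer (((S : Subgroup G) ⊓ T : Subgroup G) : Set G)) =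
        ((S : Subgroup G) ⊓ T).subgroupOf (normalizer (((S : Subgroup G) ⊓ T : Subgroup G) : Set G)) ∧
      ∃ x ∈ normalizer (((S : Subgroup G) ⊓ T : Subgroup G) : Set G), x ^ 4 = 1 ∧
        x ∉ ((S : Subgroup G) ⊓ T : Subgroup G) := by
  haveI := Fact.mk Nat.prime_two
  set D := (S : Subgroup G) ⊓ T with hD
  set N := normalizer (D : Set G) with hN
  have hlt : ∀ A B : Sylow 2 G, A ≠ B → (A : Subgroup G) ⊓ B < (A : Subgroup G) := fun A B hAB => by
    refine lt_of_le_of_ne inf_le_left fun e => hAB (Sylow.ext ?_)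
    have : (A : Subgroup G) ≤ B := e ▸ inf_le_right
    exact Subgroup.eq_of_le_of_card_ge this (by rw [A.card_eq_multiplicity, B.card_eq_multiplicity])
  obtain ⟨x, hxS, hxD, hxN⟩ := exists_normalizer_gt (p := 2) S.isPGroup' (hlt S T hne)
  obtain ⟨y, hyT, hyD, hyN⟩ := exists_normalizer_gt (p := 2) (H := D) T.isPGroup' (by
    rw [hD, inf_comm]; exact hlt T S hne.symm)
  refine ⟨le_antisymm ?_ (Cfsg.Agent.Grp.le_pCore Subgroup.normal_in_normalizer
    ((S.isPGroup'.to_le inf_le_left).comap_subtype)), x, hxN, h.pow_four S.isPGroup' hxS, hxD⟩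
  -- two Sylow subgroups of the normaliser
  have hDN : D ≤ N := le_normalizer
  obtain ⟨P1, hP1⟩ := (S.isPGroup'.comap_subtype (K := N) :
    IsPGroup 2 ((S : Subgroup G).subgroupOf N)).exists_le_sylow
  obtain ⟨P2, hP2⟩ := (T.isPGroup'.comap_subtype (K := N) :
    IsPGroup 2 ((T : Subgroup G).subgroupOf N)).exists_le_sylow
  obtain ⟨Q1, hQ1⟩ := (P1.isPGroup'.map N.subtype).exists_le_sylow
  obtain ⟨Q2, hQ2⟩ := (P2.isPGroup'.map N.subtype).exists_le_sylow
  have grow : ∀ (A Q : Sylow 2 G) (z : G), D ≤ (A : Subgroup G) → z ∈ (A : Subgroup G) → z ∉ D →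
      D ≤ (Q : Subgroup G) → z ∈ (Q : Subgroup G) → Q = A := by
    intro A Q z hDA hzA hzD hDQ hzQ
    by_contra hc
    have hle : D ⊔ zpowers z ≤ (Q : Subgroup G) ⊓ A :=
      sup_le (le_inf hDQ hDA) (zpowers_le.mpr ⟨hzQ, hzA⟩)
    have heq := Subgroup.eq_of_le_of_card_ge (le_sup_left : D ≤ D ⊔ zpowers z)
      ((Nat.le_of_dvd Nat.card_pos (Subgroup.card_dvd_of_le hle)).trans (hmax Q A hc))
    exact hzD (heq.ge (mem_sup_right (mem_zpowers z)))
  have hDQ1 : D ≤ (Q1 : Subgroup G) := fun d hd =>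
    hQ1 ⟨⟨d, hDN hd⟩, hP1 (Subgroup.mem_subgroupOf.mpr hd.1), rfl⟩
  have hDQ2 : D ≤ (Q2 : Subgroup G) := fun d hd =>
    hQ2 ⟨⟨d, hDN hd⟩, hP2 (Subgroup.mem_subgroupOf.mpr hd.2), rfl⟩
  have e1 : Q1 = S := grow S Q1 x inf_le_left hxS hxD hDQ1
    (hQ1 ⟨⟨x, hxN⟩, hP1 (Subgroup.mem_subgroupOf.mpr hxS), rfl⟩)
  have e2 : Q2 = T := grow T Q2 y inf_le_right hyT hyD hDQ2
    (hQ2 ⟨⟨y, hyN⟩, hP2 (Subgroup.mem_subgroupOf.mpr hyT), rfl⟩)
  intro o ho
  refine Subgroup.mem_subgroupOf.mpr ⟨?_, ?_⟩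
  · rw [← e1]
    exact hQ1 ⟨o, Cfsg.Agent.Grp.pCore_le_sylow P1 ho, rfl⟩
  · rw [← e2]
    exact hQ2 ⟨o, Cfsg.Agent.Grp.pCore_le_sylow P2 ho, rfl⟩

end Cfsg.Agent.Block.Spec5
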