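import Mathlib
import Cfsg.Agent.Lib.Block.Spec5.Config

/-!
The 2-subgroup of shape `DE` is a Sylow subgroup, and `D` is weakly closed in it.
-/

set_option autoImplicit false
set_option linter.unusedSectionVars false
set_option linter.style.haveILetI false

namespace Cfsg.Agent.Block.Spec5

open Subgroup

universe u

variable {G : Type u} [Group G] [Finite G]

/-- The configuration: `U` of shape `DE`, maximal in the normaliser of `D`. -/
structure Loc (U D E : Subgroup G) : Prop where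
  shape : Shape U D E
  maxN : MaxIn U (normalizer (D : Set G))
  two_le : 2 ≤ Nat.card (D ⊓ E : Subgroup G)
  selfC : ∀ y ∈ normalizer (D : Set G), (∀ d ∈ D, y * d = d * y) → y ∈ D
  eD : ¬ E ≤ D

variable {U D E : Subgroup G}

/-- Elementary subgroups of the order of `D`. -/
theorem Loc.image_cases (hl : Loc U D E) (hle : Nat.card E ≤ Nat.card D) {g : G}
    (hg : ∀ d ∈ D, g * d * g⁻¹ ∈ U) :
    g ∈ normalizer (D : Set G) ∨
      (Nat.card E = Nat.card D ∧ D.map (MulAut.conj g).toMonoidHom = E) := by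
  set A := D.map (MulAut.conj g).toMonoidHom with hA
  have hAU : A ≤ U := by
    rintro _ ⟨d, hd, rfl⟩
    exact hg d hd
  have hAsq : ∀ a ∈ A, a * a = 1 := by
    rintro _ ⟨d, hd, rfl⟩
    rw [← map_mul, hl.shape.dsq d hd, map_one]
  have hAc : Nat.card A = Nat.card D := Subgroup.card_map_of_injective (MulAut.conj g).injective
  rcases hl.shape.le_or_le hAU hAsq with e | e
  · left
    have heq : A = D := Subgroup.eq_of_le_of_card_ge e hAc.ge
    refine mem_normalizer_iff.mpr fun x => ⟨fun hx => heq.le ⟨x, hx, rfl⟩, fun hx => ?_⟩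
    obtain ⟨d, hd, hde⟩ := heq.ge hx
    have : d = x := (MulAut.conj g).injective hde
    exact this ▸ hd
  · right
    have hc : Nat.card E = Nat.card D :=
      le_antisymm hle (hAc ▸ Nat.le_of_dvd Nat.card_pos (Subgroup.card_dvd_of_le e))
    exact ⟨hc, Subgroup.eq_of_le_of_card_ge e (by rw [hAc, hc])⟩

/-- `U` is a Sylow 2-subgroup. -/
theorem Loc.sylow (h : Ord5 G) (hl : Loc U D E)
    (hcases : Nat.card E < Nat.card D ∨ (Nat.card E = Nat.card D ∧ 3 ≤ Nat.card (D ⊓ E : Subgroup G))) :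
    ∃ S : Sylow 2 G, (S : Subgroup G) = U := by
  classical
  haveI := Fact.mk Nat.prime_two
  have hle : Nat.card E ≤ Nat.card D := by rcases hcases with e | ⟨e, -⟩ <;> omega
  have hs := hl.shape
  obtain ⟨S, hS⟩ := hs.two.exists_le_sylow
  refine ⟨S, ?_⟩
  by_contra hne
  obtain ⟨x, hxS, hxU, hxn⟩ := exists_normalizer_gt (p := 2) S.isPGroup' (lt_of_le_of_ne hS (Ne.symm hne))
  have hS2 : ∀ y ∈ (S : Subgroup G), y ∈ normalizer (D : Set G) → y ∈ U := by
    intro y hy hyn
    rw [← hl.maxN.2.2 _ (S.isPGroup'.to_le inf_le_left) (le_inf hS hl.maxN.1) inf_le_right]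
    exact ⟨hy, hyn⟩
  have hxg : ∀ d ∈ D, x * d * x⁻¹ ∈ U := fun d hd => (mem_normalizer_iff.mp hxn d).mp (hs.dU hd)
  rcases hl.image_cases hle hxg with hD' | ⟨hc, hDE⟩
  · exact hxU (hS2 x hxS hD')
  have h3 : 3 ≤ Nat.card (D ⊓ E : Subgroup G) := by
    rcases hcases with e | ⟨-, e⟩
    · omega
    · exact e
  have hneDE : D ≠ E := fun e => hl.eD e.ge
  have hxE : ∀ d ∈ D, x * d * x⁻¹ ∈ E := fun d hd => hDE.le ⟨d, hd, rfl⟩
  have hED : ∀ e ∈ E, x * e * x⁻¹ ∈ D := by
    set B := E.map (MulAut.conj x).toMonoidHom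
    have hBU : B ≤ U := by
      rintro _ ⟨e, he, rfl⟩
      exact (mem_normalizer_iff.mp hxn e).mp (hs.eU he)
    have hBsq : ∀ b ∈ B, b * b = 1 := by
      rintro _ ⟨e, he, rfl⟩
      rw [← map_mul, hs.esq e he, map_one]
    have hBc : Nat.card B = Nat.card E := Subgroup.card_map_of_injective (MulAut.conj x).injective
    rcases hs.le_or_le hBU hBsq with e | e
    · exact fun a ha => e ⟨a, ha, rfl⟩
    · exfalso
      have : B = E := Subgroup.eq_of_le_of_card_ge e hBc.ge
      exact hneDE (Subgroup.map_injective (f := (MulAut.conj x).toMonoidHom) (MulAut.conj x).injective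
        (hDE.trans this.symm))
  have hx2U : x * x ∈ U := hS2 _ (mul_mem hxS hxS) (by
    refine mem_normalizer_iff.mpr fun a => ?_
    have h1 : ∀ d ∈ D, x * x * d * (x * x)⁻¹ ∈ D := fun d hd => by
      rw [show x * x * d * (x * x)⁻¹ = x * (x * d * x⁻¹) * x⁻¹ by group]
      exact hED _ (hxE d hd)
    refine ⟨h1 a, fun ha => ?_⟩
    have hm : D.map (MulAut.conj (x * x)).toMonoidHom = D :=
      Subgroup.eq_of_le_of_card_ge (by rintro _ ⟨d, hd, rfl⟩; exact h1 d hd)
        (Subgroup.card_map_of_injective (MulAut.conj (x * x)).injective).ge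
    obtain ⟨d, hd, hde⟩ := hm.ge ha
    exact ((MulAut.conj (x * x)).injective hde) ▸ hd)
  obtain ⟨d0, hd0, e0, he0, hd0e0⟩ := hs.gen _ hx2U
  -- `x d` squared
  have hxi : ∀ d ∈ D, x⁻¹ * d * x ∈ E := by
    intro d hd
    have hm : E.map (MulAut.conj x).toMonoidHom = D :=
      Subgroup.eq_of_le_of_card_ge (by rintro _ ⟨e, he, rfl⟩; exact hED e he)
        (by rw [Subgroup.card_map_of_injective (MulAut.conj x).injective, hc])
    obtain ⟨e, he, hee⟩ := hm.ge hd
    rw [← hee]
    show x⁻¹ * (x * e * x⁻¹) * x ∈ E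
    simpa [mul_assoc] using he
  set I := D ⊓ E with hI
  have hcov : ∀ d ∈ D, x⁻¹ * d * x * e0⁻¹ ∈ I ∨ d * d0⁻¹ ∈ I := by
    intro d hd
    set e := x⁻¹ * d * x with he
    have heE : e ∈ E := hxi d hd
    have hu : x * d * (x * d) ∈ U := by
      rw [show x * d * (x * d) = (x * x) * e * d by rw [he]; group]
      exact mul_mem (mul_mem hx2U (hs.eU heE)) (hs.dU hd)
    have huu : x * d * (x * d) * (x * d * (x * d)) = 1 := by
      have h4 : (x * d) ^ 4 = 1 := h.pow_four S.isPGroup' (mul_mem hxS (hS (hs.dU hd)))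
      rw [← h4]; simp only [pow_succ, pow_zero, one_mul, mul_assoc]
    have hform : x * d * (x * d) = d0 * (e0 * e) * d := by
      rw [show x * d * (x * d) = (x * x) * e * d by rw [he]; group, hd0e0]; group
    have hee : e0 * e ∈ E := mul_mem he0 heE
    rcases hs.inv _ hu huu with hm | hm <;> rw [hform] at hm
    · left
      have : e0 * e ∈ D := by
        have := mul_mem (mul_mem (inv_mem hd0) hm) (inv_mem hd)
        simpa [mul_assoc] using this
      rw [inv_eq_of_mul_eq_one_left (hs.esq e0 he0), comm_of_sq hs.esq e heE e0 he0]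
      exact ⟨this, hee⟩
    · right
      have h2 : d⁻¹ * (e0 * e) * d ∈ E := (mem_normalizer_iff''.mp (hs.enorm (hs.dU hd)) _).mp hee
      have h3 : d0 * d ∈ E := by
        have := mul_mem hm (inv_mem h2)
        rw [show d0 * (e0 * e) * d * (d⁻¹ * (e0 * e) * d)⁻¹ = d0 * d by group] at this
        exact this
      rw [inv_eq_of_mul_eq_one_left (hs.dsq d0 hd0), comm_of_sq hs.dsq d hd d0 hd0]
      exact ⟨mul_mem hd0 hd, h3⟩
  -- too few elements
  let f : D → I ⊕ I := fun d =>
    if hd : x⁻¹ * (d : G) * x * e0⁻¹ ∈ I then Sum.inl ⟨_, hd⟩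
    else Sum.inr ⟨(d : G) * d0⁻¹, (hcov d d.2).resolve_left hd⟩
  have hf : Function.Injective f := by
    intro a b hab
    simp only [f] at hab
    split_ifs at hab with h1 h2 h2
    · have e := congrArg Subtype.val (Sum.inl_injective hab)
      exact Subtype.ext (mul_left_cancel (mul_right_cancel (mul_right_cancel e)))
    · exact Subtype.ext (mul_right_cancel (congrArg Subtype.val (Sum.inr_injective hab)))
  have := Nat.card_le_card_of_injective f hf
  rw [Nat.card_sum, hs.card, ← hI] at this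
  have h4 : 3 * Nat.card I ≤ Nat.card I ^ 2 := by rw [pow_two]; exact Nat.mul_le_mul_right _ h3
  omega

/-- `D` is weakly closed in `U`. -/
theorem Loc.weakly_closed (h : Ord5 G) (hl : Loc U D E) (hle : Nat.card E ≤ Nat.card D)
    {S : Sylow 2 G} (hS : (S : Subgroup G) = U) {g : G} (hg : ∀ d ∈ D, g * d * g⁻¹ ∈ U) :
    g ∈ normalizer (D : Set G) := by
  haveI := Fact.mk Nat.prime_two
  have hs := hl.shape
  refine (hl.image_cases hle hg).resolve_right fun ⟨hc, hDE⟩ => ?_
  have hneDE : D ≠ E := fun e => hl.eD e.ge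
  -- move `U` by an element of the normaliser of `E`
  have hgU : U.map (MulAut.conj g).toMonoidHom ≤ normalizer (E : Set G) := by
    rintro _ ⟨u, hu, rfl⟩
    refine mem_normalizer_iff.mpr fun a => ?_
    have h1 : ∀ u ∈ U, ∀ a ∈ E, g * u * g⁻¹ * a * (g * u * g⁻¹)⁻¹ ∈ E := by
      intro u hu a ha
      obtain ⟨d, hd, rfl⟩ := hDE.ge ha
      exact hDE.le ⟨u * d * u⁻¹, (mem_normalizer_iff.mp (hs.dnorm hu) d).mp hd, by
        show g * (u * d * u⁻¹) * g⁻¹ = g * u * g⁻¹ * (g * d * g⁻¹) * (g * u * g⁻¹)⁻¹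
        group⟩
    refine ⟨fun ha => h1 u hu a ha, fun ha => ?_⟩
    have := h1 u⁻¹ (inv_mem hu) _ ha
    simp only [MulEquiv.coe_toMonoidHom, MulAut.conj_apply] at this
    simpa [mul_assoc] using this
  have hmax : MaxIn U (normalizer (E : Set G)) := by
    refine ⟨hs.enorm, hs.two, fun P hP hUP _ => ?_⟩
    rw [← hS] at hUP ⊢
    exact S.is_maximal' hP hUP
  have hmax2 : MaxIn (U.map (MulAut.conj g).toMonoidHom) (normalizer (E : Set G)) := by
    refine ⟨hgU, hs.two.map _, fun P hP hUP _ => (Subgroup.eq_of_le_of_card_ge hUP ?_).symm⟩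
    rw [Subgroup.card_map_of_injective (MulAut.conj g).injective]
    obtain ⟨T, hT⟩ := hP.exists_le_sylow
    calc Nat.card P ≤ Nat.card (T : Subgroup G) := Nat.le_of_dvd Nat.card_pos (Subgroup.card_dvd_of_le hT)
      _ = Nat.card U := by rw [← hS, T.card_eq_multiplicity, S.card_eq_multiplicity]
  obtain ⟨P, hP⟩ := hmax.exists_sylow
  obtain ⟨Q, hQ⟩ := hmax2.exists_sylow
  obtain ⟨m, hm⟩ := MulAction.exists_smul_eq (normalizer (E : Set G)) Q P
  set n := (m : G) * g with hn
  have hnU : ∀ u ∈ U, n * u * n⁻¹ ∈ U := by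
    intro u hu
    obtain ⟨q, hq, hqe⟩ := hQ.ge (show g * u * g⁻¹ ∈ U.map (MulAut.conj g).toMonoidHom from ⟨u, hu, rfl⟩)
    rw [← hP]
    refine ⟨m * q * m⁻¹, ?_, ?_⟩
    · rw [← hm, Sylow.coe_subgroup_smul]
      exact Subgroup.smul_mem_pointwise_smul _ (MulAut.conj m) _ hq
    · simp only [Subgroup.coe_subtype, Subgroup.coe_mul, Subgroup.coe_inv] at hqe ⊢
      rw [hqe, hn]; group
  have hnD : ∀ d ∈ D, n * d * n⁻¹ ∈ E := fun d hd => by
    rw [show n * d * n⁻¹ = (m : G) * (g * d * g⁻¹) * (m : G)⁻¹ by rw [hn]; group]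
    exact (mem_normalizer_iff.mp m.2 _).mp (hDE.le ⟨d, hd, rfl⟩)
  have hnE : ∀ e ∈ E, n * e * n⁻¹ ∈ D := by
    set B := E.map (MulAut.conj n).toMonoidHom
    have hBU : B ≤ U := by
      rintro _ ⟨e, he, rfl⟩
      exact hnU e (hs.eU he)
    have hBsq : ∀ b ∈ B, b * b = 1 := by
      rintro _ ⟨e, he, rfl⟩
      rw [← map_mul, hs.esq e he, map_one]
    have hBc : Nat.card B = Nat.card E := Subgroup.card_map_of_injective (MulAut.conj n).injective
    rcases hs.le_or_le hBU hBsq with e | e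
    · exact fun a ha => e ⟨a, ha, rfl⟩
    · exfalso
      have e1 : B = E := Subgroup.eq_of_le_of_card_ge e hBc.ge
      have e2 : D.map (MulAut.conj n).toMonoidHom = E :=
        Subgroup.eq_of_le_of_card_ge (by rintro _ ⟨d, hd, rfl⟩; exact hnD d hd)
          (by rw [Subgroup.card_map_of_injective (MulAut.conj n).injective, hc])
      exact hneDE (Subgroup.map_injective (f := (MulAut.conj n).toMonoidHom) (MulAut.conj n).injective
        (e2.trans e1.symm))
  have hfalse : ∀ k : ℕ, n ^ (2 * k + 1) = 1 → False := by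
    intro k hk
    have hev : ∀ j : ℕ, ∀ d ∈ D, n ^ (2 * j) * d * (n ^ (2 * j))⁻¹ ∈ D := by
      intro j
      induction j with
      | zero => intro d hd; simpa using hd
      | succ j ih =>
        intro d hd
        rw [show 2 * (j + 1) = 1 + (1 + 2 * j) by ring, pow_add, pow_add, pow_one,
          show n * (n * n ^ (2 * j)) * d * (n * (n * n ^ (2 * j)))⁻¹ =
            n * (n * (n ^ (2 * j) * d * (n ^ (2 * j))⁻¹) * n⁻¹) * n⁻¹ by group]
        exact hnE _ (hnD _ (ih d hd))
    refine hneDE (Subgroup.eq_of_le_of_card_ge (fun d hd => ?_) hc.le)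
    have h2 := hnD _ (hev k d hd)
    rwa [show n * (n ^ (2 * k) * d * (n ^ (2 * k))⁻¹) * n⁻¹ =
        n ^ (2 * k + 1) * d * (n ^ (2 * k + 1))⁻¹ by rw [pow_succ']; group, hk, one_mul, inv_one, mul_one]
      at h2
  rcases h.pow_cases n with e | e | e
  · have hnn : n ∈ U := by
      have hmem : n ∈ normalizer (U : Set G) := by
        have hm' : U.map (MulAut.conj n).toMonoidHom = U :=
          Subgroup.eq_of_le_of_card_ge (by rintro _ ⟨u, hu, rfl⟩; exact hnU u hu)
            (Subgroup.card_map_of_injective (MulAut.conj n).injective).ge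
        refine mem_normalizer_iff.mpr fun a => ⟨fun ha => hnU a ha, fun ha => ?_⟩
        obtain ⟨u, hu, hue⟩ := hm'.ge ha
        exact ((MulAut.conj n).injective hue) ▸ hu
      have hyp : IsPGroup 2 (zpowers n) := fun ⟨a, ha⟩ => by
        obtain ⟨k, rfl⟩ := mem_zpowers_iff.mp ha
        refine ⟨2, Subtype.ext ?_⟩
        show (n ^ k) ^ 4 = 1
        rw [← zpow_natCast, ← zpow_mul, mul_comm, zpow_mul, zpow_natCast, e, one_zpow]
      have hj : IsPGroup 2 (zpowers n ⊔ U : Subgroup G) :=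
        hyp.to_sup_of_normal_right' hs.two (zpowers_le.mpr hmem)
      have := S.is_maximal' hj (hS ▸ le_sup_right)
      rw [hS] at this
      exact this.le (mem_sup_left (mem_zpowers n))
    refine hneDE (Subgroup.eq_of_le_of_card_ge (fun d hd => ?_) hc.le)
    have hd' : n⁻¹ * d * n ∈ D := (mem_normalizer_iff''.mp (hs.dnorm hnn) d).mp hd
    have := hnD _ hd'
    rwa [show n * (n⁻¹ * d * n) * n⁻¹ = d by group] at this
  · exact hfalse 1 e
  · exact hfalse 2 e

end Cfsg.Agent.Block.Spec5
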