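import Mathlib
import Cfsg.Agent.Lib.Block.Spec5.SylowTop

/-!
Fusion of involutions when `D` is weakly closed.
-/

set_option autoImplicit false
set_option linter.unusedSectionVars false
set_option linter.style.haveILetI false

namespace Cfsg.Agent.Block.Spec5

open Subgroup

universe u

variable {G : Type u} [Group G] [Finite G] {U D E : Subgroup G}

theorem card_centralizer_conj (g x : G) :
    Nat.card (centralizer ({g * x * g⁻¹} : Set G)) = Nat.card (centralizer ({x} : Set G)) := by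
  refine Nat.card_congr
    { toFun := fun c => ⟨g⁻¹ * c * g, ?_⟩
      invFun := fun c => ⟨g * c * g⁻¹, ?_⟩
      left_inv := fun c => Subtype.ext (by simp only; group)
      right_inv := fun c => Subtype.ext (by simp only; group) }
  · rw [mem_centralizer_singleton_iff]
    have e := mem_centralizer_singleton_iff.mp c.2
    calc g⁻¹ * (c : G) * g * x = g⁻¹ * ((c : G) * (g * x * g⁻¹)) * g := by group
      _ = x * (g⁻¹ * c * g) := by rw [e]; group
  · rw [mem_centralizer_singleton_iff]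
    have e := mem_centralizer_singleton_iff.mp c.2
    calc g * (c : G) * g⁻¹ * (g * x * g⁻¹) = g * ((c : G) * x) * g⁻¹ := by group
      _ = g * x * g⁻¹ * (g * c * g⁻¹) := by rw [e]; group

/-- Conjugates of `D` are trivial-intersection. -/
theorem Loc.ti (h : Ord5 G) (hl : Loc U D E) {S : Sylow 2 G} (hS : (S : Subgroup G) = U)
    (hwc : ∀ g : G, (∀ d ∈ D, g * d * g⁻¹ ∈ U) → g ∈ normalizer (D : Set G))
    {g d : G} (hd : d ∈ D) (hd1 : d ≠ 1) (hgd : g * d * g⁻¹ ∈ D) : g ∈ normalizer (D : Set G) := by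
  haveI := Fact.mk Nat.prime_two
  have hs := hl.shape
  set e := g * d * g⁻¹ with he
  have he1 : e ≠ 1 := fun h1 => hd1 (by rwa [he, mul_inv_eq_one, mul_eq_left] at h1)
  have hC := h.centralizer_two (y := e) (h.pow_four (hs.two.to_le hs.dU) hgd) he1
  obtain ⟨Q, hQ⟩ := hC.exists_le_sylow
  obtain ⟨a, ha⟩ := MulAction.exists_smul_eq G Q S
  have hmem : ∀ c : G, c * e = e * c → a * c * a⁻¹ ∈ U := by
    intro c hc
    rw [← hS, ← ha, Sylow.coe_subgroup_smul]
    exact Subgroup.smul_mem_pointwise_smul c (MulAut.conj a) _ (hQ (mem_centralizer_singleton_iff.mpr hc))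
  have h1 : a ∈ normalizer (D : Set G) :=
    hwc a fun x hx => hmem x (comm_of_sq hs.dsq x hx e hgd)
  have h2 : a * g ∈ normalizer (D : Set G) := by
    refine hwc (a * g) fun x hx => ?_
    rw [show a * g * x * (a * g)⁻¹ = a * (g * x * g⁻¹) * a⁻¹ by group]
    refine hmem _ ?_
    rw [he]
    calc g * x * g⁻¹ * (g * d * g⁻¹) = g * (x * d) * g⁻¹ := by group
      _ = g * (d * x) * g⁻¹ := by rw [comm_of_sq hs.dsq x hx d hd]
      _ = _ := by group
  have := mul_mem (inv_mem h1) h2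
  rwa [inv_mul_cancel_left] at this

/-- If outer involutions have small centralisers, the group is not simple. -/
theorem Loc.alpha_false (h : Ord5 G) (hl : Loc U D E) (hproper : normalizer (D : Set G) ≠ ⊤)
    (hti : ∀ g d : G, d ∈ D → d ≠ 1 → g * d * g⁻¹ ∈ D → g ∈ normalizer (D : Set G))
    (hcE : ∀ e ∈ E, e ∉ D → centralizer ({e} : Set G) = E)
    (hbig : ∀ d ∈ D, d ≠ 1 → Nat.card E < Nat.card (centralizer ({d} : Set G))) : False := by
  have hs := hl.shape
  obtain ⟨g, hg⟩ : ∃ g : G, g ∉ normalizer (D : Set G) := by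
    by_contra hc
    push Not at hc
    exact hproper ((Subgroup.eq_top_iff' _).mpr hc)
  obtain ⟨t, htE, htD⟩ := SetLike.not_le_iff_exists.mp hl.eD
  obtain ⟨d, hdI, hd1⟩ : ∃ d ∈ D, d ≠ 1 := by
    by_contra hc
    push Not at hc
    have := hl.two_le
    rw [(Subgroup.eq_bot_iff_forall (D ⊓ E)).mpr fun x hx => hc x hx.1, Subgroup.card_bot] at this
    omega
  set d' := g * d * g⁻¹ with hd'
  have hd'D : d' ∉ D := fun hm => hg (hti g d hdI hd1 hm)
  have hd'2 : d' * d' = 1 := by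
    rw [hd', show g * d * g⁻¹ * (g * d * g⁻¹) = g * (d * d) * g⁻¹ by group, hs.dsq d hdI]; group
  have hd'C : Nat.card E < Nat.card (centralizer ({d'} : Set G)) := by
    rw [hd', card_centralizer_conj]; exact hbig d hdI hd1
  -- `d'` does not commute with an outer involution
  have hout : ∀ w ∈ E, w ∉ D → d' * w ≠ w * d' := by
    intro w hwE hwD hc
    have hm : d' ∈ E := hcE w hwE hwD ▸ mem_centralizer_singleton_iff.mpr hc
    rw [hcE d' hm hd'D] at hd'C
    exact lt_irrefl _ hd'C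
  rcases conj_or_central h (hs.esq t htE) hd'2 with ⟨a, ha⟩ | hc | ⟨w, hw2, hw1, htw, hdw⟩
  · rw [← ha, card_centralizer_conj, hcE t htE htD] at hd'C
    exact lt_irrefl _ hd'C
  · exact hout t htE htD hc.symm
  · have hwE : w ∈ E := hcE t htE htD ▸ mem_centralizer_singleton_iff.mpr htw.symm
    by_cases hwD : w ∈ D
    · have hN : d' ∈ normalizer (D : Set G) :=
        hti d' w hwD hw1 (by rw [hdw, mul_inv_cancel_right]; exact hwD)
      obtain ⟨m, hm, hmU⟩ := hl.maxN.exists_conj hN hd'2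
      have hu2 : m * d' * m⁻¹ * (m * d' * m⁻¹) = 1 := by
        rw [show m * d' * m⁻¹ * (m * d' * m⁻¹) = m * (d' * d') * m⁻¹ by group, hd'2]; group
      have hnotD : m * d' * m⁻¹ ∉ D := fun hmD => hd'D ((mem_normalizer_iff.mp hm d').mpr hmD)
      have huE := (hs.inv _ hmU hu2).resolve_left hnotD
      rw [← card_centralizer_conj m d', hcE _ huE hnotD] at hd'C
      exact lt_irrefl _ hd'C
    · exact hout w hwE hwD hdw

/-- An outer involution with a large centraliser makes `E` the 2-core of its normaliser. -/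
theorem Loc.beta (h : Ord5 G) (hl : Loc U D E) {S : Sylow 2 G} (hS : (S : Subgroup G) = U)
    {e : G} (he : e ∈ E) (heD : e ∉ D) (hC : centralizer ({e} : Set G) ≠ E) :
    Cfsg.pCore 2 (normalizer (E : Set G)) = E.subgroupOf (normalizer (E : Set G)) ∧
      MaxIn U (normalizer (E : Set G)) ∧ Nat.card E = Nat.card D := by
  haveI := Fact.mk Nat.prime_two
  have hs := hl.shape
  have he1 : e ≠ 1 := fun e0 => heD (e0 ▸ one_mem D)
  have hC2 := h.centralizer_involution (orderOf_eq_two (hs.esq e he) he1)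
  have hEC : E ≤ centralizer ({e} : Set G) := fun x hx =>
    mem_centralizer_singleton_iff.mpr (comm_of_sq hs.esq x hx e he)
  obtain ⟨x, hxC, hxE, hxn⟩ := exists_normalizer_gt (p := 2) hC2 (lt_of_le_of_ne hEC (Ne.symm hC))
  set M := normalizer (E : Set G) with hM
  have hmax : MaxIn U M := ⟨hs.enorm, hs.two, fun P hP hUP _ => by
    rw [← hS] at hUP ⊢
    exact S.is_maximal' hP hUP⟩
  have hEM : E ≤ M := le_normalizer
  set O := Cfsg.pCore 2 M with hO
  haveI hOn : O.Normal := Cfsg.Agent.Grp.pCore_isNormal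
  have hO2 : IsPGroup 2 O := Cfsg.Agent.Grp.pCore_isPGroup
  have hEO : E.subgroupOf M ≤ O := Cfsg.Agent.Grp.le_pCore Subgroup.normal_in_normalizer
    ((hs.two.to_le hs.eU).comap_subtype)
  obtain ⟨P, hP⟩ := hmax.exists_sylow
  have hOP : O ≤ (P : Subgroup M) := Cfsg.Agent.Grp.pCore_le_sylow P
  have hOU : O.map M.subtype ≤ U := hP ▸ Subgroup.map_mono hOP
  have hxU : x ∉ U := fun hxU => hxE (hs.cent_e he heD ▸ ⟨hxU, hxC⟩)
  have hxO : (⟨x, hxn⟩ : M) ∉ O := fun hm => hxU (hOU ⟨_, hm, rfl⟩)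
  -- the quotient has even order
  have hev : 2 ∣ Nat.card (M ⧸ O) := by
    have hne : ((⟨x, hxn⟩ : M) : M ⧸ O) ≠ 1 := fun e0 => hxO ((QuotientGroup.eq_one_iff _).mp e0)
    obtain ⟨a, -, ha⟩ := (Nat.dvd_prime_pow Nat.prime_two).mp (orderOf_dvd_of_pow_eq_one
      (show ((⟨x, hxn⟩ : M) : M ⧸ O) ^ (2 ^ 2) = 1 by
        rw [← QuotientGroup.mk_pow,
          show (⟨x, hxn⟩ : M) ^ (2 ^ 2) = 1 from Subtype.ext (h.pow_four hC2 hxC), QuotientGroup.mk_one]))
    have ha0 : a ≠ 0 := fun e0 => hne (orderOf_eq_one_iff.mp (by rw [ha, e0, pow_zero]))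
    exact ((dvd_pow_self 2 ha0).trans (ha ▸ orderOf_dvd_natCard _))
  obtain ⟨xb, hxb⟩ := exists_prime_orderOf_dvd_card' 2 hev
  obtain ⟨p, k, t, hp, -⟩ := exists_lift_of_quot (h.subgroup M) O rfl hxb
  have hnn : ∀ y : M, y ∈ normalizer (O : Set M) := fun y => by
    rw [Subgroup.normalizer_eq_top]; exact Subgroup.mem_top y
  obtain ⟨hOsq, -, -, -⟩ := elem_of_invPair (h.subgroup M) hO2 hp (hnn k) (hnn t)
  have hO'sq : ∀ a ∈ O.map M.subtype, a * a = 1 := by
    rintro _ ⟨a, ha, rfl⟩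
    rw [← map_mul, hOsq a ha, map_one]
  have hEO' : E ≤ O.map M.subtype := fun a ha =>
    ⟨⟨a, hEM ha⟩, hEO (Subgroup.mem_subgroupOf.mpr ha), rfl⟩
  have hOE : O.map M.subtype ≤ E := by
    rcases hs.le_or_le hOU hO'sq with e0 | e0
    · exact absurd (hEO'.trans e0) hl.eD
    · exact e0
  have hcore : O = E.subgroupOf M :=
    le_antisymm (fun a ha => Subgroup.mem_subgroupOf.mpr (hOE ⟨a, ha, rfl⟩)) hEO
  refine ⟨hcore, hmax, ?_⟩
  -- an element of `D` outside `E`
  obtain ⟨d, hdD, hdE⟩ : ∃ d ∈ D, d ∉ E := by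
    by_contra hc
    push Not at hc
    have h1 := hs.card
    rw [inf_of_le_left hc] at h1
    have h2 := hl.two_le
    rw [inf_of_le_left hc] at h2
    nlinarith
  haveI hEn : (E.subgroupOf M).Normal := Subgroup.normal_in_normalizer
  obtain ⟨-, hcard⟩ := invPair_of_outer (h.subgroup M) (E.subgroupOf M) (hcore ▸ hO2) hcore
    (e := ⟨d, hs.enorm (hs.dU hdD)⟩) (Subtype.ext (hs.dsq d hdD)) (fun hm => hdE (Subgroup.mem_subgroupOf.mp hm))
  rw [Nat.card_congr (Subgroup.subgroupOfEquivOfLe hEM).toEquiv] at hcard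
  rw [← hcard, hs.card]
  congr 1
  refine Nat.card_congr
    { toFun := fun a => ⟨((a : M) : G), ?_, Subgroup.mem_subgroupOf.mp a.2.1⟩
      invFun := fun a => ⟨⟨(a : G), hEM a.2.2⟩, Subgroup.mem_subgroupOf.mpr a.2.2,
        mem_centralizer_singleton_iff.mpr (Subtype.ext (comm_of_sq hs.dsq _ a.2.1 d hdD))⟩
      left_inv := fun a => rfl
      right_inv := fun a => rfl }
  have ha : ((a : M) : G) * d = d * ((a : M) : G) :=
    congrArg Subtype.val (mem_centralizer_singleton_iff.mp a.2.2)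
  refine (hs.cent_d hdD hdE).le ?_
  exact ⟨hs.eU (Subgroup.mem_subgroupOf.mp a.2.1), mem_centralizer_singleton_iff.mpr ha⟩

end Cfsg.Agent.Block.Spec5
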