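import Mathlib
import Cfsg.Agent.Lib.Block.Spec5.Fusion
import Cfsg.Agent.Lib.Block.Spec5.Count

/-!
The case of two elementary abelian subgroups of order sixteen in a Sylow 2-subgroup of order 64.
-/

set_option autoImplicit false
set_option linter.unusedSectionVars false
set_option linter.style.haveILetI false

namespace Cfsg.Agent.Block.Spec5

open Subgroup

universe u

variable {G : Type u} [Group G] [Finite G] {U D E : Subgroup G}

theorem Shape.inter_central (hs : Shape U D E) {z : G} (hz : z ∈ D ⊓ E) :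
    ∀ u ∈ U, u * z = z * u := by
  intro u hu
  obtain ⟨d, hd, e, he, rfl⟩ := hs.gen u hu
  calc d * e * z = d * (e * z) := mul_assoc _ _ _
    _ = (d * z) * e := by rw [comm_of_sq hs.esq e he z hz.2, mul_assoc]
    _ = z * (d * e) := by rw [comm_of_sq hs.dsq d hd z hz.1, mul_assoc]

/-- The number of pairs of involutions of a given square of product. -/
theorem Shape.pairs_card (h : Ord5 G) (hs : Shape U D E) (hE16 : Nat.card E = 16) (hD16 : Nat.card D = 16)
    (hI4 : Nat.card (D ⊓ E : Subgroup G) = 4) {z : G} (hz : z ∈ D ⊓ E) (hz1 : z ≠ 1)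
    (hCz : centralizer ({z} : Set G) = U) :
    Nat.card {i : Inv2 G // (i : G) * z = z * i} = 27 ∧
      Nat.card {ij : Inv2 G × Inv2 G // ((ij.1 : G) * ij.2) * (ij.1 * ij.2) = z} = 96 := by
  classical
  set I := D ⊓ E with hI
  have hinv : ∀ i : G, i * z = z * i → i * i = 1 → i ∈ D ∨ i ∈ E := fun i hi hii =>
    hs.inv i (hCz ▸ mem_centralizer_singleton_iff.mpr hi) hii
  have hzU : z ∈ U := hs.dU hz.1
  have hcU : ∀ u ∈ U, u * z = z * u := hs.inter_central hz
  have mkInv : ∀ x : G, x * x = 1 → x ≠ 1 → orderOf x = 2 := fun x h1 h2 => orderOf_eq_two h1 h2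
  constructor
  · -- the involutions of `U`
    let Sd : Finset G := (D : Set G).toFinite.toFinset
    let Se : Finset G := (E : Set G).toFinite.toFinset
    have hd : Sd.card = 16 := by
      rw [← Set.ncard_eq_toFinset_card, ← Nat.card_coe_set_eq]; exact hD16
    have he : Se.card = 16 := by
      rw [← Set.ncard_eq_toFinset_card, ← Nat.card_coe_set_eq]; exact hE16
    have hi : (Sd ∩ Se).card = 4 := by
      rw [← hI4, ← SetLike.coe_sort_coe, Nat.card_coe_set_eq, Set.ncard_eq_toFinset_card]
      congr 1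
      ext x
      simp [Sd, Se, I, Subgroup.mem_inf]
    have hu := Finset.card_union_add_card_inter Sd Se
    have hcard : ((Sd ∪ Se).erase 1).card = 27 := by
      rw [Finset.card_erase_of_mem (by simp [Sd, one_mem])]
      omega
    rw [← hcard, ← Nat.card_eq_finsetCard]
    refine Nat.card_congr
      { toFun := fun i => ⟨(i.1 : G), ?_⟩
        invFun := fun x => ⟨⟨(x : G), ?_⟩, ?_⟩
        left_inv := fun i => rfl
        right_inv := fun x => rfl }
    · rw [Finset.mem_erase]
      refine ⟨Invol.ne_one_of_orderOf_two i.1.2, ?_⟩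
      rcases hinv _ i.2 (inv2_sq i.1) with e | e <;> simp [Sd, Se, e]
    · have hx := x.2
      rw [Finset.mem_erase, Finset.mem_union] at hx
      simp only [Sd, Se, Set.Finite.mem_toFinset, SetLike.mem_coe] at hx
      exact mkInv _ (hx.2.elim (hs.dsq _) (hs.esq _)) hx.1
    · have hx := x.2
      rw [Finset.mem_erase, Finset.mem_union] at hx
      simp only [Sd, Se, Set.Finite.mem_toFinset, SetLike.mem_coe] at hx
      exact hcU _ (hx.2.elim (fun e => hs.dU e) (fun e => hs.eU e))
  -- the pairs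
  have hzi : z⁻¹ = z := inv_eq_of_mul_eq_one_left (hs.dsq z hz.1)
  -- the four partners of an element of `D` outside `E`
  have hfib : ∀ i : {i : G // i ∈ D ∧ i ∉ E}, Nat.card {j : E // (i : G) * j * (i * j) = z} = 4 := by
    rintro ⟨i, hiD, hiE⟩
    have hii := hs.dsq i hiD
    have hiinv : i⁻¹ = i := inv_eq_of_mul_eq_one_left hii
    have hiN := hs.enorm (hs.dU hiD)
    let f : E →* G :=
      { toFun := fun j => i * j * (i * j)
        map_one' := by simp [hii]
        map_mul' := fun a b => by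
          have hia : i * (a : G) * i ∈ E := by
            have := (mem_normalizer_iff.mp hiN a).mp a.2
            rwa [hiinv] at this
          have hib : i * (b : G) * i ∈ E := by
            have := (mem_normalizer_iff.mp hiN b).mp b.2
            rwa [hiinv] at this
          show i * ((a : G) * b) * (i * (a * b)) = i * a * (i * a) * (i * b * (i * b))
          calc i * ((a : G) * b) * (i * (a * b)) = (i * a * i) * (i * b * i) * (a * b) := by
                rw [show (i * (a : G) * i) * (i * b * i) = i * a * (i * i) * b * i by group, hii, mul_one]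
                group
            _ = (i * a * i) * ((i * b * i) * a) * b := by group
            _ = (i * a * i) * ((a : G) * (i * b * i)) * b := by rw [comm_of_sq hs.esq _ hib a a.2]
            _ = _ := by group }
    have hker : f.ker = I.subgroupOf E := by
      ext j
      rw [MonoidHom.mem_ker, Subgroup.mem_subgroupOf]
      show i * (j : G) * (i * j) = 1 ↔ _
      constructor
      · intro e
        have hc : i * (j : G) = j * i := by
          rw [eq_inv_of_mul_eq_one_left e, mul_inv_rev, hiinv,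
            inv_eq_of_mul_eq_one_left (hs.esq _ j.2)]
        exact ⟨(hs.cent i hiD j j.2 hc).resolve_left hiE, j.2⟩
      · intro hj
        rw [show i * (j : G) * (i * j) = i * (j * i) * j by group, comm_of_sq hs.dsq _ hj.1 i hiD,
          show i * (i * (j : G)) * j = (i * i) * (j * j) by group, hii, hs.esq _ j.2, one_mul]
    have hran : f.range = I := by
      refine Subgroup.eq_of_le_of_card_ge ?_ ?_
      · rintro _ ⟨j, rfl⟩
        show i * (j : G) * (i * j) ∈ I
        refine ⟨?_, ?_⟩
        · have h1 : (j : G) * i * (j : G)⁻¹ ∈ D := (mem_normalizer_iff.mp (hs.dnorm (hs.eU j.2)) i).mp hiD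
          rw [inv_eq_of_mul_eq_one_left (hs.esq _ j.2)] at h1
          rw [show i * (j : G) * (i * j) = i * (j * i * j) by group]
          exact mul_mem hiD h1
        · have h1 := (mem_normalizer_iff.mp hiN (j : G)).mp j.2
          rw [hiinv] at h1
          rw [show i * (j : G) * (i * j) = (i * j * i) * j by group]
          exact mul_mem h1 j.2
      · have e := Subgroup.card_eq_card_quotient_mul_card_subgroup f.ker
        rw [Nat.card_congr (QuotientGroup.quotientKerEquivRange f).toEquiv, hker,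
          Nat.card_congr (Subgroup.subgroupOfEquivOfLe (inf_le_right : I ≤ E)).toEquiv, hI4, hE16] at e
        omega
    obtain ⟨j0, hj0⟩ : z ∈ f.range := hran ▸ hz
    calc Nat.card {j : E // i * (j : G) * (i * j) = z} = Nat.card f.ker := Nat.card_congr
          { toFun := fun j => ⟨j0⁻¹ * j.1, by
              rw [MonoidHom.mem_ker, map_mul, map_inv, hj0, show f j.1 = z from j.2, inv_mul_cancel]⟩
            invFun := fun k => ⟨j0 * k.1, by
              show f (j0 * k.1) = z
              rw [map_mul, MonoidHom.mem_ker.mp k.2, mul_one, hj0]⟩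
            left_inv := fun j => Subtype.ext (mul_inv_cancel_left _ _)
            right_inv := fun k => Subtype.ext (inv_mul_cancel_left _ _) }
      _ = 4 := by rw [hker, Nat.card_congr (Subgroup.subgroupOfEquivOfLe (inf_le_right : I ≤ E)).toEquiv, hI4]
  have hsum : Nat.card (Σ i : {i : G // i ∈ D ∧ i ∉ E}, {j : E // (i : G) * j * (i * j) = z}) = 48 := by
    haveI : Fintype {i : G // i ∈ D ∧ i ∉ E} := Fintype.ofFinite _
    rw [Nat.card_sigma, Finset.sum_congr rfl fun i _ => hfib i, Finset.sum_const, smul_eq_mul,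
      Finset.card_univ, ← Nat.card_eq_fintype_card]
    have : Nat.card {i : G // i ∈ D ∧ i ∉ E} = 12 := by
      have h1 : (((D : Set G) \ (E : Set G)).ncard) + ((D : Set G) ∩ E).ncard = (D : Set G).ncard :=
        (Nat.add_comm _ _).trans (Set.ncard_inter_add_ncard_sdiff_eq_ncard (D : Set G) (E : Set G) (Set.toFinite _))
      rw [show ((D : Set G) ∩ E) = ((I : Subgroup G) : Set G) from rfl, ← Nat.card_coe_set_eq,
        ← Nat.card_coe_set_eq, ← Nat.card_coe_set_eq, SetLike.coe_sort_coe, SetLike.coe_sort_coe, hI4,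
        hD16] at h1
      have : Nat.card {i : G // i ∈ D ∧ i ∉ E} = Nat.card ((D : Set G) \ (E : Set G) : Set G) := rfl
      omega
    rw [this]
  have hflip : ∀ i j : G, i * i = 1 → j * j = 1 → i * j * (i * j) = z → j * i * (j * i) = z := by
    intro i j hi hj e
    have := congrArg (·⁻¹) e
    simp only [mul_inv_rev, inv_eq_of_mul_eq_one_left hi, inv_eq_of_mul_eq_one_left hj, hzi] at this
    exact this
  have hcom : ∀ i j : G, i * i = 1 → j * j = 1 → i * j * (i * j) = z → i * j ≠ j * i := by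
    intro i j hi hj e hc
    apply hz1
    rw [← e]
    conv_lhs => arg 1; rw [hc]
    rw [show j * i * (i * j) = j * (i * i) * j by group, hi, mul_one, hj]
  have hmem : ∀ i j : G, i * i = 1 → j * j = 1 → i * j * (i * j) = z →
      (i ∈ D ∧ i ∉ E ∧ j ∈ E) ∨ (j ∈ D ∧ j ∉ E ∧ i ∈ E) := by
    intro i j hi hj e
    have hiinv := inv_eq_of_mul_eq_one_left hi
    have hjinv := inv_eq_of_mul_eq_one_left hj
    have e1 : i * z * i = z := by
      calc i * z * i = i * (i * j * (i * j)) * i := by rw [e]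
        _ = (i * i) * (j * i * (j * i)) := by group
        _ = z := by rw [hi, one_mul, hflip i j hi hj e]
    have e2 : j * z * j = z := by
      calc j * z * j = j * (i * j * (i * j)) * j := by rw [e]
        _ = (j * i * (j * i)) * (j * j) := by group
        _ = z := by rw [hj, mul_one, hflip i j hi hj e]
    have hiz : i * z = z * i := by
      conv_rhs => rw [← e1]
      rw [mul_assoc _ i i, hi, mul_one]
    have hjz : j * z = z * j := by
      conv_rhs => rw [← e2]
      rw [mul_assoc _ j j, hj, mul_one]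
    have hnc := hcom i j hi hj e
    by_cases hiD : i ∈ D
    · have hjD : j ∉ D := fun hjD => hnc (comm_of_sq hs.dsq i hiD j hjD)
      have hjE := (hinv j hjz hj).resolve_left hjD
      exact Or.inl ⟨hiD, fun hiE => hnc (comm_of_sq hs.esq i hiE j hjE), hjE⟩
    · have hiE := (hinv i hiz hi).resolve_left hiD
      have hjE : j ∉ E := fun hjE => hnc (comm_of_sq hs.esq i hiE j hjE)
      exact Or.inr ⟨(hinv j hjz hj).resolve_right hjE, hjE, hiE⟩
  have hne1 : ∀ i j : G, i * i = 1 → j * j = 1 → i * j * (i * j) = z → i ≠ 1 ∧ j ≠ 1 := fun i j hi hj e =>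
    ⟨fun e0 => hcom i j hi hj e (by rw [e0, one_mul, mul_one]),
      fun e0 => hcom i j hi hj e (by rw [e0, one_mul, mul_one])⟩
  let T := Σ i : {i : G // i ∈ D ∧ i ∉ E}, {j : E // (i : G) * j * (i * j) = z}
  let P := {ij : Inv2 G × Inv2 G // ((ij.1 : G) * ij.2) * (ij.1 * ij.2) = z}
  let f : T ⊕ T → P := fun s => Sum.elim
    (fun t => ⟨(⟨t.1.1, mkInv _ (hs.dsq _ t.1.2.1) (hne1 _ _ (hs.dsq _ t.1.2.1) (hs.esq _ t.2.1.2) t.2.2).1⟩,
      ⟨(t.2.1 : G), mkInv _ (hs.esq _ t.2.1.2) (hne1 _ _ (hs.dsq _ t.1.2.1) (hs.esq _ t.2.1.2) t.2.2).2⟩), t.2.2⟩)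
    (fun t => ⟨(⟨(t.2.1 : G), mkInv _ (hs.esq _ t.2.1.2) (hne1 _ _ (hs.dsq _ t.1.2.1) (hs.esq _ t.2.1.2) t.2.2).2⟩,
      ⟨t.1.1, mkInv _ (hs.dsq _ t.1.2.1) (hne1 _ _ (hs.dsq _ t.1.2.1) (hs.esq _ t.2.1.2) t.2.2).1⟩),
      hflip _ _ (hs.dsq _ t.1.2.1) (hs.esq _ t.2.1.2) t.2.2⟩) s
  have hf : Function.Bijective f := by
    constructor
    · rintro (⟨⟨a, ha⟩, ⟨⟨b, hb⟩, hab⟩⟩ | ⟨⟨a, ha⟩, ⟨⟨b, hb⟩, hab⟩⟩)
        (⟨⟨a', ha'⟩, ⟨⟨b', hb'⟩, hab'⟩⟩ | ⟨⟨a', ha'⟩, ⟨⟨b', hb'⟩, hab'⟩⟩) e
      ·
        have e1 := congrArg (fun q : P => (q.1.1 : G)) e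
        have e2 := congrArg (fun q : P => (q.1.2 : G)) e
        simp only [f, Sum.elim_inl, Sum.elim_inr] at e1 e2
        subst e1; subst e2; rfl
      ·
        have e1 := congrArg (fun q : P => (q.1.1 : G)) e
        have e2 := congrArg (fun q : P => (q.1.2 : G)) e
        simp only [f, Sum.elim_inl, Sum.elim_inr] at e1 e2
        exact absurd (e1 ▸ hb') ha.2
      ·
        have e1 := congrArg (fun q : P => (q.1.1 : G)) e
        have e2 := congrArg (fun q : P => (q.1.2 : G)) e
        simp only [f, Sum.elim_inl, Sum.elim_inr] at e1 e2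
        exact absurd (e1 ▸ hb) ha'.2
      ·
        have e1 := congrArg (fun q : P => (q.1.1 : G)) e
        have e2 := congrArg (fun q : P => (q.1.2 : G)) e
        simp only [f, Sum.elim_inl, Sum.elim_inr] at e1 e2
        subst e1; subst e2; rfl
    · rintro ⟨⟨i, j⟩, hij⟩
      rcases hmem _ _ (inv2_sq i) (inv2_sq j) hij with ⟨h1, h2, h3⟩ | ⟨h1, h2, h3⟩
      · exact ⟨Sum.inl ⟨⟨_, h1, h2⟩, ⟨⟨_, h3⟩, hij⟩⟩, rfl⟩
      · exact ⟨Sum.inr ⟨⟨_, h1, h2⟩, ⟨⟨_, h3⟩, hflip _ _ (inv2_sq i) (inv2_sq j) hij⟩⟩, rfl⟩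
  rw [← Nat.card_congr (Equiv.ofBijective f hf), Nat.card_sum, hsum]

end Cfsg.Agent.Block.Spec5
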