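import Mathlib
import Cfsg.Agent.S0215
import Cfsg.Agent.S1237
import Cfsg.Agent.S1248
import Cfsg.Agent.Lib.Block.Spec5.Count
import Cfsg.Agent.Lib.Block.Spec5.Common

/-!
The case of Sylow 2-subgroups with trivial intersections.
-/

set_option autoImplicit false
set_option linter.unusedSectionVars false
set_option linter.style.haveILetI false

namespace Cfsg.Agent.Block.Spec5

open Subgroup

universe u

variable {G : Type u} [Group G] [Finite G]

/-- No group with element orders at most five has order fifteen. -/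
theorem Ord5.card_ne_fifteen {K : Type u} [Group K] [Finite K] (h : Ord5 K) (hK : Nat.card K = 15) :
    False := by
  haveI := Fact.mk Nat.prime_three
  haveI := Fact.mk Nat.prime_five
  obtain ⟨R⟩ : Nonempty (Sylow 5 K) := inferInstance
  have hR : Nat.card (R : Subgroup K) = 5 := by
    rw [R.card_eq_multiplicity, hK, show (15 : ℕ) = 3 ^ 1 * 5 ^ 1 by norm_num,
      Nat.factorization_mul (by norm_num) (by norm_num), Finsupp.add_apply,
      Nat.prime_three.factorization_pow, Nat.prime_five.factorization_pow,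
      Finsupp.single_apply, Finsupp.single_apply, if_neg (by norm_num), if_pos rfl, zero_add]
    norm_num
  have hn1 : Nat.card (Sylow 5 K) = 1 := by
    have h1 := card_sylow_modEq_one 5 K
    have h3' : (R : Subgroup K).index = 3 := by
      have := Subgroup.card_mul_index (R : Subgroup K)
      rw [hR, hK] at this
      omega
    have h2 : Nat.card (Sylow 5 K) ∣ 3 := by
      rw [Sylow.card_eq_index_normalizer R]
      exact h3' ▸ Subgroup.index_dvd_of_le le_normalizer
    rcases (Nat.dvd_prime Nat.prime_three).mp h2 with e2 | e2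
    · exact e2
    · rw [e2] at h1; exact absurd h1 (by decide)
  haveI := (Nat.card_eq_one_iff_unique.mp hn1).1
  have hn : (R : Subgroup K).Normal := R.normal_of_subsingleton
  obtain ⟨x, hx⟩ := exists_prime_orderOf_dvd_card' (G := K) 3 (by rw [hK]; norm_num)
  obtain ⟨c, hc⟩ := exists_prime_orderOf_dvd_card' (G := (R : Subgroup K)) 5 (by rw [hR])
  rw [← Subgroup.orderOf_coe] at hc
  set d := (c : K) with hd
  have hzR : zpowers d = (R : Subgroup K) := Subgroup.eq_of_le_of_card_ge (zpowers_le.mpr c.2)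
    (by rw [Nat.card_zpowers, hc, hR])
  obtain ⟨j, hj⟩ : ∃ j : ℕ, d ^ j = x * d * x⁻¹ := by
    have hm : x * d * x⁻¹ ∈ zpowers d := hzR ▸ hn.conj_mem d c.2 x
    exact (Submonoid.mem_powers_iff _ _).mp (mem_powers_iff_mem_zpowers.mpr hm)
  have e1 : ∀ k : ℕ, x * d ^ k * x⁻¹ = d ^ (j * k) := fun k => by rw [pow_mul, hj, conj_pow]
  have e3 : x ^ 3 = 1 := hx ▸ pow_orderOf_eq_one x
  have hj3 : d ^ (j * j * j) = d := by
    calc d ^ (j * j * j) = x * (x * (x * d ^ 1 * x⁻¹) * x⁻¹) * x⁻¹ := by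
          rw [e1, e1, e1]; congr 1; ring
      _ = x ^ 3 * d * (x ^ 3)⁻¹ := by simp only [pow_succ, pow_zero, one_mul]; group
      _ = d := by rw [e3, one_mul, inv_one, mul_one]
  have hjmod : j * j * j % 5 = 1 := by
    have := (pow_eq_pow_iff_modEq (x := d) (n := j * j * j) (m := 1)).mp (by rw [hj3, pow_one])
    rw [hc] at this
    exact this
  have hj1 : j % 5 = 1 := by
    rw [Nat.mul_mod, Nat.mul_mod j j] at hjmod
    have := Nat.mod_lt j (show 5 > 0 by norm_num)
    interval_cases hq : j % 5 <;> simp_all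
  have e4 : d ^ j = d := by
    rw [← Nat.mod_add_div j 5, hj1, pow_add, pow_one, pow_mul, ← hc, pow_orderOf_eq_one, one_pow, mul_one]
  rw [e4] at hj
  rcases h.commute_cases (show Commute d x from (mul_inv_eq_iff_eq_mul.mp hj.symm).symm)
    (by rw [hc, hx]; norm_num) with e | e
  · rw [e, orderOf_one] at hc; omega
  · rw [e, orderOf_one] at hx; omega

set_option maxHeartbeats 2000000 in
/-- No simple group of order divisible by nine has trivial Sylow 2-intersections. -/
theorem ti_false (h : Ord5 G) [IsSimpleGroup G] (hna : ¬ IsMulCommutative G) (h9 : 9 ∣ Nat.card G)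
    (hTI : ∀ S T : Sylow 2 G, S ≠ T → (S : Subgroup G) ⊓ T = ⊥) : False := by
  classical
  haveI := Fact.mk Nat.prime_two
  obtain ⟨h2, h3, h5⟩ := h.dvd_card (not_solvable_of_simple hna)
  obtain ⟨S⟩ : Nonempty (Sylow 2 G) := inferInstance
  set P := (S : Subgroup G) with hP
  have hP2 : IsPGroup 2 P := S.isPGroup'
  have hPb : P ≠ ⊥ := S.ne_bot_of_dvd_card h2
  set N := normalizer (P : Set G) with hN
  have hPN : P ≤ N := le_normalizer
  have hPnn : ¬ P.Normal := fun hn => by
    rcases IsSimpleGroup.eq_bot_or_eq_top_of_normal P hn with e | e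
    · exact hPb e
    · have hd : ¬ 2 ∣ P.index := S.not_dvd_index
      obtain ⟨a, ha⟩ := IsPGroup.iff_card.mp hP2
      rw [e, Subgroup.card_top] at ha
      rw [ha] at h3
      exact absurd (Nat.prime_three.dvd_of_dvd_pow h3) (by norm_num)
  -- centralisers stay in the normaliser
  have hcN : ∀ s ∈ P, s ≠ 1 → ∀ c : G, c * s = s * c → c ∈ N := by
    intro s hs hs1 c hc
    by_contra hcn
    have hne : c • S ≠ S := fun e => hcn (by
      rw [hN, hP]; exact Sylow.smul_eq_iff_mem_normalizer.mp e)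
    refine hs1 (Subgroup.mem_bot.mp (hTI S (c • S) (Ne.symm hne) ▸ ⟨hs, ?_⟩))
    rw [Sylow.coe_subgroup_smul]
    have := Subgroup.smul_mem_pointwise_smul s (MulAut.conj c) P hs
    rwa [MulAut.smul_def, MulAut.conj_apply, hc, mul_inv_cancel_right] at this
  have hNP : ∀ y ∈ N, y ^ 4 = 1 → y ∈ P := by
    intro y hy hy4
    have hyp : IsPGroup 2 (zpowers y) := fun ⟨a, ha⟩ => by
      obtain ⟨n, rfl⟩ := mem_zpowers_iff.mp ha
      refine ⟨2, Subtype.ext ?_⟩
      show (y ^ n) ^ 4 = 1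
      rw [← zpow_natCast, ← zpow_mul, mul_comm, zpow_mul, zpow_natCast, hy4, one_zpow]
    have hj : IsPGroup 2 (zpowers y ⊔ P : Subgroup G) :=
      hyp.to_sup_of_normal_right' hP2 (zpowers_le.mpr hy)
    exact (S.is_maximal' hj le_sup_right).le (mem_sup_left (mem_zpowers y))
  -- a central involution
  haveI : Nontrivial P := (Subgroup.nontrivial_iff_ne_bot _).mpr hPb
  haveI := hP2.center_nontrivial
  obtain ⟨z, hzP, hz1, hzz, hzc⟩ : ∃ z : G, z ∈ P ∧ z ≠ 1 ∧ z * z = 1 ∧ ∀ s ∈ P, s * z = z * s := by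
    have h2' : 2 ∣ Nat.card (center P) := by
      obtain ⟨a, ha⟩ := IsPGroup.iff_card.mp (hP2.to_subgroup (center P))
      have : a ≠ 0 := fun e0 => by
        rw [e0, pow_zero] at ha
        exact absurd ha (Finite.one_lt_card (α := center P)).ne'
      exact ha ▸ dvd_pow_self 2 this
    obtain ⟨⟨⟨z, hz⟩, hzc⟩, hzo⟩ := exists_prime_orderOf_dvd_card' 2 h2'
    have hzo' : orderOf z = 2 := by rw [← hzo]; simp [Subgroup.orderOf_mk]
    exact ⟨z, hz, Invol.ne_one_of_orderOf_two hzo', Invol.mul_self_of_orderOf_two hzo',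
      fun s hs => congrArg Subtype.val (Subgroup.mem_center_iff.mp hzc ⟨s, hs⟩)⟩
  -- an involution outside, and all involutions are conjugate
  obtain ⟨y0, hy0, hy00, hy0P⟩ : ∃ y : G, y * y = 1 ∧ y ≠ 1 ∧ y ∉ P := by
    obtain ⟨g, hg⟩ : ∃ g : G, g ∉ N := by
      by_contra hall
      push Not at hall
      exact hPnn (Subgroup.normalizer_eq_top_iff.mp ((Subgroup.eq_top_iff' N).mpr hall))
    refine ⟨g * z * g⁻¹, ?_, fun e0 => hz1 (by rwa [mul_inv_eq_one, mul_eq_left] at e0), fun hm => ?_⟩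
    · rw [show g * z * g⁻¹ * (g * z * g⁻¹) = g * (z * z) * g⁻¹ by group, hzz]; group
    · have hne : g • S ≠ S := fun e => hg (Sylow.smul_eq_iff_mem_normalizer.mp e)
      have hz' : g * z * g⁻¹ ∈ (S : Subgroup G) ⊓ ((g • S : Sylow 2 G) : Subgroup G) := ⟨hm, by
        rw [Sylow.coe_subgroup_smul]; exact Subgroup.smul_mem_pointwise_smul z (MulAut.conj g) P hzP⟩
      rw [hTI S (g • S) (Ne.symm hne), Subgroup.mem_bot, mul_inv_eq_one, mul_eq_left] at hz'
      exact hz1 hz'
  have hconjPout : ∀ x y : G, x ∈ P → x ≠ 1 → x * x = 1 → y ∉ P → y * y = 1 →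
      ∃ g : G, g * x * g⁻¹ = y := by
    intro x y hx hx1 hxx hy hyy
    have h4 : y ^ 4 = 1 := by rw [show 4 = 2 * 2 from rfl, pow_mul, pow_two y, hyy, one_pow]
    rcases conj_or_central h hxx hyy with e | e | ⟨w, hw, hw1, hwx, hwy⟩
    · exact e
    · exact absurd (hNP y (hcN x hx hx1 y e.symm) h4) hy
    · have hwP : w ∈ P := hNP w (hcN x hx hx1 w hwx.symm)
        (by rw [show 4 = 2 * 2 from rfl, pow_mul, pow_two w, hw, one_pow])
      exact absurd (hNP y (hcN w hwP hw1 y hwy) h4) hy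
  have hone : ∀ i : G, i * i = 1 → i ≠ 1 → ∃ g : G, g * z * g⁻¹ = i := by
    intro i hi hi1
    by_cases hiP : i ∈ P
    · obtain ⟨a, ha⟩ := hconjPout z y0 hzP hz1 hzz hy0P hy0
      obtain ⟨b, hb⟩ := hconjPout i y0 hiP hi1 hi hy0P hy0
      exact ⟨b⁻¹ * a, by rw [show b⁻¹ * a * z * (b⁻¹ * a)⁻¹ = b⁻¹ * (a * z * a⁻¹) * b by group, ha, ← hb]; group⟩
    · exact hconjPout z i hzP hz1 hzz hiP hi
  have hconjN : ∀ g : G, g * z * g⁻¹ ∈ P → g ∈ N := by
    intro g hg
    by_contra hgn
    have hne : g • S ≠ S := fun e => hgn (Sylow.smul_eq_iff_mem_normalizer.mp e)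
    have hm : g * z * g⁻¹ ∈ (S : Subgroup G) ⊓ ((g • S : Sylow 2 G) : Subgroup G) := ⟨hg, by
      rw [Sylow.coe_subgroup_smul]; exact Subgroup.smul_mem_pointwise_smul z (MulAut.conj g) P hzP⟩
    rw [hTI S (g • S) (Ne.symm hne), Subgroup.mem_bot, mul_inv_eq_one, mul_eq_left] at hm
    exact hz1 hm
  -- involutions of `P` are central in `P`
  have hcent : ∀ i ∈ P, i * i = 1 → ∀ s ∈ P, s * i = i * s := by
    intro i hi hii s hs
    rcases eq_or_ne i 1 with rfl | hi1
    · rw [one_mul, mul_one]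
    obtain ⟨g, rfl⟩ := hone i hii hi1
    have hgN := hconjN g hi
    have hs' : g⁻¹ * s * g ∈ P := (mem_normalizer_iff''.mp hgN s).mp hs
    calc s * (g * z * g⁻¹) = g * ((g⁻¹ * s * g) * z) * g⁻¹ := by group
      _ = g * (z * (g⁻¹ * s * g)) * g⁻¹ := by rw [hzc _ hs']
      _ = _ := by group
  have hzo : orderOf z = 2 := orderOf_eq_two hzz hz1
  have hCz : centralizer ({z} : Set G) = P := by
    refine le_antisymm (fun c hc => hNP c (hcN z hzP hz1 c (mem_centralizer_singleton_iff.mp hc))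
      (h.pow_four (h.centralizer_involution hzo) hc))
      fun s hs => mem_centralizer_singleton_iff.mpr (hzc s hs)
  -- the involutions of `P` with the identity
  let Ω : Subgroup G :=
    { carrier := {s | s ∈ P ∧ s * s = 1}
      one_mem' := ⟨one_mem P, one_mul 1⟩
      mul_mem' := fun {a b} ha hb => ⟨mul_mem ha.1 hb.1, by
        rw [show a * b * (a * b) = a * (b * a) * b by group, hcent a ha.1 ha.2 b hb.1,
          show a * (a * b) * b = (a * a) * (b * b) by group, ha.2, hb.2, one_mul]⟩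
      inv_mem' := fun {a} ha => ⟨inv_mem ha.1, by rw [← mul_inv_rev, ha.2, inv_one]⟩ }
  have hΩP : Ω ≤ P := fun s hs => hs.1
  have hΩz : z ∈ Ω := ⟨hzP, hzz⟩
  obtain ⟨r, hr⟩ := IsPGroup.iff_card.mp (hP2.to_le hΩP)
  -- the normaliser
  have hPN' : (P.subgroupOf N).Normal := Subgroup.normal_in_normalizer
  set m := (P.subgroupOf N).index with hm
  have hmN : Nat.card N = Nat.card P * m := by
    rw [← Subgroup.card_mul_index (P.subgroupOf N),
      Nat.card_congr (Subgroup.subgroupOfEquivOfLe hPN).toEquiv]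
  have hmodd : ¬ 2 ∣ m := fun hd => S.not_dvd_index (hd.trans (Dvd.intro _ (Subgroup.relIndex_mul_index hPN)))
  have hsyl : ∀ p : ℕ, p.Prime → p ≠ 2 → ¬ p ^ 2 ∣ m := by
    intro p hp hp2 hd
    haveI := Fact.mk hp
    obtain ⟨K, hK⟩ := Sylow.exists_subgroup_card_pow_prime p (G := N) (hd.trans ⟨Nat.card P, by rw [hmN, mul_comm]⟩)
    have hle := h.card_dvd_of_fpf hp2 hp2 ((IsPGroup.of_card hK).map N.subtype) hP2 hPb
      (Subgroup.map_subtype_le K)
    rw [Subgroup.card_map_of_injective N.subtype_injective, hK] at hle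
    have := Nat.le_of_dvd hp.pos hle
    have := hp.two_le
    nlinarith
  have hm15 : ¬ 15 ∣ m := by
    intro hd
    haveI := Fact.mk Nat.prime_three
    haveI := Fact.mk Nat.prime_five
    haveI := hPN'
    have hQ := (h.subgroup N).quotient (P.subgroupOf N)
    have hcardQ : Nat.card (N ⧸ P.subgroupOf N) = 15 := by
      have hmm : ∀ q, q.Prime → q ∣ m → q = 3 ∨ q = 5 := fun q hq hqd =>
        (hQ.prime_cases hq hqd).resolve_left fun e => hmodd (e ▸ hqd)
      have hm0 : m ≠ 0 := Subgroup.index_ne_zero_of_finite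
      show m = 15
      refine Nat.dvd_antisymm ?_ hd
      rw [← Nat.factorization_le_iff_dvd hm0 (by norm_num)]
      intro q
      by_cases hq : q.Prime
      · rcases Nat.eq_zero_or_pos (m.factorization q) with e | e
        · exact e ▸ Nat.zero_le _
        have hqd := Nat.dvd_of_factorization_pos e.ne'
        have hle1 : m.factorization q ≤ 1 := by
          by_contra hc
          exact hsyl q hq (fun e2 => hmodd (e2 ▸ hqd))
            ((hq.pow_dvd_iff_le_factorization hm0).mpr (by omega))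
        refine le_trans hle1 ((hq.pow_dvd_iff_le_factorization (by norm_num)).mp ?_)
        rw [pow_one]
        rcases hmm q hq hqd with rfl | rfl <;> norm_num
      · rw [Nat.factorization_eq_zero_of_not_prime _ hq]; exact Nat.zero_le _
    exact Ord5.card_ne_fifteen hQ hcardQ
  have hm135 : m = 1 ∨ m = 3 ∨ m = 5 := by
    have hmm : ∀ q, q.Prime → q ∣ m → q = 3 ∨ q = 5 := fun q hq hqd => by
      refine (h.prime_cases hq ?_).resolve_left fun e => hmodd (e ▸ hqd)
      exact hqd.trans ((Subgroup.index_dvd_card _).trans (Subgroup.card_subgroup_dvd_card N))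
    rcases Nat.eq_zero_or_pos m with e0 | hpos
    · exact absurd e0 Subgroup.index_ne_zero_of_finite
    rcases eq_or_ne m 1 with e1 | e1
    · exact Or.inl e1
    obtain ⟨q, hq, k, hk⟩ := Nat.exists_prime_and_dvd e1
    rcases eq_or_ne k 1 with ek | ek
    · rw [hk, ek, mul_one]
      exact Or.inr (hmm q hq ⟨k, hk⟩)
    exfalso
    obtain ⟨q', hq', hqk⟩ := Nat.exists_prime_and_dvd ek
    have hqm : q ∣ m := ⟨k, hk⟩
    have hq'm : q' ∣ m := hqk.trans ⟨q, by rw [hk, mul_comm]⟩
    have hne2 : ∀ r, r.Prime → r ∣ m → r ≠ 2 := fun r hr hrd e => hmodd (e ▸ hrd)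
    by_cases heq : q = q'
    · refine hsyl q hq (hne2 q hq hqm) ?_
      rw [hk, pow_two]; exact mul_dvd_mul_left q (heq ▸ hqk)
    · refine hm15 ?_
      rcases hmm q hq hqm with e | e <;> rcases hmm q' hq' hq'm with e' | e' <;> subst e <;> subst e'
      · exact absurd rfl heq
      · exact Nat.Coprime.mul_dvd_of_dvd_of_dvd (by norm_num) hqm hq'm
      · exact Nat.Coprime.mul_dvd_of_dvd_of_dvd (by norm_num) hq'm hqm
      · exact absurd rfl heq
  -- the involutions of `P` form one orbit of the normaliser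
  have horb : Nat.card {s : Ω // s ≠ 1} = m := by
    haveI := hPN'
    have hfun : ∀ q : N ⧸ P.subgroupOf N, ∃ s : {s : Ω // s ≠ 1}, ∀ n : N, (n : N ⧸ P.subgroupOf N) = q →
        ((s.1 : Ω) : G) = n * z * (n : G)⁻¹ := by
      intro q
      obtain ⟨n, rfl⟩ := QuotientGroup.mk_surjective q
      have hm' : (n : G) * z * (n : G)⁻¹ ∈ Ω := ⟨(mem_normalizer_iff.mp n.2 z).mp hzP, by
        rw [show (n : G) * z * (n : G)⁻¹ * (n * z * (n : G)⁻¹) = n * (z * z) * (n : G)⁻¹ by group, hzz]; group⟩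
      refine ⟨⟨⟨_, hm'⟩, fun e => hz1 (by
        have e' : (n : G) * z * (n : G)⁻¹ = 1 := congrArg Subtype.val e
        rwa [mul_inv_eq_one, mul_eq_left] at e')⟩, fun n' hn' => ?_⟩
      have hd : ((n' : G))⁻¹ * n ∈ P := by
        have := QuotientGroup.eq.mp hn'
        rwa [Subgroup.mem_subgroupOf] at this
      show (n : G) * z * (n : G)⁻¹ = n' * z * (n' : G)⁻¹
      calc (n : G) * z * (n : G)⁻¹ = n' * (((n' : G))⁻¹ * n * z) * (((n' : G))⁻¹ * n)⁻¹ * (n' : G)⁻¹ := by group
        _ = _ := by rw [hzc _ hd]; group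
    choose f hf using hfun
    rw [hm, Subgroup.index]
    refine (Nat.card_congr (Equiv.ofBijective f ⟨fun a b hab => ?_, fun s => ?_⟩)).symm
    · obtain ⟨n, rfl⟩ := QuotientGroup.mk_surjective a
      obtain ⟨n', rfl⟩ := QuotientGroup.mk_surjective b
      have e1 := hf _ n rfl
      have e2 := hf _ n' rfl
      rw [hab] at e1
      have e : (n : G) * z * (n : G)⁻¹ = n' * z * (n' : G)⁻¹ := e1.symm.trans e2
      refine QuotientGroup.eq.mpr (Subgroup.mem_subgroupOf.mpr ?_)
      rw [← hCz, mem_centralizer_singleton_iff]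
      show (n : G)⁻¹ * n' * z = z * ((n : G)⁻¹ * n')
      calc (n : G)⁻¹ * n' * z = (n : G)⁻¹ * (n' * z * (n' : G)⁻¹) * n' := by group
        _ = _ := by rw [← e]; group
    · have hs : ((s.1 : Ω) : G) ≠ 1 := fun e => s.2 (Subtype.ext e)
      obtain ⟨g, hg⟩ := hone _ s.1.2.2 hs
      have hgN := hconjN g (hg ▸ s.1.2.1)
      refine ⟨((⟨g, hgN⟩ : N) : N ⧸ P.subgroupOf N), Subtype.ext (Subtype.ext ?_)⟩
      rw [hf _ ⟨g, hgN⟩ rfl]
      exact hg
  have hΩ1 : Nat.card Ω = m + 1 := by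
    haveI := Fintype.ofFinite Ω
    have h1 := horb
    rw [Nat.card_eq_fintype_card, Fintype.card_subtype_compl, Fintype.card_subtype_eq,
      ← Nat.card_eq_fintype_card] at h1
    have := Nat.card_pos (α := Ω)
    omega
  have hm3 : m = 3 := by
    rcases hm135 with e | e | e
    · exfalso
      -- a unique involution
      have hiso : ∀ g : G, g * z * g⁻¹ ∈ (S : Subgroup G) → g * z * g⁻¹ = z := by
        intro g hg
        haveI : Subsingleton {s : Ω // s ≠ 1} :=
          (Nat.card_eq_one_iff_unique.mp (horb.trans e)).1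
        have hgg : (g * z * g⁻¹) * (g * z * g⁻¹) = 1 := by
          rw [show g * z * g⁻¹ * (g * z * g⁻¹) = g * (z * z) * g⁻¹ by group, hzz]; group
        have key := Subsingleton.elim (α := {s : Ω // s ≠ 1})
          ⟨⟨g * z * g⁻¹, hg, hgg⟩, fun e0 => hz1 (by
            have e' : g * z * g⁻¹ = 1 := congrArg Subtype.val e0
            rwa [mul_inv_eq_one, mul_eq_left] at e')⟩
          ⟨⟨z, hΩz⟩, fun e0 => hz1 (congrArg Subtype.val e0)⟩
        exact congrArg (fun s : {s : Ω // s ≠ 1} => ((s.1 : Ω) : G)) key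
      obtain ⟨K, hK, hodd, hcomm⟩ := Cfsg.Agent.S0215.result S z hzo hzP hiso
      have hKb : K = ⊥ := (IsSimpleGroup.eq_bot_or_eq_top_of_normal K hK).resolve_right fun e0 => by
        rw [e0, Subgroup.card_top] at hodd
        exact (Nat.not_even_iff_odd.mpr hodd) (even_iff_two_dvd.mpr h2)
      have hzC : z ∈ center G := Subgroup.mem_center_iff.mpr fun g => by
        have := hcomm g
        rw [hKb, Subgroup.mem_bot] at this
        rw [mul_inv_eq_one, mul_inv_eq_iff_eq_mul] at this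
        exact this.symm
      rcases IsSimpleGroup.eq_bot_or_eq_top_of_normal (center G) inferInstance with e0 | e0
      · exact hz1 (Subgroup.mem_bot.mp (e0 ▸ hzC))
      · exact hna ⟨⟨fun a b => (Subgroup.mem_center_iff.mp (e0.symm ▸ Subgroup.mem_top b) a)⟩⟩
    · exact e
    · exfalso
      rw [hr, e] at hΩ1
      have : r ≤ 2 ∨ 3 ≤ r := by omega
      rcases this with h' | h'
      · interval_cases r <;> simp at hΩ1
      · have := Nat.pow_le_pow_right (show 0 < 2 by norm_num) h'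
        omega
  have hΩ4 : Nat.card Ω = 4 := by rw [hΩ1, hm3]
  -- an element of order three permuting the three involutions
  obtain ⟨k, hkN, hk3, hk1⟩ : ∃ k ∈ N, k ^ 3 = 1 ∧ k ≠ 1 := by
    haveI := Fact.mk Nat.prime_three
    obtain ⟨k, hk⟩ := exists_prime_orderOf_dvd_card' (G := N) 3 (by rw [hmN, hm3]; exact dvd_mul_left 3 _)
    refine ⟨k, k.2, ?_, fun e0 => ?_⟩
    · rw [← Subgroup.coe_pow, ← hk, pow_orderOf_eq_one, Subgroup.coe_one]
    · rw [← Subgroup.orderOf_coe, e0, orderOf_one] at hk; omega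
  let φ : MulAut P := P.normalizerMonoidHom ⟨k, hkN⟩
  have hφ : ∀ (j : ℕ) (s : P), (((φ ^ j) s : P) : G) = k ^ j * (s : G) * (k ^ j)⁻¹ := by
    intro j s
    rw [← map_pow]
    rfl
  have hkz : ∀ i : G, i ∈ P → i * i = 1 → i ≠ 1 → k * i * k⁻¹ ≠ i := by
    intro i hi hii hi1 e0
    exact hi1 (h.fix_eq_one Nat.prime_three (by norm_num) hk3 hk1 (h.pow_four hP2 hi)
      (mul_inv_eq_iff_eq_mul.mp e0))
  have htrans : ∀ s t : P, orderOf s = 2 → orderOf t = 2 → ∃ j : ℕ, (φ ^ j) s = t := by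
    intro s t hs ht
    by_contra hne
    push Not at hne
    have hs' : (s : G) * s = 1 := congrArg Subtype.val (Invol.mul_self_of_orderOf_two hs)
    have ht' : (t : G) * t = 1 := congrArg Subtype.val (Invol.mul_self_of_orderOf_two ht)
    have hs1 : (s : G) ≠ 1 := fun e0 => Invol.ne_one_of_orderOf_two hs (Subtype.ext e0)
    have ht1 : (t : G) ≠ 1 := fun e0 => Invol.ne_one_of_orderOf_two ht (Subtype.ext e0)
    have hmem : ∀ a : G, a * (s : G) * a⁻¹ ∈ P → a * (s : G) * a⁻¹ ∈ Ω := fun a ha => ⟨ha, by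
      rw [show a * (s : G) * a⁻¹ * (a * s * a⁻¹) = a * ((s : G) * s) * a⁻¹ by group, hs']; group⟩
    have o1 : k * (s : G) * k⁻¹ ∈ P := (mem_normalizer_iff.mp hkN _).mp s.2
    have o2 : k ^ 2 * (s : G) * (k ^ 2)⁻¹ ∈ P := (mem_normalizer_iff.mp (pow_mem hkN 2) _).mp s.2
    set A : Finset G := {1, (s : G), k * s * k⁻¹, k ^ 2 * s * (k ^ 2)⁻¹, (t : G)}
    have hA : A ⊆ ((Ω : Set G).toFinite.toFinset) := by
      intro a ha
      simp only [A, Finset.mem_insert, Finset.mem_singleton] at ha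
      rw [Set.Finite.mem_toFinset]
      rcases ha with rfl | rfl | rfl | rfl | rfl
      · exact one_mem Ω
      · exact ⟨s.2, hs'⟩
      · exact hmem k o1
      · exact hmem (k ^ 2) o2
      · exact ⟨t.2, ht'⟩
    have hle := Finset.card_le_card hA
    rw [← Set.ncard_eq_toFinset_card, ← Nat.card_coe_set_eq, SetLike.coe_sort_coe, hΩ4] at hle
    have n1 : (s : G) ≠ k * s * k⁻¹ := (hkz s s.2 hs' hs1).symm
    have n2 : (s : G) ≠ k ^ 2 * s * (k ^ 2)⁻¹ := fun e0 => hkz s s.2 hs' hs1 (by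
      conv_lhs => rw [e0]
      calc k * (k ^ 2 * (s : G) * (k ^ 2)⁻¹) * k⁻¹ = k ^ 3 * (s : G) * (k ^ 3)⁻¹ := by
            simp only [pow_succ, pow_zero, one_mul]; group
        _ = (s : G) := by rw [hk3, one_mul, inv_one, mul_one])
    have n3 : k * (s : G) * k⁻¹ ≠ k ^ 2 * s * (k ^ 2)⁻¹ := fun e0 => hkz s s.2 hs' hs1 (by
      calc k * (s : G) * k⁻¹ = k⁻¹ * (k ^ 2 * s * (k ^ 2)⁻¹) * k := by
            simp only [pow_succ, pow_zero, one_mul]; group
        _ = k⁻¹ * (k * s * k⁻¹) * k := by rw [← e0]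
        _ = s := by group)
    have t0 : (s : G) ≠ t := fun e0 => hne 0 (by rw [pow_zero]; exact Subtype.ext e0)
    have t1 : k * (s : G) * k⁻¹ ≠ t := fun e0 => hne 1 (Subtype.ext (by rw [hφ, pow_one]; exact e0))
    have t2 : k ^ 2 * (s : G) * (k ^ 2)⁻¹ ≠ t := fun e0 => hne 2 (Subtype.ext (by rw [hφ]; exact e0))
    have u1 : k * (s : G) * k⁻¹ ≠ 1 := fun e0 => hs1 (by rwa [mul_inv_eq_one, mul_eq_left] at e0)
    have u2 : k ^ 2 * (s : G) * (k ^ 2)⁻¹ ≠ 1 := fun e0 => hs1 (by rwa [mul_inv_eq_one, mul_eq_left] at e0)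
    have h5' : A.card = 5 := by
      simp only [A]
      rw [Finset.card_insert_of_notMem, Finset.card_insert_of_notMem, Finset.card_insert_of_notMem,
        Finset.card_insert_of_notMem, Finset.card_singleton] <;>
      simp only [Finset.mem_insert, Finset.mem_singleton, not_or]
      · exact t2
      · exact ⟨n3, t1⟩
      · exact ⟨n1, n2, t0⟩
      · exact ⟨hs1.symm, u1.symm, u2.symm, ht1.symm⟩
    omega
  -- rank
  have hr2 : Cfsg.PRankLE 2 2 P := by
    intro A _ hA
    have hsub : A.map P.subtype ≤ Ω := by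
      rintro _ ⟨a, ha, rfl⟩
      exact ⟨a.2, by have := congrArg Subtype.val (hA a ha); simpa [pow_two] using this⟩
    have := Nat.card_le_card_of_injective _ (Subgroup.inclusion_injective hsub)
    rw [Subgroup.card_map_of_injective P.subtype_injective, hΩ4] at this
    exact this
  have hr1 : ¬ Cfsg.PRankLE 2 1 P := by
    intro hc
    have := hc (Ω.subgroupOf P) ⟨⟨fun a b => Subtype.ext (Subtype.ext
      (hcent _ (Subgroup.mem_subgroupOf.mp b.2).1 (Subgroup.mem_subgroupOf.mp b.2).2 _ a.1.2))⟩⟩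
      (fun a ha => Subtype.ext (by simpa [pow_two] using (Subgroup.mem_subgroupOf.mp ha).2))
    rw [Nat.card_congr (Subgroup.subgroupOfEquivOfLe hΩP).toEquiv, hΩ4] at this
    norm_num at this
  -- the order of `P`
  have hs : Nat.card P = 4 ∨ Nat.card P = 16 ∨ Nat.card P = 64 := by
    letI : Fintype (GaloisField 2 4) := Fintype.ofFinite _
    have hF : Fintype.card (GaloisField 2 4) = 16 := by
      rw [← Nat.card_eq_fintype_card, GaloisField.card 2 4 (by norm_num)]; norm_num
    obtain ⟨U⟩ : Nonempty (Sylow 2 (Cfsg.PSU 3 (GaloisField 2 4) 4)) := inferInstance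
    rcases Cfsg.Agent.S1237.result hP2 hr2 hr1 φ htrans hF U with ⟨n, hn, ⟨e⟩⟩ | he
    · have hc : Nat.card P = 2 ^ n * 2 ^ n := by
        rw [Nat.card_congr e.toEquiv, Nat.card_congr Multiplicative.toAdd, Nat.card_prod, Nat.card_zmod]
      have ho := (h.subgroup P) (e.symm (Multiplicative.ofAdd ((1 : ZMod (2 ^ n)), (0 : ZMod (2 ^ n)))))
      rw [e.symm.orderOf_eq, orderOf_ofAdd_eq_addOrderOf, Prod.addOrderOf, ZMod.addOrderOf_one, addOrderOf_zero,
        Nat.lcm_one_right] at ho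
      have : n ≤ 2 := by
        by_contra hc'
        have := Nat.pow_le_pow_right (show 0 < 2 by norm_num) (show 3 ≤ n by omega)
        omega
      interval_cases n <;> norm_num at hc <;> omega
    · right; right
      obtain ⟨e⟩ := he
      rw [Nat.card_congr e.toEquiv]
      exact (Cfsg.Agent.S1248.result hF U).1
  -- count
  have hone' : ∀ i : G, orderOf i = 2 → ∃ g : G, g * z * g⁻¹ = i := fun i hi =>
    hone i (Invol.mul_self_of_orderOf_two hi) (Invol.ne_one_of_orderOf_two hi)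
  have hodd : ¬ 2 * Nat.card P ∣ Nat.card G := by
    rintro ⟨c, hc⟩
    refine S.not_dvd_index ⟨c, Nat.eq_of_mul_eq_mul_left (Nat.card_pos (α := P)) ?_⟩
    rw [hP, Subgroup.card_mul_index, hc]; ring
  have hinP : ∀ i : G, i * z = z * i → i * i = 1 → i ∈ Ω := fun i hi hii =>
    ⟨hCz ▸ mem_centralizer_singleton_iff.mpr hi, hii⟩
  have ha : Nat.card {i : Inv2 G // (i : G) * z = z * i} = 3 := by
    rw [← hm3, ← horb]
    exact Nat.card_congr
      { toFun := fun i => ⟨⟨i.1.1, hinP _ i.2 (inv2_sq i.1)⟩, fun e0 =>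
          Invol.ne_one_of_orderOf_two i.1.2 (congrArg Subtype.val e0)⟩
        invFun := fun s => ⟨⟨(s.1 : G), orderOf_eq_two s.1.2.2 fun e0 => s.2 (Subtype.ext e0)⟩,
          hzc _ s.1.2.1⟩
        left_inv := fun i => rfl
        right_inv := fun s => rfl }
  have hc : Nat.card {ij : Inv2 G × Inv2 G // ((ij.1 : G) * ij.2) * (ij.1 * ij.2) = z} = 0 := by
    rw [Nat.card_eq_zero]
    left
    refine ⟨fun ⟨⟨i, j⟩, hij⟩ => ?_⟩
    have hi := inv2_inv i
    have hj := inv2_inv j
    have hzi : z⁻¹ = z := inv_eq_of_mul_eq_one_left hzz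
    dsimp only at hij
    have e1 : (i : G) * z * i = z := by
      rw [← hij]
      conv_rhs => rw [hij, ← hzi, ← hij, mul_inv_rev, mul_inv_rev, hi, hj]
      rw [show (i : G) * (i * j * (i * j)) * i = (i * i) * j * i * (j * i) by group, inv2_sq, one_mul]
    have e2 : (j : G) * z * j = z := by
      rw [← hij]
      conv_rhs => rw [hij, ← hzi, ← hij, mul_inv_rev, mul_inv_rev, hi, hj]
      rw [show (j : G) * (i * j * (i * j)) * j = j * i * (j * i) * (j * j) by group, inv2_sq, mul_one]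
    have c1 : (i : G) * z = z * i := by
      conv_rhs => rw [← e1]
      rw [mul_assoc _ (i : G) i, inv2_sq, mul_one]
    have c2 : (j : G) * z = z * j := by
      conv_rhs => rw [← e2]
      rw [mul_assoc _ (j : G) j, inv2_sq, mul_one]
    have hiΩ := hinP _ c1 (inv2_sq i)
    have hjΩ := hinP _ c2 (inv2_sq j)
    exact hz1 (hij ▸ (mul_mem hiΩ hjΩ).2)
  refine count_false h hzo hone' (by rw [hCz]) hodd ha hc ?_ h9 h5
  omega

end Cfsg.Agent.Block.Spec5
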