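import Mathlib
import Cfsg.Agent.S3035
import Cfsg.Agent.S0112
import Cfsg.Agent.S0113
import Cfsg.Agent.Lib.Block.Spec5.TI
import Cfsg.Agent.Lib.Block.Spec5.Sixteen

/-!
Simple groups with element orders at most five.
-/

set_option autoImplicit false
set_option linter.unusedSectionVars false
set_option linter.style.haveILetI false

namespace Cfsg.Agent.Block.Spec5

open Subgroup

universe u

variable {G : Type u} [Group G] [Finite G]

theorem sl32_seven : ∃ k : Matrix.SpecialLinearGroup (Fin 3) (ZMod 2), orderOf k = 7 := by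
  haveI := Fact.mk (show Nat.Prime 7 by norm_num)
  refine ⟨⟨!![0, 0, 1; 1, 0, 1; 0, 1, 0], by decide +kernel⟩, orderOf_eq_prime ?_ fun e => ?_⟩
  · exact Subtype.ext (by decide +kernel)
  · have := congrFun (congrFun (congrArg Subtype.val e) 0) 0
    simp at this

/-- The dihedral configuration gives the alternating group of degree six. -/
theorem six_of_small (h : Ord5 G) [IsSimpleGroup G] (hna : ¬ IsMulCommutative G) (h9 : 9 ∣ Nat.card G)
    {U D E : Subgroup G} (hl : Loc U D E) (hD : Nat.card D = 4) (hE : Nat.card E = 4)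
    (hI : Nat.card (D ⊓ E : Subgroup G) = 2) : Nonempty (G ≃* alternatingGroup (Fin 6)) := by
  haveI := Fact.mk Nat.prime_two
  have hs := hl.shape
  have hU : Nat.card U = 8 := by
    have := hs.card_U
    rw [hI, hD, hE] at this
    omega
  obtain ⟨S, hUS⟩ := hs.two.exists_le_sylow
  have hDS : D ≤ (S : Subgroup G) := hs.dU.trans hUS
  -- `D` is self-centralising, so `S` has order eight
  have hSU : (S : Subgroup G) = U := by
    obtain ⟨n, hn⟩ := IsPGroup.iff_card.mp S.isPGroup'
    have hA : Nat.card (D.subgroupOf (S : Subgroup G)) = 2 ^ 2 := by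
      rw [Nat.card_congr (Subgroup.subgroupOfEquivOfLe hDS).toEquiv, hD]; norm_num
    have hC : centralizer ((D.subgroupOf (S : Subgroup G) : Subgroup (S : Subgroup G)) : Set (S : Subgroup G)) =
        D.subgroupOf (S : Subgroup G) := by
      refine le_antisymm (fun y hy => Subgroup.mem_subgroupOf.mpr ?_) fun y hy => ?_
      · have hyc : ∀ d ∈ D, (y : G) * d = d * y := fun d hd =>
          (congrArg Subtype.val (mem_centralizer_iff.mp hy ⟨d, hDS hd⟩ (Subgroup.mem_subgroupOf.mpr hd))).symm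
        refine hl.selfC _ (mem_normalizer_iff.mpr fun a => ⟨fun ha => ?_, fun ha => ?_⟩) hyc
        · rwa [hyc a ha, mul_inv_cancel_right]
        · have e : (y : G) * a * (y : G)⁻¹ = a := by
            have e2 := hyc _ ha
            calc (y : G) * a * (y : G)⁻¹ = (y : G)⁻¹ * ((y : G) * ((y : G) * a * (y : G)⁻¹)) := by group
              _ = (y : G)⁻¹ * (((y : G) * a * (y : G)⁻¹) * y) := by rw [e2]
              _ = a := by group
          rwa [e] at ha
      · exact mem_centralizer_iff.mpr fun a ha => Subtype.ext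
          (comm_of_sq hs.dsq _ (Subgroup.mem_subgroupOf.mp ha) _ (Subgroup.mem_subgroupOf.mp hy))
    have hn3 : 3 ≤ n := by
      have h8 : Nat.card U ≤ 2 ^ n := hn ▸ Nat.card_le_card_of_injective _ (Subgroup.inclusion_injective hUS)
      rw [hU] at h8
      by_contra hc
      have := Nat.pow_le_pow_right (show 0 < 2 by norm_num) (show n ≤ 2 by omega)
      omega
    obtain ⟨C, hCc, hCi⟩ := Cfsg.Agent.S0113.result n hn3 hn (Cfsg.Agent.S0112.result n hn _ hA hC)
    obtain ⟨c, hc⟩ := hCc.exists_generator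
    have hC5 : Nat.card C ≤ 5 := by
      rw [← orderOf_eq_card_of_forall_mem_zpowers hc, ← Subgroup.orderOf_coe]
      exact (h.subgroup _) _
    have := Subgroup.card_mul_index C
    rw [hCi, hn] at this
    refine (Subgroup.eq_of_le_of_card_ge hUS ?_).symm
    rw [hn, hU]
    have hn' : n = 3 := by
      by_contra hne
      have := Nat.pow_le_pow_right (show 0 < 2 by norm_num) (show 4 ≤ n by omega)
      omega
    rw [hn']
    norm_num
  obtain ⟨z, hzI, hz1⟩ : ∃ z ∈ D ⊓ E, z ≠ 1 := by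
    by_contra hc
    push Not at hc
    rw [(Subgroup.eq_bot_iff_forall _).mpr hc, Subgroup.card_bot] at hI
    omega
  have hzo : orderOf z = 2 := orderOf_eq_two (hs.dsq z hzI.1) hz1
  have hCz : centralizer ({z} : Set G) = U := by
    refine le_antisymm ?_ fun u hu => mem_centralizer_singleton_iff.mpr (hs.inter_central hzI u hu)
    have hle : (S : Subgroup G) ≤ centralizer ({z} : Set G) := by
      rw [hSU]; exact fun u hu => mem_centralizer_singleton_iff.mpr (hs.inter_central hzI u hu)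
    rw [← hSU]
    exact (S.is_maximal' (h.centralizer_involution hzo) hle).le
  -- generators of `U`
  obtain ⟨e, heE, heD⟩ := SetLike.not_le_iff_exists.mp hl.eD
  obtain ⟨d, hdD, hdE⟩ : ∃ d ∈ D, d ∉ E := by
    by_contra hc
    push Not at hc
    rw [inf_of_le_left hc, hD] at hI
    omega
  have hd2 : orderOf d = 2 := orderOf_eq_two (hs.dsq d hdD) fun e0 => hdE (e0 ▸ one_mem E)
  have he2 : orderOf e = 2 := orderOf_eq_two (hs.esq e heE) fun e0 => heD (e0 ▸ one_mem D)
  have hde : orderOf (d * e) = 4 := by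
    have h4 : (d * e) ^ (2 ^ (1 + 1)) = 1 := h.pow_four hs.two (mul_mem (hs.dU hdD) (hs.eU heE))
    refine orderOf_eq_prime_pow ?_ h4
    intro h2
    rw [pow_one, pow_two] at h2
    have hc : d * e = e * d := by
      rw [eq_inv_of_mul_eq_one_left h2, mul_inv_rev, Invol.inv_of_orderOf_two hd2, Invol.inv_of_orderOf_two he2]
    rcases hs.cent d hdD e heE hc with e0 | e0
    · exact hdE e0
    · exact heD e0
  obtain ⟨φ⟩ := Invol.nonempty_mulEquiv_dihedralGroup hd2 he2
  rw [hde] at φ
  have hcl : closure ({d, e} : Set G) = U := by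
    refine Subgroup.eq_of_le_of_card_ge ((closure_le U).mpr ?_) ?_
    · rintro a (rfl | rfl)
      · exact hs.dU hdD
      · exact hs.eU heE
    · rw [hU, Nat.card_congr φ.toEquiv, DihedralGroup.nat_card]
  have ψ : ↥(centralizer ({z} : Set G)) ≃* DihedralGroup 4 :=
    ((MulEquiv.subgroupCongr (hCz.trans hcl.symm))).trans φ
  obtain ⟨h2, -, -⟩ := h.dvd_card (not_solvable_of_simple hna)
  rcases Cfsg.Agent.S3035.result z hzo ⟨ψ⟩ with e1 | e1 | e1 | e1 | e1
  · exfalso
    have hO : Cfsg.oddCore G = ⊥ := by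
      haveI : (Cfsg.oddCore G).Normal := Cfsg.Agent.Grp.pPrimeCore_isNormal
      refine (IsSimpleGroup.eq_bot_or_eq_top_of_normal (Cfsg.oddCore G) inferInstance).resolve_right fun e0 => ?_
      have hco : (Nat.card (Cfsg.oddCore G)).Coprime 2 := Cfsg.Agent.Grp.pPrimeCore_coprime
      rw [e0, Subgroup.card_top] at hco
      exact (Nat.prime_two.coprime_iff_not_dvd).mp hco.symm h2
    rw [hO, sup_bot_eq, hCz] at e1
    have : Nat.card G = 8 := by rw [← hU, e1, Subgroup.card_top]
    omega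
  · exfalso
    obtain ⟨e1⟩ := e1
    rw [Nat.card_congr e1.toEquiv, Nat.card_perm, Nat.card_fin] at h9
    exact absurd h9 (by decide)
  · exfalso
    obtain ⟨e1⟩ := e1
    rw [Nat.card_congr e1.toEquiv, Nat.card_perm, Nat.card_fin] at h9
    exact absurd h9 (by decide)
  · exfalso
    obtain ⟨k, hk⟩ := sl32_seven
    exact h.no_seven_group e1 k hk
  · exact e1

/-- A simple group with element orders at most five is alternating of degree five or six. -/
theorem simple_case (h : Ord5 G) [IsSimpleGroup G] (hna : ¬ IsMulCommutative G) (hsmall : Small G) :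
    Nonempty (G ≃* alternatingGroup (Fin 5)) ∨ Nonempty (G ≃* alternatingGroup (Fin 6)) := by
  classical
  haveI := Fact.mk Nat.prime_two
  rcases nine_or_five h hna with h9 | h5'
  swap
  · exact Or.inl h5'
  right
  obtain ⟨h2, h3, h5⟩ := h.dvd_card (not_solvable_of_simple hna)
  by_cases hTI : ∀ S T : Sylow 2 G, S ≠ T → (S : Subgroup G) ⊓ T = ⊥
  · exact (ti_false h hna h9 hTI).elim
  push Not at hTI
  obtain ⟨S0, T0, hne0, hnb0⟩ := hTI
  obtain ⟨⟨S, T⟩, hST, hmax⟩ := Set.exists_max_image {p : Sylow 2 G × Sylow 2 G | p.1 ≠ p.2}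
    (fun p => Nat.card ((p.1 : Subgroup G) ⊓ p.2 : Subgroup G)) (Set.toFinite _) ⟨(S0, T0), hne0⟩
  set D := (S : Subgroup G) ⊓ T with hDdef
  have hD2 : IsPGroup 2 D := S.isPGroup'.to_le inf_le_left
  have hD1 : D ≠ ⊥ := fun e => by
    have h0 : Nat.card ((S0 : Subgroup G) ⊓ T0 : Subgroup G) ≤ Nat.card D := hmax (S0, T0) hne0
    rw [e, Subgroup.card_bot] at h0
    exact hnb0 (Subgroup.card_eq_one.mp (le_antisymm h0 Nat.card_pos))
  have hnn : ∀ X : Subgroup G, IsPGroup 2 X → X ≠ ⊥ → normalizer (X : Set G) ≠ ⊤ := by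
    intro X hX hX1 e
    rcases IsSimpleGroup.eq_bot_or_eq_top_of_normal X (Subgroup.normalizer_eq_top_iff.mp e) with e0 | e0
    · exact hX1 e0
    · obtain ⟨a, ha⟩ := IsPGroup.iff_card.mp hX
      rw [e0, Subgroup.card_top] at ha
      rw [ha] at h3
      exact absurd (Nat.prime_three.dvd_of_dvd_pow h3) (by norm_num)
  obtain ⟨hcore, x, hxN, hx4, hxD⟩ := pCore_of_max_inter h hST fun S' T' hne => hmax (S', T') hne
  obtain ⟨U, E, hs, hmaxU, hI2, hopt, hself⟩ := local_data h hsmall hD2 hD1 (hnn D hD2 hD1) hcore hxN hx4 hxD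
  have hl : Loc U D E :=
    { shape := hs
      maxN := hmaxU
      two_le := hI2
      selfC := hself
      eD := fun hle => by
        rw [inf_of_le_right hle] at hopt
        have := Nat.card_pos (α := E)
        rcases hopt with ⟨e, -⟩ | ⟨e, -⟩ <;> omega }
  obtain ⟨a, ha⟩ := IsPGroup.iff_card.mp (hD2.to_le (inf_le_left : D ⊓ E ≤ D))
  have hDc := hs.card
  -- the generic case
  have big : Nat.card E < Nat.card D → False := by
    intro hlt
    obtain ⟨P, hP⟩ := hl.sylow h (Or.inl hlt)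
    have hwc : ∀ g : G, (∀ d ∈ D, g * d * g⁻¹ ∈ U) → g ∈ normalizer (D : Set G) :=
      fun g hg => hl.weakly_closed h hlt.le hP hg
    have hti : ∀ g d : G, d ∈ D → d ≠ 1 → g * d * g⁻¹ ∈ D → g ∈ normalizer (D : Set G) :=
      fun g d hd hd1 hgd => hl.ti h hP hwc hd hd1 hgd
    by_cases hall : ∀ e ∈ E, e ∉ D → centralizer ({e} : Set G) = E
    · refine hl.alpha_false h (hnn D hD2 hD1) hti hall fun d hd _ => lt_of_lt_of_le hlt ?_
      exact Nat.card_le_card_of_injective _ (Subgroup.inclusion_injective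
        (show D ≤ centralizer ({d} : Set G) from fun y hy =>
          mem_centralizer_singleton_iff.mpr (comm_of_sq hs.dsq y hy d hd)))
    · push Not at hall
      obtain ⟨e, he, heD, hC⟩ := hall
      exact hlt.ne (hl.beta h hP he heD hC).2.2
  rcases a with _ | _ | a
  · rw [ha, pow_zero] at hI2; omega
  · -- `D` is a four-group
    rw [ha] at hopt hDc
    norm_num at hopt hDc
    rcases hopt with ⟨hE, -⟩ | ⟨hE, hN⟩
    · exact six_of_small h hna h9 hl hDc hE (by rw [ha]; norm_num)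
    · exfalso
      obtain ⟨z, hzI, hz1⟩ : ∃ z ∈ D ⊓ E, z ≠ 1 := by
        by_contra hc
        push Not at hc
        rw [(Subgroup.eq_bot_iff_forall _).mpr hc, Subgroup.card_bot] at hI2
        omega
      have hU : Nat.card U = 16 := by
        have := hs.card_U
        rw [hDc, hE, ha] at this
        norm_num at this
        omega
      have hb := (orbit_bound h (X := D) (fun m hm y hy => (mem_normalizer_iff.mp hm y).mp hy) hmaxU
        (orderOf_eq_two (hs.dsq z hzI.1) hz1) hzI.1 (hs.inter_central hzI)).1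
      rw [hN, hU, hDc] at hb
      norm_num at hb
  exfalso
  have hi4 : 4 ≤ Nat.card (D ⊓ E : Subgroup G) := by
    rw [ha]
    calc 4 = 2 ^ 2 := by norm_num
      _ ≤ 2 ^ (a + 1 + 1) := Nat.pow_le_pow_right two_pos (by omega)
  rcases hopt with ⟨hE, -⟩ | ⟨hE, hN⟩
  · exact big (by rw [hE, hDc, pow_two]; exact Nat.mul_lt_mul_of_pos_right (by omega) (by omega))
  rcases (Nat.eq_or_lt_of_le hi4).symm with hi | hi
  · exact big (by rw [hE, hDc, pow_two]; exact Nat.mul_lt_mul_of_pos_right (by omega) (by omega))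
  -- order sixteen
  have hI4 : Nat.card (D ⊓ E : Subgroup G) = 4 := hi.symm
  rw [hI4] at hE hDc
  norm_num at hE hDc
  have hle : Nat.card E ≤ Nat.card D := by omega
  have hU : Nat.card U = 64 := by
    have := hs.card_U
    rw [hDc, hE, hI4] at this
    omega
  obtain ⟨P, hP⟩ := hl.sylow h (Or.inr ⟨by omega, by omega⟩)
  have hwc : ∀ g : G, (∀ d ∈ D, g * d * g⁻¹ ∈ U) → g ∈ normalizer (D : Set G) :=
    fun g hg => hl.weakly_closed h hle hP hg
  have hti : ∀ g d : G, d ∈ D → d ≠ 1 → g * d * g⁻¹ ∈ D → g ∈ normalizer (D : Set G) :=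
    fun g d hd hd1 hgd => hl.ti h hP hwc hd hd1 hgd
  obtain ⟨z, hzI, hz1⟩ : ∃ z ∈ D ⊓ E, z ≠ 1 := by
    by_contra hc
    push Not at hc
    rw [(Subgroup.eq_bot_iff_forall _).mpr hc, Subgroup.card_bot] at hI4
    omega
  have hzo : orderOf z = 2 := orderOf_eq_two (hs.dsq z hzI.1) hz1
  have hCz : centralizer ({z} : Set G) = U := by
    refine le_antisymm ?_ fun u hu => mem_centralizer_singleton_iff.mpr (hs.inter_central hzI u hu)
    have hle' : (P : Subgroup G) ≤ centralizer ({z} : Set G) := by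
      rw [hP]; exact fun u hu => mem_centralizer_singleton_iff.mpr (hs.inter_central hzI u hu)
    rw [← hP]
    exact (P.is_maximal' (h.centralizer_involution hzo) hle').le
  have hDorb : ∀ y ∈ D, y ≠ 1 → ∃ g : G, g * z * g⁻¹ = y := fun y hy hy1 => by
    obtain ⟨m, -, hm⟩ := (orbit_bound h (X := D) (fun m hm w hw => (mem_normalizer_iff.mp hm w).mp hw) hmaxU
      hzo hzI.1 (hs.inter_central hzI)).2 (by rw [hN, hU, hDc]) y hy hy1
    exact ⟨m, hm⟩
  by_cases hall : ∀ e ∈ E, e ∉ D → centralizer ({e} : Set G) = E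
  · refine hl.alpha_false h (hnn D hD2 hD1) hti hall fun d hd hd1 => ?_
    obtain ⟨g, rfl⟩ := hDorb d hd hd1
    rw [card_centralizer_conj, hCz, hU, hE]
    norm_num
  push Not at hall
  obtain ⟨e, he, heD, hC⟩ := hall
  obtain ⟨hcoreE, hmaxE, -⟩ := hl.beta h hP he heD hC
  have hE1 : E ≠ ⊥ := fun e0 => hl.eD (by rw [e0]; exact bot_le)
  have hE2 : IsPGroup 2 E := hs.two.to_le hs.eU
  obtain ⟨d, hdD, hdE⟩ : ∃ d ∈ D, d ∉ E := by
    by_contra hc
    push Not at hc
    rw [inf_of_le_left hc, hDc] at hI4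
    omega
  obtain ⟨U', E', hs', hmaxU', -, hopt', -⟩ := local_data h hsmall hE2 hE1 (hnn E hE2 hE1) hcoreE
    (hs.enorm (hs.dU hdD)) (h.pow_four hs.two (hs.dU hdD)) hdE
  have hN' : Nat.card (normalizer (E : Set G)) = 60 * Nat.card E := by
    rcases hopt' with ⟨he', -⟩ | ⟨-, hn'⟩
    · exfalso
      have hc1 := hs'.card
      rw [hE] at hc1
      have hi' : Nat.card (E ⊓ E' : Subgroup G) = 4 := by
        nlinarith
      have := hs'.card_U
      rw [hmaxU'.card_eq hmaxE, hU, hE, he', hi'] at this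
      norm_num at this
    · exact hn'
  have hEorb : ∀ y ∈ E, y ≠ 1 → ∃ g : G, g * z * g⁻¹ = y := fun y hy hy1 => by
    obtain ⟨m, -, hm⟩ := (orbit_bound h (X := E) (fun m hm w hw => (mem_normalizer_iff.mp hm w).mp hw) hmaxE
      hzo hzI.2 (hs.inter_central hzI)).2 (by rw [hN', hU, hE]) y hy hy1
    exact ⟨m, hm⟩
  have hone : ∀ i : G, orderOf i = 2 → ∃ g : G, g * z * g⁻¹ = i := by
    intro i hi
    obtain ⟨Q, hQ⟩ := (IsPGroup.of_card (n := 1) (by rw [Nat.card_zpowers, hi, pow_one]) :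
      IsPGroup 2 (zpowers i)).exists_le_sylow
    obtain ⟨g, hg⟩ := MulAction.exists_smul_eq G Q P
    have hm : g * i * g⁻¹ ∈ U := by
      rw [← hP, ← hg, Sylow.coe_subgroup_smul]
      exact Subgroup.smul_mem_pointwise_smul i (MulAut.conj g) _ (hQ (mem_zpowers i))
    have hne : g * i * g⁻¹ ≠ 1 := fun e0 => Invol.ne_one_of_orderOf_two hi (by
      rwa [mul_inv_eq_one, mul_eq_left] at e0)
    have hsq : g * i * g⁻¹ * (g * i * g⁻¹) = 1 := by
      rw [show g * i * g⁻¹ * (g * i * g⁻¹) = g * (i * i) * g⁻¹ by group, Invol.mul_self_of_orderOf_two hi]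
      group
    obtain ⟨b, hb⟩ := (hs.inv _ hm hsq).elim (fun e0 => hDorb _ e0 hne) (fun e0 => hEorb _ e0 hne)
    exact ⟨g⁻¹ * b, by
      rw [show g⁻¹ * b * z * (g⁻¹ * b)⁻¹ = g⁻¹ * (b * z * b⁻¹) * g by group, hb]; group⟩
  obtain ⟨hca, hcc⟩ := hs.pairs_card h hE hDc hI4 hzI hz1 hCz
  refine count_false h hzo hone (by rw [hCz, hU]) ?_ hca hcc (Or.inr (Or.inr (Or.inr ⟨rfl, rfl⟩))) h9 h5
  rintro ⟨c, hc⟩
  refine P.not_dvd_index ⟨c, Nat.eq_of_mul_eq_mul_left (Nat.card_pos (α := (P : Subgroup G))) ?_⟩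
  rw [Subgroup.card_mul_index, hc, hP, hU]
  ring

end Cfsg.Agent.Block.Spec5
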