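import Mathlib
import Cfsg.Agent.S3992
import Cfsg.Agent.Lib.Block.Spec5.Simple

/-!
Groups with element orders at most five which are not solvable.
-/

set_option autoImplicit false
set_option linter.unusedSectionVars false
set_option linter.style.haveILetI false
set_option maxRecDepth 8000

namespace Cfsg.Agent.Block.Spec5

open Subgroup

universe u

variable {G : Type u} [Group G] [Finite G]

/-- A four group `{1, a, b, a * b}` permuted cyclically by `w`, self-centralising. -/
structure FourData (a b w : G) : Prop where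
  aa : a * a = 1
  bb : b * b = 1
  comm : a * b = b * a
  a_ne : a ≠ 1
  b_ne : b ≠ 1
  ab_ne : a ≠ b
  www : w ^ 3 = 1
  w_ne : w ≠ 1
  wa : w * a * w⁻¹ = b
  wb : w * b * w⁻¹ = a * b
  cent : ∀ x, x * a = a * x → x * b = b * x → x = 1 ∨ x = a ∨ x = b ∨ x = a * b

theorem fourData_five : ∃ a b w : alternatingGroup (Fin 5), FourData a b w := by
  refine ⟨⟨Equiv.swap 0 1 * Equiv.swap 2 3, Equiv.Perm.mem_alternatingGroup.mpr (by decide)⟩,
    ⟨Equiv.swap 1 2 * Equiv.swap 0 3, Equiv.Perm.mem_alternatingGroup.mpr (by decide)⟩,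
    ⟨Equiv.swap 0 1 * Equiv.swap 1 2, Equiv.Perm.mem_alternatingGroup.mpr (by decide)⟩, ?_⟩
  constructor <;> decide +kernel

theorem fourData_six : ∃ a b w : alternatingGroup (Fin 6), FourData a b w := by
  refine ⟨⟨Equiv.swap 0 1 * Equiv.swap 2 3, Equiv.Perm.mem_alternatingGroup.mpr (by decide)⟩,
    ⟨Equiv.swap 1 2 * Equiv.swap 0 3, Equiv.Perm.mem_alternatingGroup.mpr (by decide)⟩,
    ⟨Equiv.swap 0 1 * Equiv.swap 1 2, Equiv.Perm.mem_alternatingGroup.mpr (by decide)⟩, ?_⟩
  constructor <;> decide +kernel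

theorem invPair_five : ∃ k t : alternatingGroup (Fin 5), InvPair 3 k t := by
  refine ⟨⟨Equiv.swap 0 1 * Equiv.swap 1 2, Equiv.Perm.mem_alternatingGroup.mpr (by decide)⟩,
    ⟨Equiv.swap 0 1 * Equiv.swap 3 4, Equiv.Perm.mem_alternatingGroup.mpr (by decide)⟩,
    Nat.prime_three, by decide, ?_, ?_, ?_, ?_⟩ <;> decide +kernel

theorem five_three_count : Nat.card {x : alternatingGroup (Fin 5) // x ^ 3 = 1 ∧ x ≠ 1} = 20 := by
  rw [Nat.card_eq_fintype_card]
  decide +kernel

theorem alt_card : Nat.card (alternatingGroup (Fin 5)) = 60 ∧ Nat.card (alternatingGroup (Fin 6)) = 360 := by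
  refine ⟨?_, ?_⟩ <;> rw [nat_card_alternatingGroup, Nat.card_fin] <;> norm_num [Nat.factorial]

theorem FourData.map {K : Type*} [Group K] {a b w : G} (d : FourData a b w) (e : G ≃* K) :
    FourData (e a) (e b) (e w) where
  aa := by rw [← map_mul, d.aa, map_one]
  bb := by rw [← map_mul, d.bb, map_one]
  comm := by rw [← map_mul, ← map_mul, d.comm]
  a_ne := fun h => d.a_ne (e.injective (by rw [h, map_one]))
  b_ne := fun h => d.b_ne (e.injective (by rw [h, map_one]))
  ab_ne := fun h => d.ab_ne (e.injective h)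
  www := by rw [← map_pow, d.www, map_one]
  w_ne := fun h => d.w_ne (e.injective (by rw [h, map_one]))
  wa := by rw [← map_inv, ← map_mul, ← map_mul, d.wa]
  wb := by rw [← map_inv, ← map_mul, ← map_mul, d.wb, map_mul]
  cent := fun x h1 h2 => by
    obtain ⟨y, rfl⟩ := e.surjective x
    rw [← map_mul, ← map_mul] at h1 h2
    rcases d.cent y (e.injective h1) (e.injective h2) with rfl | rfl | rfl | rfl
    · exact Or.inl (map_one e)
    · exact Or.inr (Or.inl rfl)
    · exact Or.inr (Or.inr (Or.inl rfl))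
    · exact Or.inr (Or.inr (Or.inr (map_mul e a b)))

/-- The four group as a subgroup. -/
def FourData.D {a b w : G} (d : FourData a b w) : Subgroup G where
  carrier := {1, a, b, a * b}
  one_mem' := Or.inl rfl
  mul_mem' := by
    have e1 : a * (a * b) = b := by rw [← mul_assoc, d.aa, one_mul]
    have e2 : b * (a * b) = a := by rw [d.comm, ← mul_assoc, d.bb, one_mul]
    have e3 : a * b * a = b := by rw [d.comm, mul_assoc, d.aa, mul_one]
    have e4 : a * b * b = a := by rw [mul_assoc, d.bb, mul_one]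
    have e5 : a * b * (a * b) = 1 := by rw [← mul_assoc, e3, d.bb]
    intro x y hx hy
    simp only [Set.mem_insert_iff, Set.mem_singleton_iff] at hx hy ⊢
    rcases hx with rfl | rfl | rfl | rfl <;> rcases hy with rfl | rfl | rfl | rfl <;>
      simp only [one_mul, mul_one, d.aa, d.bb, e1, e2, e3, e4, e5, ← d.comm, true_or, or_true]
  inv_mem' := by
    have ia : a⁻¹ = a := inv_eq_of_mul_eq_one_left d.aa
    have ib : b⁻¹ = b := inv_eq_of_mul_eq_one_left d.bb
    intro x hx
    simp only [Set.mem_insert_iff, Set.mem_singleton_iff] at hx ⊢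
    rcases hx with rfl | rfl | rfl | rfl <;>
      simp only [inv_one, mul_inv_rev, ia, ib, ← d.comm, true_or, or_true]

theorem FourData.mem_D {a b w : G} (d : FourData a b w) {x : G} :
    x ∈ d.D ↔ x = 1 ∨ x = a ∨ x = b ∨ x = a * b := Iff.rfl

theorem FourData.card_D {a b w : G} (d : FourData a b w) : Nat.card d.D = 4 := by
  have h1 : a * b ≠ 1 := fun e => d.ab_ne (by
    rw [eq_inv_of_mul_eq_one_left e, inv_eq_of_mul_eq_one_left d.bb])
  have h2 : a * b ≠ a := fun e => d.b_ne (mul_eq_left.mp e)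
  have h3 : a * b ≠ b := fun e => d.a_ne (mul_eq_right.mp e)
  rw [show Nat.card d.D = ({1, a, b, a * b} : Set G).ncard from Nat.card_coe_set_eq _]
  rw [Set.ncard_insert_of_notMem (by simp [d.a_ne.symm, d.b_ne.symm, h1.symm]),
    Set.ncard_insert_of_notMem (by simp [d.ab_ne, h2.symm]),
    Set.ncard_insert_of_notMem (by simp [h3.symm]), Set.ncard_singleton]

theorem FourData.isPGroup {a b w : G} (d : FourData a b w) : IsPGroup 2 d.D :=
  IsPGroup.of_card (n := 2) (by rw [d.card_D]; norm_num)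

theorem FourData.dsq {a b w : G} (d : FourData a b w) {x : G} (hx : x ∈ d.D) : x * x = 1 := by
  have e3 : a * b * a = b := by rw [d.comm, mul_assoc, d.aa, mul_one]
  rcases d.mem_D.mp hx with rfl | rfl | rfl | rfl
  · exact one_mul 1
  · exact d.aa
  · exact d.bb
  · rw [← mul_assoc, e3, d.bb]

/-- Self-centralisation passes from a normal subgroup to the whole group. -/
theorem four_lift (h : Ord5 G) (M : Subgroup G) [hM : M.Normal] {a b w : M} (d : FourData a b w) :
    FourData (a : G) (b : G) (w : G) where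
  aa := congrArg Subtype.val d.aa
  bb := congrArg Subtype.val d.bb
  comm := congrArg Subtype.val d.comm
  a_ne := fun e => d.a_ne (Subtype.ext e)
  b_ne := fun e => d.b_ne (Subtype.ext e)
  ab_ne := fun e => d.ab_ne (Subtype.ext e)
  www := congrArg Subtype.val d.www
  w_ne := fun e => d.w_ne (Subtype.ext e)
  wa := congrArg Subtype.val d.wa
  wb := congrArg Subtype.val d.wb
  cent := fun x h1 h2 => by
    have hwa : (w : G) * a * (w : G)⁻¹ = b := congrArg Subtype.val d.wa
    have hwb : (w : G) * b * (w : G)⁻¹ = a * b := congrArg Subtype.val d.wb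
    have haa : (a : G) * a = 1 := congrArg Subtype.val d.aa
    have hbb : (b : G) * b = 1 := congrArg Subtype.val d.bb
    have hab : (a : G) * b = b * a := congrArg Subtype.val d.comm
    have ia : (a : G)⁻¹ = a := inv_eq_of_mul_eq_one_left haa
    have ib : (b : G)⁻¹ = b := inv_eq_of_mul_eq_one_left hbb
    let c := centralizer ({(a : G), (b : G)} : Set G)
    have hc : ∀ y, y ∈ c ↔ y * a = a * y ∧ y * b = b * y := fun y => by
      simp only [c, mem_centralizer_iff, Set.mem_insert_iff, Set.mem_singleton_iff, forall_eq_or_imp, forall_eq]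
      exact ⟨fun ⟨p, q⟩ => ⟨p.symm, q.symm⟩, fun ⟨p, q⟩ => ⟨p.symm, q.symm⟩⟩
    have hx : x ∈ c := (hc x).mpr ⟨h1, h2⟩
    have hwnorm : ∀ y ∈ c, (w : G) * y * (w : G)⁻¹ ∈ c := fun y hy => by
      obtain ⟨q1, q2⟩ := (hc y).mp hy
      have cb : Commute ((w : G) * y * (w : G)⁻¹) b := by
        rw [← hwa]; exact Commute.conj_iff (w : G) |>.mpr q1
      have cab : Commute ((w : G) * y * (w : G)⁻¹) (a * b) := by
        rw [← hwb]; exact Commute.conj_iff (w : G) |>.mpr q2
      refine (hc _).mpr ⟨?_, cb⟩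
      have := cab.mul_right cb
      rwa [show (a : G) * b * b = a by rw [mul_assoc, hbb, mul_one]] at this
    -- the commutator with `w`
    set m := x⁻¹ * ((w : G) * x * (w : G)⁻¹) with hm
    have hmM : m ∈ M := by
      have e : m = (x⁻¹ * w * x) * (w : G)⁻¹ := by rw [hm]; group
      rw [e]
      exact mul_mem (by simpa using hM.conj_mem _ w.2 x⁻¹) (inv_mem w.2)
    obtain ⟨q1, q2⟩ := (hc m).mp (mul_mem (inv_mem hx) (hwnorm x hx))
    -- it is the commutator of an element of the four group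
    obtain ⟨dd, hdd, hdm⟩ : ∃ dd, (dd = 1 ∨ dd = (a : G) ∨ dd = b ∨ dd = a * b) ∧
        m = dd⁻¹ * ((w : G) * dd * (w : G)⁻¹) := by
      rcases d.cent ⟨m, hmM⟩ (Subtype.ext q1) (Subtype.ext q2) with e | e | e | e
      · exact ⟨1, Or.inl rfl, by rw [show m = 1 from congrArg Subtype.val e]; group⟩
      · refine ⟨b, Or.inr (Or.inr (Or.inl rfl)), ?_⟩
        rw [show m = a from congrArg Subtype.val e, hwb, ib, hab, ← mul_assoc, hbb, one_mul]
      · refine ⟨a * b, Or.inr (Or.inr (Or.inr rfl)), ?_⟩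
        rw [show m = b from congrArg Subtype.val e,
          show (w : G) * (a * b) * (w : G)⁻¹ = ((w : G) * a * (w : G)⁻¹) * ((w : G) * b * (w : G)⁻¹) by group,
          hwa, hwb, mul_inv_rev, ia, ib]
        rw [show (b : G) * a * (b * (a * b)) = b * a * b * (a * b) by group, ← hab,
          mul_assoc (a : G) b b, hbb, mul_one, ← mul_assoc, haa, one_mul]
      · refine ⟨a, Or.inr (Or.inl rfl), ?_⟩
        rw [show m = a * b from congrArg Subtype.val e, hwa, ia]
    have hdc : dd ∈ c := by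
      refine (hc dd).mpr ?_
      rcases hdd with rfl | rfl | rfl | rfl
      · simp
      · exact ⟨rfl, hab⟩
      · exact ⟨hab.symm, rfl⟩
      · exact ⟨by rw [mul_assoc, ← hab], by rw [← mul_assoc, ← hab]⟩
    set y := x * dd⁻¹ with hy
    have hcomm : Commute (w : G) y := by
      have e : (w : G) * x * (w : G)⁻¹ = x * (dd⁻¹ * ((w : G) * dd * (w : G)⁻¹)) := by
        rw [← hdm, hm]; group
      show (w : G) * (x * dd⁻¹) = x * dd⁻¹ * w
      calc (w : G) * (x * dd⁻¹) = ((w : G) * x * (w : G)⁻¹) * ((w : G) * dd⁻¹) := by group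
        _ = x * dd⁻¹ * w := by rw [e]; group
    haveI := Fact.mk Nat.prime_two
    have hao : orderOf (a : G) = 2 := orderOf_eq_two haa fun e => d.a_ne (Subtype.ext e)
    have hC2 := h.centralizer_involution hao
    have hyC : y ∈ centralizer ({(a : G)} : Set G) :=
      mem_centralizer_singleton_iff.mpr ((hc y).mp (mul_mem hx (inv_mem hdc))).1
    have hy1 : y = 1 := h.fix_eq_one Nat.prime_three (by norm_num) (congrArg Subtype.val d.www)
      (fun e => d.w_ne (Subtype.ext e)) (h.pow_four hC2 hyC) hcomm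
    rw [hy, mul_inv_eq_one] at hy1
    exact hy1 ▸ hdd

/-- A 2-subgroup containing a self-centralising four group has order at most eight. -/
theorem FourData.card_le_eight (h : Ord5 G) {a b w : G} (d : FourData a b w) {Q : Subgroup G}
    (hQ : IsPGroup 2 Q) (hle : d.D ≤ Q) : Nat.card Q = 4 ∨ Nat.card Q = 8 := by
  haveI := Fact.mk Nat.prime_two
  obtain ⟨n, hn⟩ := IsPGroup.iff_card.mp hQ
  have hA : Nat.card (d.D.subgroupOf Q) = 2 ^ 2 := by
    rw [Nat.card_congr (Subgroup.subgroupOfEquivOfLe hle).toEquiv, d.card_D]; norm_num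
  have h4 : 4 ≤ 2 ^ n := hn ▸ d.card_D ▸ Nat.card_le_card_of_injective _ (Subgroup.inclusion_injective hle)
  have h2n : 2 ≤ n := by
    by_contra hc
    have := Nat.pow_le_pow_right (show 0 < 2 by norm_num) (show n ≤ 1 by omega)
    omega
  rcases Nat.eq_or_lt_of_le h2n with e | h3n
  · left; rw [hn, ← e]; norm_num
  right
  have hC : centralizer ((d.D.subgroupOf Q : Subgroup Q) : Set Q) = d.D.subgroupOf Q := by
    refine le_antisymm (fun y hy => Subgroup.mem_subgroupOf.mpr ?_) fun y hy => ?_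
    · have hyc : ∀ x ∈ d.D, (y : G) * x = x * y := fun x hx =>
        (congrArg Subtype.val (mem_centralizer_iff.mp hy ⟨x, hle hx⟩ (Subgroup.mem_subgroupOf.mpr hx))).symm
      exact d.mem_D.mpr (d.cent y (hyc a (d.mem_D.mpr (Or.inr (Or.inl rfl))))
        (hyc b (d.mem_D.mpr (Or.inr (Or.inr (Or.inl rfl))))))
    · exact mem_centralizer_iff.mpr fun x hx => Subtype.ext
        (comm_of_sq (fun z hz => d.dsq hz) _ (Subgroup.mem_subgroupOf.mp hx) _ (Subgroup.mem_subgroupOf.mp hy))
  obtain ⟨C, hCc, hCi⟩ := Cfsg.Agent.S0113.result n h3n hn (Cfsg.Agent.S0112.result n hn _ hA hC)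
  obtain ⟨c, hc⟩ := hCc.exists_generator
  have hC5 : Nat.card C ≤ 5 := by
    rw [← orderOf_eq_card_of_forall_mem_zpowers hc, ← Subgroup.orderOf_coe]
    exact (h.subgroup _) _
  have := Subgroup.card_mul_index C
  rw [hCi, hn] at this
  have hn' : n = 3 := by
    by_contra hne
    have := Nat.pow_le_pow_right (show 0 < 2 by norm_num) (show 4 ≤ n by omega)
    omega
  rw [hn, hn']
  norm_num

/-- A nontrivial odd-order normal subgroup cannot lie below a four group. -/
theorem radical_odd (h : Ord5 G) (R : Subgroup G) [R.Normal] {p : ℕ} [hp : Fact p.Prime] (hp2 : p ≠ 2)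
    (hR : IsPGroup p R) {a b w : G ⧸ R} (d : FourData a b w) : R = ⊥ := by
  have lift : ∀ x : G, (x : G ⧸ R) * x = 1 → (x : G ⧸ R) ≠ 1 → x * x = 1 := by
    intro x hx hx1
    have hmem : x * x ∈ R := (QuotientGroup.eq_one_iff _).mp (by rw [QuotientGroup.mk_mul, hx])
    obtain ⟨k, hk⟩ := IsPGroup.iff_orderOf.mp hR ⟨x * x, hmem⟩
    rw [Subgroup.orderOf_mk] at hk
    have h2 : 2 ∣ orderOf x := by
      have := orderOf_map_dvd (QuotientGroup.mk' R) x
      rwa [show orderOf (QuotientGroup.mk' R x) = 2 from orderOf_eq_two hx hx1] at this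
    have h5 := h x
    have h0 := orderOf_pos x
    have hpow : x ^ orderOf x = 1 := pow_orderOf_eq_one x
    obtain ⟨q, hq⟩ := h2
    obtain rfl | rfl : q = 1 ∨ q = 2 := by omega
    · rw [hq] at hpow
      rw [← pow_two]; exact hpow
    · exfalso
      have : orderOf (x ^ 2) = 2 := by rw [orderOf_pow, hq]; norm_num
      rw [pow_two, hk] at this
      rcases k with _ | k
      · simp at this
      · exact hp2 ((Nat.prime_dvd_prime_iff_eq hp.out Nat.prime_two).mp (this ▸ dvd_pow_self p (by omega)))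
  obtain ⟨x, rfl⟩ := QuotientGroup.mk_surjective a
  obtain ⟨y, rfl⟩ := QuotientGroup.mk_surjective b
  have hab1 : ((x * y : G) : G ⧸ R) ≠ 1 := fun e => d.ab_ne (by
    rw [QuotientGroup.mk_mul] at e
    rw [eq_inv_of_mul_eq_one_left e, inv_eq_of_mul_eq_one_left d.bb])
  have hab2 : ((x * y : G) : G ⧸ R) * ((x * y : G) : G ⧸ R) = 1 := by
    rw [QuotientGroup.mk_mul]; exact d.dsq (d.mem_D.mpr (Or.inr (Or.inr (Or.inr rfl))))
  refine (Subgroup.eq_bot_iff_forall R).mpr fun r hr => ?_
  have hmk : ∀ z : G, ((z * r : G) : G ⧸ R) = z := fun z => by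
    rw [QuotientGroup.mk_mul, (QuotientGroup.eq_one_iff r).mpr hr, mul_one]
  have inv : ∀ z : G, (z : G ⧸ R) * z = 1 → (z : G ⧸ R) ≠ 1 → z * r * z = r⁻¹ := fun z h1 h2 =>
    eq_inv_of_mul_eq_one_left (by rw [mul_assoc]; exact lift (z * r) (by rw [hmk]; exact h1) (by rw [hmk]; exact h2))
  have hxx := lift x d.aa d.a_ne
  have hyy := lift y d.bb d.b_ne
  have hxy := lift (x * y) hab2 hab1
  have e1 := inv x d.aa d.a_ne
  have e2 := inv y d.bb d.b_ne
  have e3 := inv (x * y) hab2 hab1
  have hcm : x * y = y * x := by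
    rw [eq_inv_of_mul_eq_one_left hxy, mul_inv_rev, inv_eq_of_mul_eq_one_left hxx,
      inv_eq_of_mul_eq_one_left hyy]
  have e4 : x * y * r * (x * y) = r := by
    calc x * y * r * (x * y) = x * (y * r * y) * x := by rw [hcm]; nth_rw 1 [← hcm]; group
      _ = (x * r * x)⁻¹ := by rw [e2, mul_inv_rev, mul_inv_rev, inv_eq_of_mul_eq_one_left hxx]; group
      _ = r := by rw [e1, inv_inv]
  have hr2 : r * r = 1 := mul_eq_one_iff_eq_inv.mpr (e4.symm.trans e3)
  by_contra hr1
  obtain ⟨k, hk⟩ := IsPGroup.iff_orderOf.mp hR ⟨r, hr⟩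
  rw [Subgroup.orderOf_mk, orderOf_eq_two hr2 hr1] at hk
  rcases k with _ | k
  · simp at hk
  · exact hp2 ((Nat.prime_dvd_prime_iff_eq hp.out Nat.prime_two).mp (hk ▸ dvd_pow_self p (by omega)))

/-- A normal subgroup isomorphic to the alternating group of degree six is everything. -/
theorem top_of_six (h : Ord5 G) (M : Subgroup G) [hM : M.Normal] (e : M ≃* alternatingGroup (Fin 6)) :
    M = ⊤ := by
  haveI := Fact.mk Nat.prime_two
  obtain ⟨a0, b0, w0, d0⟩ := fourData_six
  have dM := d0.map e.symm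
  have d := four_lift h M dM
  obtain ⟨S, hS⟩ := (dM.isPGroup).exists_le_sylow
  have hcM : Nat.card M = 360 := (Nat.card_congr e.toEquiv).trans alt_card.2
  have hS8 : Nat.card (S : Subgroup M) = 8 := by
    rw [S.card_eq_multiplicity, hcM, show 360 = 2 ^ 3 * 45 by norm_num,
      Nat.factorization_mul (by norm_num) (by norm_num), Nat.Prime.factorization_pow Nat.prime_two]
    simp [Nat.factorization_eq_zero_of_not_dvd (show ¬ 2 ∣ 45 by norm_num)]
  set Q := (S : Subgroup M).map M.subtype with hQdef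
  have hQ2 : IsPGroup 2 Q := S.isPGroup'.map _
  have hQ8 : Nat.card Q = 8 := (Subgroup.card_map_of_injective (Subgroup.subtype_injective M)).trans hS8
  have hQM : Q ≤ M := Subgroup.map_subtype_le _
  have hDQ : d.D ≤ Q := fun x hx => by
    rcases d.mem_D.mp hx with rfl | rfl | rfl | rfl
    · exact one_mem Q
    · exact Subgroup.mem_map_of_mem _ (hS (dM.mem_D.mpr (Or.inr (Or.inl rfl))))
    · exact Subgroup.mem_map_of_mem _ (hS (dM.mem_D.mpr (Or.inr (Or.inr (Or.inl rfl)))))
    · exact Subgroup.mem_map_of_mem _ (hS (dM.mem_D.mpr (Or.inr (Or.inr (Or.inr rfl)))))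
  -- `Q` is a Sylow subgroup of the whole group
  have hQmax : ∀ P : Subgroup G, IsPGroup 2 P → Q ≤ P → P = Q := fun P hP hle => by
    rcases d.card_le_eight h hP (hDQ.trans hle) with e4 | e8
    · have := Nat.card_le_card_of_injective _ (Subgroup.inclusion_injective hle); omega
    · exact (Subgroup.eq_of_le_of_card_ge hle (by rw [e8, hQ8])).symm
  -- the centre of `Q`
  haveI : Nontrivial Q := Finite.one_lt_card_iff_nontrivial.mp (by rw [hQ8]; norm_num)
  haveI := hQ2.center_nontrivial
  obtain ⟨z, hz1⟩ := exists_ne (1 : center Q)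
  have cD : ∀ y : Q, y ∈ center Q → (y : G) ∈ d.D := fun y hy => d.mem_D.mpr (d.cent y
      (congrArg Subtype.val (mem_center_iff.mp hy ⟨(e.symm a0 : G), hDQ (d.mem_D.mpr (Or.inr (Or.inl rfl)))⟩)).symm
      (congrArg Subtype.val (mem_center_iff.mp hy ⟨(e.symm b0 : G), hDQ (d.mem_D.mpr (Or.inr (Or.inr (Or.inl rfl))))⟩)).symm)
  have huniq : ∀ y ∈ center Q, y = 1 ∨ y = (z : Q) := by
    intro y hy
    by_contra hne
    push Not at hne
    obtain ⟨hy1, hyz⟩ := hne
    obtain ⟨q, hqQ, hqD⟩ : ∃ q ∈ Q, q ∉ d.D := by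
      by_contra hc
      push Not at hc
      have := Nat.card_le_card_of_injective _ (Subgroup.inclusion_injective (show Q ≤ d.D from hc))
      rw [hQ8, d.card_D] at this
      omega
    refine hqD (d.mem_D.mpr ?_)
    have hall : d.D ≤ centralizer ({q} : Set G) := by
      have h1 : (y : G) ∈ d.D ⊓ centralizer ({q} : Set G) :=
        ⟨cD y hy, mem_centralizer_singleton_iff.mpr (congrArg Subtype.val (mem_center_iff.mp hy ⟨q, hqQ⟩)).symm⟩
      have h2 : ((z : Q) : G) ∈ d.D ⊓ centralizer ({q} : Set G) :=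
        ⟨cD _ z.2, mem_centralizer_singleton_iff.mpr (congrArg Subtype.val (mem_center_iff.mp z.2 ⟨q, hqQ⟩)).symm⟩
      have h3 : 3 ≤ Nat.card (d.D ⊓ centralizer ({q} : Set G) : Subgroup G) := by
        have hsub : ({1, (y : G), ((z : Q) : G)} : Set G) ⊆ (d.D ⊓ centralizer ({q} : Set G) : Subgroup G) := by
          rintro x (rfl | rfl | rfl)
          · exact one_mem _
          · exact h1
          · exact h2
        have hn := Set.ncard_le_ncard hsub (Set.toFinite _)
        rw [Set.ncard_insert_of_notMem (by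
            simp only [Set.mem_insert_iff, Set.mem_singleton_iff, not_or]
            exact ⟨fun e1 => hy1 (Subtype.ext e1.symm), fun e1 => hz1 (Subtype.ext (Subtype.ext e1.symm))⟩),
          Set.ncard_pair (fun e1 => hyz (Subtype.ext e1)), ← Nat.card_coe_set_eq] at hn
        exact hn
      have h4 : Nat.card (d.D ⊓ centralizer ({q} : Set G) : Subgroup G) ∣ 4 :=
        d.card_D ▸ Subgroup.card_dvd_of_le inf_le_left
      have h5 : Nat.card (d.D ⊓ centralizer ({q} : Set G) : Subgroup G) = 4 := by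
        have := Nat.le_of_dvd (by norm_num) h4
        interval_cases hh : Nat.card (d.D ⊓ centralizer ({q} : Set G) : Subgroup G) <;> omega
      exact inf_eq_left.mp (Subgroup.eq_of_le_of_card_ge inf_le_left (by rw [h5, d.card_D]))
    exact d.cent q ((mem_centralizer_singleton_iff.mp (hall (d.mem_D.mpr (Or.inr (Or.inl rfl))))).symm)
      ((mem_centralizer_singleton_iff.mp (hall (d.mem_D.mpr (Or.inr (Or.inr (Or.inl rfl)))))).symm)
  have hz4 : ((z : Q) : G) ^ 4 = 1 := h.pow_four hQ2 (z : Q).2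
  have hN2 : IsPGroup 2 (normalizer (Q : Set G)) := by
    rintro ⟨g, hg⟩
    have hgm := fun x => mem_normalizer_iff.mp hg x
    let z' : Q := ⟨g * ((z : Q) : G) * g⁻¹, (hgm _).mp (z : Q).2⟩
    have hz' : z' ∈ center Q := mem_center_iff.mpr fun q => by
      have hq' : g⁻¹ * (q : G) * g ∈ Q := (hgm _).mpr (by
        rw [show g * (g⁻¹ * (q : G) * g) * g⁻¹ = q by group]; exact q.2)
      have := congrArg Subtype.val (mem_center_iff.mp z.2 ⟨_, hq'⟩)
      simp only [Subgroup.coe_mul] at this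
      apply Subtype.ext
      show (q : G) * (g * ((z : Q) : G) * g⁻¹) = g * ((z : Q) : G) * g⁻¹ * q
      calc (q : G) * (g * ((z : Q) : G) * g⁻¹) = g * (g⁻¹ * (q : G) * g * ((z : Q) : G)) * g⁻¹ := by group
        _ = g * (((z : Q) : G) * (g⁻¹ * (q : G) * g)) * g⁻¹ := by rw [this]
        _ = g * ((z : Q) : G) * g⁻¹ * q := by group
    rcases huniq z' hz' with e1 | e1
    · have e2 : g * ((z : Q) : G) * g⁻¹ = 1 := congrArg Subtype.val e1
      rw [mul_inv_eq_one, mul_eq_left] at e2
      exact absurd (Subtype.ext (Subtype.ext e2)) hz1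
    have hc : g ∈ centralizer ({((z : Q) : G)} : Set G) :=
      mem_centralizer_singleton_iff.mpr (mul_inv_eq_iff_eq_mul.mp (congrArg Subtype.val e1))
    obtain ⟨k, hk⟩ := h.centralizer_two hz4 (fun e2 => hz1 (Subtype.ext (Subtype.ext e2))) ⟨g, hc⟩
    exact ⟨k, Subtype.ext (by simpa using congrArg Subtype.val hk)⟩
  have hNQ : normalizer (Q : Set G) = Q := hQmax _ hN2 le_normalizer
  have := Sylow.normalizer_sup_eq_top S
  rw [← hQdef, hNQ, sup_eq_right.mpr hQM] at this
  exact this

/-- A normal subgroup isomorphic to the alternating group of degree five is everything. -/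
theorem top_of_five (h : Ord5 G) (M : Subgroup G) [hM : M.Normal] (e : M ≃* alternatingGroup (Fin 5)) :
    M = ⊤ := by
  haveI := Fact.mk Nat.prime_two
  obtain ⟨a0, b0, w0, d0⟩ := fourData_five
  have dM := d0.map e.symm
  have d := four_lift h M dM
  set a := ((e.symm a0 : M) : G)
  set b := ((e.symm b0 : M) : G)
  set w := ((e.symm w0 : M) : G)
  have hwM : w ∈ M := (e.symm w0).2
  have haM : a ∈ M := (e.symm a0).2
  have hbM : b ∈ M := (e.symm b0).2
  have hcM : Nat.card M = 60 := (Nat.card_congr e.toEquiv).trans alt_card.1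
  obtain ⟨S, hS⟩ := (dM.isPGroup).exists_le_sylow
  have hS4 : Nat.card (S : Subgroup M) = 4 := by
    rw [S.card_eq_multiplicity, hcM, show 60 = 2 ^ 2 * 15 by norm_num,
      Nat.factorization_mul (by norm_num) (by norm_num), Nat.Prime.factorization_pow Nat.prime_two]
    simp [Nat.factorization_eq_zero_of_not_dvd (show ¬ 2 ∣ 15 by norm_num)]
  have hSD : (S : Subgroup M).map M.subtype = d.D := by
    refine (Subgroup.eq_of_le_of_card_ge (fun x hx => ?_) ?_).symm
    · rcases d.mem_D.mp hx with rfl | rfl | rfl | rfl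
      · exact one_mem _
      · exact Subgroup.mem_map_of_mem _ (hS (dM.mem_D.mpr (Or.inr (Or.inl rfl))))
      · exact Subgroup.mem_map_of_mem _ (hS (dM.mem_D.mpr (Or.inr (Or.inr (Or.inl rfl)))))
      · exact Subgroup.mem_map_of_mem _ (hS (dM.mem_D.mpr (Or.inr (Or.inr (Or.inr rfl)))))
    · rw [Subgroup.card_map_of_injective (Subgroup.subtype_injective M), hS4, d.card_D]
  have hDM : d.D ≤ M := hSD ▸ Subgroup.map_subtype_le _
  have hfr := Sylow.normalizer_sup_eq_top S
  rw [hSD] at hfr
  -- every coset has a representative fixing `a`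
  have rep : ∀ x : G, ∃ g, g * x⁻¹ ∈ M ∧ g * a * g⁻¹ = a ∧ (g ∈ M ∨ g * b * g⁻¹ = a * b) := by
    intro x
    obtain ⟨g0, hg0, m, hm, rfl⟩ := Subgroup.mem_sup_of_normal_right.mp (hfr.symm ▸ Subgroup.mem_top x)
    have hg0m : g0 * (g0 * m)⁻¹ ∈ M := by
      rw [show g0 * (g0 * m)⁻¹ = g0 * m⁻¹ * g0⁻¹ by group]; exact hM.conj_mem _ (inv_mem hm) _
    have wab : w * (a * b) * w⁻¹ = a := by
      rw [show w * (a * b) * w⁻¹ = (w * a * w⁻¹) * (w * b * w⁻¹) by group, d.wa, d.wb, d.comm,
        ← mul_assoc, d.bb, one_mul]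
    obtain ⟨g, hg, hgn, hga⟩ : ∃ g, g * (g0 * m)⁻¹ ∈ M ∧ (∀ y ∈ d.D, g * y * g⁻¹ ∈ d.D) ∧
        g * a * g⁻¹ = a := by
      have hn := fun y (hy : y ∈ d.D) => (mem_normalizer_iff.mp hg0 y).mp hy
      have hwn : ∀ y ∈ d.D, w * y * w⁻¹ ∈ d.D := fun y hy => d.mem_D.mpr (by
        rcases d.mem_D.mp hy with rfl | rfl | rfl | rfl
        · exact Or.inl (by group)
        · exact Or.inr (Or.inr (Or.inl d.wa))
        · exact Or.inr (Or.inr (Or.inr d.wb))
        · exact Or.inr (Or.inl wab))
      rcases d.mem_D.mp (hn a (d.mem_D.mpr (Or.inr (Or.inl rfl)))) with e1 | e1 | e1 | e1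
      · rw [mul_inv_eq_one, mul_eq_left] at e1
        exact absurd e1 d.a_ne
      · exact ⟨g0, hg0m, hn, e1⟩
      · refine ⟨w * w * g0, ?_, fun y hy => ?_, ?_⟩
        · rw [mul_assoc (w * w)]; exact mul_mem (mul_mem hwM hwM) hg0m
        · rw [show w * w * g0 * y * (w * w * g0)⁻¹ = w * (w * (g0 * y * g0⁻¹) * w⁻¹) * w⁻¹ by group]
          exact hwn _ (hwn _ (hn y hy))
        · rw [show w * w * g0 * a * (w * w * g0)⁻¹ = w * (w * (g0 * a * g0⁻¹) * w⁻¹) * w⁻¹ by group, e1, d.wb, wab]
      · refine ⟨w * g0, ?_, fun y hy => ?_, ?_⟩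
        · rw [mul_assoc w]; exact mul_mem hwM hg0m
        · rw [show w * g0 * y * (w * g0)⁻¹ = w * (g0 * y * g0⁻¹) * w⁻¹ by group]
          exact hwn _ (hn y hy)
        · rw [show w * g0 * a * (w * g0)⁻¹ = w * (g0 * a * g0⁻¹) * w⁻¹ by group, e1, wab]
    refine ⟨g, hg, hga, ?_⟩
    rcases d.mem_D.mp (hgn b (d.mem_D.mpr (Or.inr (Or.inr (Or.inl rfl))))) with e1 | e1 | e1 | e1
    · rw [mul_inv_eq_one, mul_eq_left] at e1
      exact absurd e1 d.b_ne
    · exfalso
      exact d.ab_ne (mul_left_cancel (mul_right_cancel (hga.trans e1.symm)))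
    · left
      exact hDM (d.mem_D.mpr (d.cent g (mul_inv_eq_iff_eq_mul.mp hga) (mul_inv_eq_iff_eq_mul.mp e1)))
    · exact Or.inr e1
  have prod : ∀ x y : G, x ∉ M → y ∉ M → x * y ∈ M := by
    intro x y hx hy
    obtain ⟨g1, h1, a1, b1⟩ := rep x
    obtain ⟨g2, h2, a2, b2⟩ := rep y
    have n1 : g1 ∉ M := fun h0 => hx (by
      rw [show x = (g1 * x⁻¹)⁻¹ * g1 by group]; exact mul_mem (inv_mem h1) h0)
    have n2 : g2 ∉ M := fun h0 => hy (by
      rw [show y = (g2 * y⁻¹)⁻¹ * g2 by group]; exact mul_mem (inv_mem h2) h0)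
    have hg : g1 * g2 ∈ M := by
      refine hDM (d.mem_D.mpr (d.cent _ ?_ ?_))
      · refine mul_inv_eq_iff_eq_mul.mp ?_
        rw [show g1 * g2 * a * (g1 * g2)⁻¹ = g1 * (g2 * a * g2⁻¹) * g1⁻¹ by group, a2, a1]
      · refine mul_inv_eq_iff_eq_mul.mp ?_
        rw [show g1 * g2 * b * (g1 * g2)⁻¹ = g1 * (g2 * b * g2⁻¹) * g1⁻¹ by group,
          b2.resolve_left n2, show g1 * (a * b) * g1⁻¹ = (g1 * a * g1⁻¹) * (g1 * b * g1⁻¹) by group,
          a1, b1.resolve_left n1, ← mul_assoc, d.aa, one_mul]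
    have e1 : (QuotientGroup.mk g1 : G ⧸ M) = QuotientGroup.mk x :=
      QuotientGroup.eq_iff_div_mem.mpr (by rwa [div_eq_mul_inv])
    have e2 : (QuotientGroup.mk g2 : G ⧸ M) = QuotientGroup.mk y :=
      QuotientGroup.eq_iff_div_mem.mpr (by rwa [div_eq_mul_inv])
    rw [← QuotientGroup.eq_one_iff, QuotientGroup.mk_mul, ← e1, ← e2, ← QuotientGroup.mk_mul,
      QuotientGroup.eq_one_iff]
    exact hg
  by_contra hne
  obtain ⟨x, -, hx⟩ := SetLike.not_le_iff_exists.mp (fun h0 : (⊤ : Subgroup G) ≤ M => hne (top_le_iff.mp h0))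
  have hidx : M.index = 2 := Subgroup.index_eq_two_iff.mpr ⟨x, fun y => by
    rcases em (y ∈ M) with hy | hy
    · exact Or.inr ⟨hy, fun h0 => hx ((M.mul_mem_cancel_left hy).mp h0)⟩
    · exact Or.inl ⟨prod y x hy hx, hy⟩⟩
  have hcG : Nat.card G = 120 := by rw [← Subgroup.card_mul_index M, hcM, hidx]
  -- the class of an element of order three
  haveI := Fact.mk Nat.prime_three
  set C := centralizer ({w} : Set G)
  have h20 : C.index ≤ 20 := by
    have hw3 : w ^ 3 = 1 := d.www
    have hw1 := d.w_ne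
    let f : G ⧸ C → {x : alternatingGroup (Fin 5) // x ^ 3 = 1 ∧ x ≠ 1} := Quotient.lift
      (fun g : G => ⟨e ⟨g * w * g⁻¹, hM.conj_mem w hwM g⟩, by
        rw [← map_pow, ← map_one e]
        exact congrArg e (Subtype.ext (by simp [conj_pow, hw3])), fun h0 => by
        rw [← map_one e] at h0
        have : g * w * g⁻¹ = 1 := congrArg Subtype.val (e.injective h0)
        rw [mul_inv_eq_one, mul_eq_left] at this
        exact hw1 this⟩)
      (fun g g' hgg => by
        have hm := mem_centralizer_singleton_iff.mp (QuotientGroup.leftRel_apply.mp hgg)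
        refine Subtype.ext (congrArg e (Subtype.ext ?_))
        show g * w * g⁻¹ = g' * w * g'⁻¹
        rw [show g' * w * g'⁻¹ = g * (g⁻¹ * g' * w) * g'⁻¹ by group, hm]
        group)
    have hf : Function.Injective f := by
      intro p q
      refine Quotient.inductionOn₂ p q fun g g' hpq => Quotient.sound ?_
      have h0 : g * w * g⁻¹ = g' * w * g'⁻¹ :=
        congrArg Subtype.val (e.injective (congrArg Subtype.val hpq))
      refine QuotientGroup.leftRel_apply.mpr (mem_centralizer_singleton_iff.mpr ?_)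
      calc g⁻¹ * g' * w = g⁻¹ * (g' * w * g'⁻¹) * g' := by group
        _ = w * (g⁻¹ * g') := by rw [← h0]; group
    have := Nat.card_le_card_of_injective f hf
    rwa [five_three_count] at this
  have hC3 : Nat.card C ∣ 3 := by
    obtain ⟨k, hk⟩ := IsPGroup.iff_card.mp (h.centralizer_isPGroup Nat.prime_three (by norm_num) d.www d.w_ne)
    have hd : 3 ^ k ∣ 120 := hk ▸ hcG ▸ Subgroup.card_subgroup_dvd_card C
    rw [hk]
    refine (Nat.Coprime.dvd_mul_right (Nat.Coprime.pow_left k (by norm_num : Nat.Coprime 3 40))).mp ?_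
    simpa using hd
  have := Subgroup.card_mul_index C
  rw [hcG] at this
  have h3 := Nat.le_of_dvd (by norm_num) hC3
  nlinarith

theorem sup_solvable {N R : Subgroup G} [hR : R.Normal] (hN : Group.IsSolvable N) (hR' : Group.IsSolvable R) :
    Group.IsSolvable (N ⊔ R : Subgroup G) := by
  haveI := hN
  haveI := hR'
  have h1 : Group.IsSolvable ((N.map (QuotientGroup.mk' R)) : Subgroup (G ⧸ R)) :=
    Group.isSolvable_of_surjective ((QuotientGroup.mk' R).subgroupMap_surjective N)
  haveI := h1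
  let f : (N ⊔ R : Subgroup G) →* N.map (QuotientGroup.mk' R) :=
    ((QuotientGroup.mk' R).comp (N ⊔ R).subtype).codRestrict _ (fun x => by
      obtain ⟨n, hn, r, hr, e⟩ := Subgroup.mem_sup_of_normal_right.mp x.2
      refine ⟨n, hn, ?_⟩
      show QuotientGroup.mk' R n = QuotientGroup.mk' R (x : G)
      rw [← e, map_mul, (QuotientGroup.eq_one_iff r).mpr hr |> fun e1 => (show QuotientGroup.mk' R r = 1 from e1),
        mul_one])
  refine Group.isSolvable_of_ker_le_range (Subgroup.inclusion (le_sup_right : R ≤ N ⊔ R)) f fun x hx => ?_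
  exact ⟨⟨x, (QuotientGroup.eq_one_iff (x : G)).mp (congrArg Subtype.val (MonoidHom.mem_ker.mp hx))⟩, rfl⟩

/-- The structure of a nonsolvable group with element orders at most five. -/
theorem main : ∀ (G : Type u) [Group G] [Finite G], Ord5 G → ¬ Group.IsSolvable G →
    Nonempty (G ≃* alternatingGroup (Fin 6)) ∨
      ∃ (N : Subgroup G) (_ : N.Normal), Cfsg.IsElementaryAbelian 2 N ∧
        Nonempty (G ⧸ N ≃* alternatingGroup (Fin 5)) := by
  suffices H : ∀ (n : ℕ) (G : Type u) [Group G] [Finite G], Nat.card G ≤ n → Ord5 G → ¬ Group.IsSolvable G →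
      Nonempty (G ≃* alternatingGroup (Fin 6)) ∨
        ∃ (N : Subgroup G) (_ : N.Normal), Cfsg.IsElementaryAbelian 2 N ∧
          Nonempty (G ⧸ N ≃* alternatingGroup (Fin 5)) from
    fun G _ _ h hns => H (Nat.card G) G le_rfl h hns
  intro n
  induction n with
  | zero =>
    intro G _ _ hn
    have := Nat.card_pos (α := G)
    omega
  | succ n ih =>
    intro G _ _ hn h hns
    haveI := Fact.mk Nat.prime_two
    obtain ⟨R, ⟨hRn, hRs⟩, hRbig⟩ := Set.exists_max_image {N : Subgroup G | N.Normal ∧ Group.IsSolvable N}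
      (fun N => Nat.card N) (Set.toFinite _) ⟨⊥, inferInstance, inferInstance⟩
    haveI := hRn
    have hRmax : ∀ N : Subgroup G, N.Normal → Group.IsSolvable N → N ≤ R := fun N hN hNs => by
      haveI := hN
      have h1 : N ⊔ R = R := (Subgroup.eq_of_le_of_card_ge le_sup_right
        (hRbig (N ⊔ R) ⟨inferInstance, sup_solvable hNs hRs⟩)).symm
      exact h1 ▸ le_sup_left
    obtain ⟨⟨p, hp, hRp⟩, ⟨M, hMn, hMs, hMna, -⟩, -⟩ :=
      Cfsg.Agent.S3992.result hns (fun g hg => h.isPrimePow g hg) R hRs hRmax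
    haveI := hMn
    haveI := hMs
    have hX : Ord5 (G ⧸ R) := h.quotient R
    have hMX : Nat.card M ≤ Nat.card G :=
      (Nat.card_le_card_of_injective _ M.subtype_injective).trans
        (Nat.card_le_card_of_surjective _ (QuotientGroup.mk'_surjective R))
    have hsmall : Small M := by
      intro K _ _ hK hK5 hKns hKc
      rcases ih K (by omega) hK5 hKns with e | ⟨N, hNn, ⟨-, hN2⟩, ⟨e⟩⟩
      · exact Or.inr e
      · left
        have hle : N ≤ Cfsg.pCore 2 K := Cfsg.Agent.Grp.le_pCore hNn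
          fun x => ⟨1, Subtype.ext (by simpa using hN2 x x.2)⟩
        rw [hKc, le_bot_iff] at hle
        subst hle
        exact ⟨QuotientGroup.quotientBot.symm.trans e⟩
    have hMe := simple_case (hX.subgroup M) hMna hsmall
    have hMtop : M = ⊤ := by
      rcases hMe with ⟨⟨e⟩⟩ | ⟨⟨e⟩⟩
      · exact top_of_five hX M e
      · exact top_of_six hX M e
    subst hMtop
    haveI := Fact.mk hp
    have eX : (⊤ : Subgroup (G ⧸ R)) ≃* (G ⧸ R) := Subgroup.topEquiv
    rcases hMe with ⟨⟨e⟩⟩ | ⟨⟨e⟩⟩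
    · -- degree five
      right
      have e' := eX.symm.trans e
      refine ⟨R, hRn, ?_, ⟨e'⟩⟩
      have hsq : ∀ x ∈ R, x * x = 1 := by
        rcases eq_or_ne p 2 with rfl | hp2
        · obtain ⟨k, t, hkt⟩ := invPair_five
          have hkt' : InvPair 3 (e'.symm k) (e'.symm t) :=
            ⟨hkt.prime, hkt.odd, by rw [← map_pow, hkt.pow, map_one],
              fun e0 => hkt.ne (e'.symm.injective (e0.trans (map_one _).symm)),
              by rw [← map_mul, hkt.sq, map_one], by rw [← map_mul, ← map_mul, hkt.inv, map_inv]⟩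
          obtain ⟨k', t', hkt'', -, -⟩ := lift_invPair h R hRp hkt'
          exact (elem_of_invPair h hRp hkt'' (by rw [Subgroup.normalizer_eq_top]; exact Subgroup.mem_top _)
            (by rw [Subgroup.normalizer_eq_top]; exact Subgroup.mem_top _)).1
        · obtain ⟨a, b, w, d⟩ := fourData_five
          intro x hx
          rw [radical_odd h R hp2 hRp (d.map e'.symm)] at hx
          rw [Subgroup.mem_bot.mp hx, one_mul]
      exact ⟨⟨⟨fun x y => Subtype.ext (comm_of_sq hsq x x.2 y y.2)⟩⟩,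
        fun x hx => by rw [pow_two]; exact hsq x hx⟩
    · -- degree six
      left
      have e' := eX.symm.trans e
      have hR1 : R = ⊥ := by
        rcases eq_or_ne p 2 with rfl | hp2
        · by_contra hR1
          haveI := Fact.mk Nat.prime_three
          have h9 : 3 ^ 2 ∣ Nat.card G := by
            have : Nat.card (G ⧸ R) = 360 := (Nat.card_congr e'.toEquiv).trans alt_card.2
            rw [Subgroup.card_eq_card_quotient_mul_card_subgroup R, this]
            exact Dvd.dvd.mul_right (by norm_num) _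
          obtain ⟨P, hP⟩ := Sylow.exists_subgroup_card_pow_prime 3 h9
          have := h.card_dvd_of_fpf (p := 3) (q := 2) (by norm_num) (by norm_num) (IsPGroup.of_card hP) hRp hR1
            (by rw [Subgroup.normalizer_eq_top]; exact le_top)
          rw [hP] at this
          exact absurd (Nat.le_of_dvd (by norm_num) this) (by norm_num)
        · obtain ⟨a, b, w, d⟩ := fourData_six
          exact radical_odd h R hp2 hRp (d.map e'.symm)
      subst hR1
      exact ⟨QuotientGroup.quotientBot.symm.trans e'⟩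

end Cfsg.Agent.Block.Spec5
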